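import Cfsg.Agent.Lib.J3.CentBound
import Cfsg.Agent.Lib.LargeExtra.Affine
import Cfsg.Agent.Lib.LargeExtra.Centralizer
import Cfsg.Agent.Lib.LargeExtra.SimpleCrit

/-!
The centraliser of an involution in the third Janko group: extraspecial of order 32 by the alternating group
of degree five.
-/

set_option autoImplicit false
set_option linter.unusedSectionVars false

namespace Cfsg.Agent.Lib.J3.Cent

open Cfsg.Spor Cfsg.Agent.Lib.J3
open scoped MatrixGroups

/-- Inverses. -/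
theorem qm_inv : ∀ i < 32, ∃ j < 32, qm i j = 0 ∧ qm j i = 0 := by decide +kernel

theorem qm_center : ∀ i < 32, qm i 1 = qm 1 i ∧ (qm i i = 0 ∨ qm i i = 1) ∧
    ((∀ j < 32, qm j i = qm i j) → i = 0 ∨ i = 1) := by decide +kernel

theorem qm_inv_iff : ∀ i < 32, (qm i i = 0 ∧ i ≠ 0 ∧ i ≠ 1) ↔ 2 ≤ i ∧ i < 12 := by decide +kernel

theorem qm_conj : ∀ k < 32, ∀ i < 32, 2 ≤ i → i < 12 →
    qm k i = qm i k ∨ qm k i = qm (qm 1 i) k := by decide +kernel

theorem qm_pair : ∀ i < 32, 2 ≤ i → i < 12 → qm 1 i < 12 ∧ 2 ≤ qm 1 i ∧ (qm 1 i - 2) / 2 = (i - 2) / 2 ∧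
    (i = 2 + 2 * ((i - 2) / 2) ∨ i = qm 1 (2 + 2 * ((i - 2) / 2))) := by decide +kernel

/-- A word as a map of the pairs. -/
def wperm : List ℕ → ℕ → ℕ
  | [], p => p
  | k :: w, p => cperm k (wperm w p)

theorem cWords_spec : cWords.length = 60 ∧ (∀ w ∈ cWords, ∀ k ∈ w, k < 2) ∧
    (cWords.map fun w => (List.range 5).map (wperm w)).Nodup := by decide +kernel

theorem invSteps_spec : (∀ n < invSteps.length, ∀ s, invSteps[n]? = some s →
      s.1 < 32 ∧ s.2.2 < 32 ∧ (s.2.2 = 2 ∨ s.2.2 ∈ (invSteps.take n).map (·.1)) ∧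
      (if s.2.1 < 2 then cact s.2.1 s.2.2 = s.1
        else s.2.1 - 2 < 32 ∧ qm (s.2.1 - 2) s.2.2 = qm s.1 (s.2.1 - 2))) ∧
    ∀ j < 12, 2 ≤ j → j = 2 ∨ j ∈ invSteps.map (·.1) := by
  refine ⟨?_, by decide +kernel⟩
  have h : (List.range invSteps.length).all (fun n =>
      match invSteps[n]? with
      | none => true
      | some s => decide (s.1 < 32 ∧ s.2.2 < 32 ∧ (s.2.2 = 2 ∨ s.2.2 ∈ (invSteps.take n).map (·.1)) ∧
          (if s.2.1 < 2 then cact s.2.1 s.2.2 = s.1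
            else s.2.1 - 2 < 32 ∧ qm (s.2.1 - 2) s.2.2 = qm s.1 (s.2.1 - 2)))) = true := by decide +kernel
  intro n hn s hs
  have h' := all_range h hn
  rw [hs] at h'
  exact of_decide_eq_true h'

theorem qProds_spec : ∀ i < 32, (∀ j ∈ qProds.getD i [], 2 ≤ j ∧ j < 12) ∧
    (qProds.getD i []).foldl qm 0 = i := by decide +kernel

theorem qPair_spec : qPair.1 < 32 ∧ qPair.2 < 32 ∧ qm qPair.1 2 = qm 2 qPair.1 ∧ qm qPair.2 2 = qm 2 qPair.2 ∧
    qm qPair.1 qPair.2 ≠ qm qPair.2 qPair.1 := by decide +kernel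

variable {F : Type*} [Field F] [Finite F] {ω : F}

/-- An element of the normal subgroup. -/
noncomputable def qT (ω : F) (i : ℕ) : threeJ3 F ω := el ω (qc i)

/-- One of the two elements. -/
noncomputable def cT (ω : F) (k : ℕ) : threeJ3 F ω := el ω (cc k)

theorem Fld.inG_qc (h : Fld F ω) {i : ℕ} (hi : i < 32) : InG ω (qc i) := by
  obtain ⟨h1, h2, -⟩ := qOk_spec.1 i hi
  rw [h2]; exact (h.dval_spec h1).1

theorem Fld.inG_cc (h : Fld F ω) {k : ℕ} (hk : k < 2) : InG ω (cc k) := by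
  obtain ⟨h1, h2, -⟩ := qOk_spec.2.1 k hk
  rw [h2]; exact (h.dval_spec h1).1

theorem Fld.qT_mul (h : Fld F ω) {i j : ℕ} (hi : i < 32) (hj : j < 32) :
    qT ω i * qT ω j = qT ω (qm i j) := by
  obtain ⟨-, -, -, h4⟩ := qOk_spec.1 i hi
  rw [qT, qT, ← h.el_mul (Fld.inG_qc h hi) (Fld.inG_qc h hj), (h4 j hj).2]
  rfl

theorem Fld.qT_zero (h : Fld F ω) : qT ω 0 = 1 := by
  rw [qT, qOk_spec.2.2, h.el_idM]

theorem Fld.qT_inj (h : Fld F ω) {i j : ℕ} (hi : i < 32) (hj : j < 32) (e : qT ω i = qT ω j) : i = j := by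
  have hc : qc i = qc j := h.el_inj (Fld.inG_qc h hi) (Fld.inG_qc h hj) (getM_lt _ _) (getM_lt _ _) e
  rcases lt_trichotomy i j with hlt | heq | hlt
  · exact absurd hc ((qOk_spec.1 j hj).2.2.1 i hlt)
  · exact heq
  · exact absurd hc.symm ((qOk_spec.1 i hi).2.2.1 j hlt)

/-- The normal subgroup. -/
noncomputable def QT (h : Fld F ω) : Subgroup (threeJ3 F ω) where
  carrier := {x | ∃ i < 32, x = qT ω i}
  one_mem' := ⟨0, by norm_num, (Fld.qT_zero h).symm⟩
  mul_mem' := by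
    rintro _ _ ⟨i, hi, rfl⟩ ⟨j, hj, rfl⟩
    exact ⟨_, ((qOk_spec.1 i hi).2.2.2 j hj).1, Fld.qT_mul h hi hj⟩
  inv_mem' := by
    rintro _ ⟨i, hi, rfl⟩
    obtain ⟨j, hj, e, -⟩ := qm_inv i hi
    exact ⟨j, hj, inv_eq_of_mul_eq_one_right (by rw [Fld.qT_mul h hi hj, e, Fld.qT_zero h])⟩

theorem mem_QT {h : Fld F ω} {x : threeJ3 F ω} : x ∈ QT h ↔ ∃ i < 32, x = qT ω i := Iff.rfl

theorem card_QT (h : Fld F ω) : Nat.card (QT h) = 32 := by
  have hb : Function.Bijective (fun i : Fin 32 => (⟨qT ω i, i, i.2, rfl⟩ : QT h)) :=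
    ⟨fun i j e => Fin.ext (Fld.qT_inj h i.2 j.2 (congrArg Subtype.val e)), fun x => by
      obtain ⟨x, i, hi, rfl⟩ := x
      exact ⟨⟨i, hi⟩, rfl⟩⟩
  rw [← Nat.card_congr (Equiv.ofBijective _ hb), Nat.card_eq_fintype_card, Fintype.card_fin]

theorem zT_eq : zT ω = qT ω 1 := rfl

theorem Fld.qT_mem_CT (h : Fld F ω) {i : ℕ} (hi : i < 32) : qT ω i ∈ CT ω := by
  rw [Subgroup.mem_centralizer_singleton_iff, zT_eq, Fld.qT_mul h hi (by norm_num),
    Fld.qT_mul h (by norm_num) hi, (qm_center i hi).1]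

theorem isExtraspecial_QT (h : Fld F ω) : Cfsg.IsExtraspecial 2 (QT h) := by
  refine Cfsg.Agent.LargeExtra.Affine.isExtraspecial_mk (z := qT ω 1)
    (IsPGroup.of_card (n := 5) (by rw [card_QT h]; norm_num)) ⟨1, by norm_num, rfl⟩ ?_ ?_ ?_ ?_ ?_
  · intro e
    have := Fld.qT_inj h (by norm_num) (by norm_num) (e.trans (Fld.qT_zero h).symm)
    norm_num at this
  · rintro x ⟨i, hi, rfl⟩
    rw [Fld.qT_mul h hi (by norm_num), Fld.qT_mul h (by norm_num) hi, (qm_center i hi).1]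
  · rintro x ⟨i, hi, rfl⟩
    rw [Fld.qT_mul h hi hi]
    rcases (qm_center i hi).2.1 with e | e
    · exact Or.inl (by rw [e, Fld.qT_zero h])
    · exact Or.inr (by rw [e])
  · rintro x ⟨i, hi, rfl⟩ hc
    rcases (qm_center i hi).2.2 fun j hj => Fld.qT_inj h ((qOk_spec.1 j hj).2.2.2 i hi).1
      ((qOk_spec.1 i hi).2.2.2 j hj).1 (by
        rw [← Fld.qT_mul h hj hi, ← Fld.qT_mul h hi hj]; exact hc _ ⟨j, hj, rfl⟩) with e | e
    · exact Or.inl (by rw [e, Fld.qT_zero h])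
    · exact Or.inr (by rw [e])
  · obtain ⟨p1, p2, -, -, p5⟩ := qPair_spec
    refine ⟨_, ⟨_, p1, rfl⟩, _, ⟨_, p2, rfl⟩, fun e => p5 ?_⟩
    rw [Fld.qT_mul h p2 p1, Fld.qT_mul h p1 p2] at e
    exact (Fld.qT_inj h ((qOk_spec.1 _ p2).2.2.2 _ p1).1 ((qOk_spec.1 _ p1).2.2.2 _ p2).1 e).symm

theorem Fld.cT_conj (h : Fld F ω) {k i : ℕ} (hk : k < 2) (hi : i < 32) :
    cT ω k * qT ω i * (cT ω k)⁻¹ = qT ω (cact k i) := by
  obtain ⟨h1, h2⟩ := (qOk_spec.2.1 k hk).2.2.2.1 i hi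
  have e := congrArg (el ω) h2
  rw [h.el_mul (Fld.inG_cc h hk) (Fld.inG_qc h hi), h.el_mul (Fld.inG_qc h h1) (Fld.inG_cc h hk)] at e
  rw [cT, qT, e, mul_inv_cancel_right]
  rfl

/-- The normaliser of the normal subgroup in the centraliser. -/
noncomputable abbrev NT (h : Fld F ω) : Subgroup (threeJ3 F ω) :=
  Subgroup.normalizer (QT h : Set (threeJ3 F ω)) ⊓ CT ω

theorem Fld.cT_mem (h : Fld F ω) {k : ℕ} (hk : k < 2) : cT ω k ∈ NT h := by
  refine Subgroup.mem_inf.2 ⟨?_, ?_⟩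
  · have hsub : (QT h).map (MulAut.conj (cT ω k)).toMonoidHom ≤ QT h := by
      rintro _ ⟨_, ⟨i, hi, rfl⟩, rfl⟩
      exact ⟨_, ((qOk_spec.2.1 k hk).2.2.2.1 i hi).1, Fld.cT_conj h hk hi⟩
    have heq : (QT h).map (MulAut.conj (cT ω k)).toMonoidHom = QT h :=
      Subgroup.eq_of_le_of_card_ge hsub (by
        rw [Subgroup.card_map_of_injective (MulEquiv.injective _)])
    rw [Subgroup.mem_normalizer_iff]
    intro y
    conv_rhs => rw [← heq, Subgroup.mem_map_equiv, MulAut.conj_symm_apply]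
    rw [show (cT ω k)⁻¹ * (cT ω k * y * (cT ω k)⁻¹) * cT ω k = y by group]
  · rw [Subgroup.mem_centralizer_singleton_iff, cT, zT]
    obtain ⟨-, -, h3, -⟩ := qOk_spec.2.1 k hk
    rw [← h.el_mul (Fld.inG_cc h hk) (Fld.inSub_zc h).1, ← h.el_mul (Fld.inSub_zc h).1 (Fld.inG_cc h hk), h3]

theorem Fld.exists_image (h : Fld F ω) (g : NT h) {i : ℕ} (hi : 2 ≤ i) (hi' : i < 12) :
    ∃ j, (2 ≤ j ∧ j < 12) ∧ (g : threeJ3 F ω) * qT ω i * (g : threeJ3 F ω)⁻¹ = qT ω j := by
  have hi32 : i < 32 := by omega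
  obtain ⟨j, hj, e⟩ := mem_QT.1 ((Subgroup.mem_normalizer_iff.1 g.2.1 (qT ω i)).1 ⟨i, hi32, rfl⟩)
  obtain ⟨a, b, c⟩ := (qm_inv_iff i hi32).2 ⟨hi, hi'⟩
  refine ⟨j, (qm_inv_iff j hj).1 ⟨?_, ?_, ?_⟩, e⟩
  · refine Fld.qT_inj h ((qOk_spec.1 j hj).2.2.2 j hj).1 (by norm_num) ?_
    rw [← Fld.qT_mul h hj hj, ← e, Fld.qT_zero h]
    calc _ = (g : threeJ3 F ω) * (qT ω i * qT ω i) * (g : threeJ3 F ω)⁻¹ := by group
      _ = 1 := by rw [Fld.qT_mul h hi32 hi32, a, Fld.qT_zero h]; group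
  · rintro rfl
    rw [Fld.qT_zero h, conj_eq_one_iff, ← Fld.qT_zero h] at e
    exact b (Fld.qT_inj h hi32 (by norm_num) e)
  · rintro rfl
    refine c (Fld.qT_inj h hi32 (by norm_num) ?_)
    have hg := Subgroup.mem_centralizer_singleton_iff.1 g.2.2
    rw [zT_eq] at hg
    rw [mul_inv_eq_iff_eq_mul, ← hg] at e
    exact mul_left_cancel e

/-- The index of the image. -/
noncomputable def img (h : Fld F ω) (g : NT h) (p : Fin 5) : ℕ :=
  (Fld.exists_image h g (i := 2 + 2 * p.val) (by omega) (by omega)).choose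

theorem img_spec (h : Fld F ω) (g : NT h) (p : Fin 5) : (2 ≤ img h g p ∧ img h g p < 12) ∧
    (g : threeJ3 F ω) * qT ω (2 + 2 * p.val) * (g : threeJ3 F ω)⁻¹ = qT ω (img h g p) :=
  (Fld.exists_image h g (i := 2 + 2 * p.val) (by omega) (by omega)).choose_spec

/-- The map of pairs. -/
noncomputable def act (h : Fld F ω) (g : NT h) (p : Fin 5) : Fin 5 :=
  ⟨(img h g p - 2) / 2, by have := (img_spec h g p).1; omega⟩

theorem act_eq (h : Fld F ω) (g : NT h) {i j : ℕ} (hi : 2 ≤ i) (hi' : i < 12) (hj : j < 32)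
    (e : (g : threeJ3 F ω) * qT ω i * (g : threeJ3 F ω)⁻¹ = qT ω j) (p : Fin 5) (hp : p.val = (i - 2) / 2) :
    (act h g p).val = (j - 2) / 2 := by
  obtain ⟨⟨a, b⟩, e'⟩ := img_spec h g p
  show (img h g p - 2) / 2 = _
  rcases (qm_pair i (by omega) hi hi').2.2.2 with hc | hc
  · rw [hp, ← hc, e] at e'
    rw [Fld.qT_inj h hj (by omega) e']
  · rw [← hp] at hc
    have h1 : qT ω i = qT ω 1 * qT ω (2 + 2 * p.val) := by
      rw [Fld.qT_mul h (by norm_num) (by omega), ← hc]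
    have hg := Subgroup.mem_centralizer_singleton_iff.1 g.2.2
    rw [zT_eq] at hg
    have h2 : qT ω j = qT ω (qm 1 (img h g p)) := by
      rw [← Fld.qT_mul h (by norm_num) (by omega), ← e', ← e, h1]
      calc _ = ((g : threeJ3 F ω) * qT ω 1) * qT ω (2 + 2 * p.val) * (g : threeJ3 F ω)⁻¹ := by group
        _ = _ := by rw [hg]; group
    obtain ⟨q1, -, q3, -⟩ := qm_pair (img h g p) (by omega) a b
    rw [Fld.qT_inj h hj (by omega) h2, q3]

theorem act_mul (h : Fld F ω) (g g' : NT h) (p : Fin 5) : act h (g * g') p = act h g (act h g' p) := by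
  obtain ⟨⟨a, b⟩, e⟩ := img_spec h g' p
  obtain ⟨j, ⟨-, hj⟩, ej⟩ := Fld.exists_image h g a b
  refine Fin.ext ?_
  rw [act_eq h g a b (by omega) ej _ rfl,
    act_eq h (g * g') (i := 2 + 2 * p.val) (j := j) (by omega) (by omega) (by omega) ?_ p (by omega)]
  rw [Subgroup.coe_mul, ← ej, ← e]
  group

theorem act_one (h : Fld F ω) (p : Fin 5) : act h 1 p = p := by
  refine Fin.ext ?_
  rw [act_eq h 1 (i := 2 + 2 * p.val) (j := 2 + 2 * p.val) (by omega) (by omega) (by omega) (by simp) p (by omega)]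
  omega

/-- The action on the five pairs. -/
noncomputable def phi5 (h : Fld F ω) : NT h →* Equiv.Perm (Fin 5) :=
  MonoidHom.mk' (fun g => ⟨act h g, act h g⁻¹,
      fun p => by rw [← act_mul, inv_mul_cancel, act_one],
      fun p => by rw [← act_mul, mul_inv_cancel, act_one]⟩)
    fun g g' => Equiv.ext fun p => act_mul h g g' p

theorem phi5_cT (h : Fld F ω) {k : ℕ} (hk : k < 2) (p : Fin 5) :
    (phi5 h ⟨_, Fld.cT_mem h hk⟩ p).val = cperm k p := by
  obtain ⟨h1, h2⟩ := (qOk_spec.2.1 k hk).2.2.2.2 p p.2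
  show (act h _ p).val = _
  rw [act_eq h _ (i := 2 + 2 * p.val) (j := cact k (2 + 2 * p.val)) (by omega) (by omega)
    ((qOk_spec.2.1 k hk).2.2.2.1 _ (by omega)).1 (Fld.cT_conj h hk (by omega)) p (by omega)]
  omega

theorem phi5_word (h : Fld F ω) : ∀ w : List ℕ, (∀ k ∈ w, k < 2) →
    ∃ g : NT h, ∀ p : Fin 5, (phi5 h g p).val = wperm w p
  | [], _ => ⟨1, fun p => by rw [map_one]; rfl⟩
  | k :: w, hw => by
    obtain ⟨g, hg⟩ := phi5_word h w fun a ha => hw a (List.mem_cons_of_mem _ ha)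
    refine ⟨⟨_, Fld.cT_mem h (hw k List.mem_cons_self)⟩ * g, fun p => ?_⟩
    rw [map_mul, Equiv.Perm.mul_apply, phi5_cT h (hw k List.mem_cons_self), hg]
    rfl

theorem le_card_range (h : Fld F ω) : 60 ≤ Nat.card (phi5 h).range := by
  obtain ⟨h1, h2, h3⟩ := cWords_spec
  choose g hg using fun n : Fin cWords.length => phi5_word h cWords[n.val] (h2 _ (List.getElem_mem _))
  have hinj : Function.Injective fun n => (⟨phi5 h (g n), g n, rfl⟩ : (phi5 h).range) := by
    intro a b e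
    refine Fin.ext ((h3.getElem_inj_iff (hi := by simp) (hj := by simp)).1 ?_)
    rw [List.getElem_map, List.getElem_map]
    refine List.map_congr_left fun p hp => ?_
    have hp' := List.mem_range.1 hp
    have e' := congrArg (fun σ : (phi5 h).range => ((σ : Equiv.Perm (Fin 5)) ⟨p, hp'⟩).val) e
    simpa [hg] using e'
  have := Nat.card_le_card_of_injective _ hinj
  rwa [Nat.card_eq_fintype_card (α := Fin _), Fintype.card_fin, h1] at this

theorem QT_le (h : Fld F ω) : QT h ≤ NT h := fun x hx => by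
  refine ⟨Subgroup.le_normalizer hx, ?_⟩
  obtain ⟨i, hi, rfl⟩ := hx
  exact Fld.qT_mem_CT h hi

theorem center_le_NT (h : Fld F ω) : Subgroup.center (threeJ3 F ω) ≤ NT h := fun x hx => by
  rw [Subgroup.mem_center_iff] at hx
  refine ⟨Subgroup.mem_normalizer_iff.2 fun y => ?_, Subgroup.mem_centralizer_singleton_iff.2 (hx _).symm⟩
  rw [show x * y * x⁻¹ = y by rw [← hx y, mul_inv_cancel_right]]

theorem disjoint_center (h : Fld F ω) : Disjoint (QT h) (Subgroup.center (threeJ3 F ω)) :=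
  disjoint_iff.2 (Subgroup.inf_eq_bot_of_coprime (by rw [card_QT h, h.card_center]; norm_num))

/-- The product of the normal subgroup and the centre lies in the kernel. -/
noncomputable def toKer (h : Fld F ω) (x : QT h × Subgroup.center (threeJ3 F ω)) : (phi5 h).ker :=
  ⟨⟨x.1.1, QT_le h x.1.2⟩ * ⟨x.2.1, center_le_NT h x.2.2⟩, by
    refine mul_mem ?_ ?_ <;> refine MonoidHom.mem_ker.2 (Equiv.ext fun p => Fin.ext ?_)
    · obtain ⟨k, hk, e⟩ := mem_QT.1 x.1.2
      have hp : 2 + 2 * p.val < 32 := by omega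
      show (act h _ p).val = p.val
      rcases qm_conj k hk _ hp (by omega) (by omega) with e' | e'
      · rw [act_eq h _ (i := 2 + 2 * p.val) (j := 2 + 2 * p.val) (by omega) (by omega) hp ?_ p (by omega)]
        · omega
        · show x.1.1 * _ * x.1.1⁻¹ = _
          rw [e, Fld.qT_mul h hk hp, e', ← Fld.qT_mul h hp hk, mul_inv_cancel_right]
      · obtain ⟨q1, -, q3, -⟩ := qm_pair _ hp (by omega) (by omega)
        rw [act_eq h _ (i := 2 + 2 * p.val) (j := qm 1 (2 + 2 * p.val)) (by omega) (by omega) (by omega) ?_ p (by omega)]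
        · omega
        · show x.1.1 * _ * x.1.1⁻¹ = _
          rw [e, Fld.qT_mul h hk hp, e', ← Fld.qT_mul h (by omega) hk, mul_inv_cancel_right]
    · show (act h _ p).val = p.val
      rw [act_eq h _ (i := 2 + 2 * p.val) (j := 2 + 2 * p.val) (by omega) (by omega) (by omega) ?_ p (by omega)]
      · omega
      · show x.2.1 * _ * x.2.1⁻¹ = _
        rw [← Subgroup.mem_center_iff.1 x.2.2 _, mul_inv_cancel_right]⟩

theorem toKer_injective (h : Fld F ω) : Function.Injective (toKer h) := fun x y e => by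
  refine Subgroup.mul_injective_of_disjoint (disjoint_center h) ?_
  exact congrArg (fun t : (phi5 h).ker => ((t : NT h) : threeJ3 F ω)) e

theorem card_facts (h : Fld F ω) : Nat.card (phi5 h).range = 60 ∧ Nat.card (phi5 h).ker = 96 ∧ NT h = CT ω := by
  have hle : NT h ≤ CT ω := inf_le_right
  have h1 := le_card_range h
  have h2 : 96 ≤ Nat.card (phi5 h).ker := by
    have := Nat.card_le_card_of_injective _ (toKer_injective h)
    rwa [Nat.card_prod, card_QT h, h.card_center] at this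
  have h3 : Nat.card (phi5 h).range * Nat.card (phi5 h).ker = Nat.card (NT h) := by
    rw [← Subgroup.index_ker, Subgroup.index_mul_card]
  have h4 : Nat.card (NT h) ≤ Nat.card (CT ω) := Subgroup.card_le_of_le hle
  have h5 := Fld.card_CT_le h
  refine ⟨by nlinarith, by nlinarith, Subgroup.eq_of_le_of_card_ge hle ?_⟩
  nlinarith

theorem card_CT (h : Fld F ω) : Nat.card (CT ω) = 5760 := by
  obtain ⟨a, b, c⟩ := card_facts h
  rw [← c, ← Subgroup.index_mul_card (phi5 h).ker, Subgroup.index_ker, a, b]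

theorem toKer_surjective (h : Fld F ω) : Function.Surjective (toKer h) :=
  ((toKer_injective h).bijective_of_nat_card_le (by
    rw [Nat.card_prod, card_QT h, h.card_center, (card_facts h).2.1])).2

/-- The involution of the simple group. -/
noncomputable def zJ (ω : F) : J3 F ω := QuotientGroup.mk' (Subgroup.center (threeJ3 F ω)) (zT ω)

/-- Its centraliser. -/
abbrev CJ (ω : F) : Subgroup (J3 F ω) := Subgroup.centralizer ({zJ ω} : Set (J3 F ω))

theorem zT_sq (h : Fld F ω) : zT ω * zT ω = 1 := by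
  rw [zT_eq, Fld.qT_mul h (by norm_num) (by norm_num), ← Fld.qT_zero h]
  rfl

theorem centralizes_iff (h : Fld F ω) (g : threeJ3 F ω) :
    QuotientGroup.mk' (Subgroup.center (threeJ3 F ω)) g * zJ ω =
      zJ ω * QuotientGroup.mk' (Subgroup.center (threeJ3 F ω)) g ↔ g ∈ CT ω := by
  rw [Subgroup.mem_centralizer_singleton_iff]
  constructor
  · intro e
    rw [zJ, ← map_mul, ← map_mul, QuotientGroup.mk'_eq_mk'] at e
    obtain ⟨c, hc, e⟩ := e
    have hc' := Subgroup.mem_center_iff.1 hc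
    have e1 : g * zT ω * g⁻¹ * c = zT ω := by
      rw [mul_assoc (g * zT ω), hc' g⁻¹, ← mul_assoc, e, mul_inv_cancel_right]
    have hc2 : c * c = 1 := by
      have e2 : c = g * zT ω * g⁻¹ * zT ω := by
        calc c = (g * zT ω * g⁻¹)⁻¹ * zT ω := eq_inv_mul_iff_mul_eq.2 e1
          _ = _ := by rw [mul_inv_rev, mul_inv_rev, inv_inv, inv_eq_of_mul_eq_one_right (zT_sq h)]; group
      calc c * c = c * (g * zT ω * g⁻¹ * zT ω) := by rw [← e2]
        _ = (g * zT ω * g⁻¹ * c) * zT ω := by rw [← mul_assoc, ← hc' (g * zT ω * g⁻¹)]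
        _ = 1 := by rw [e1, zT_sq h]
    have hc1 : c = 1 := by
      have h3 : c ^ 3 = 1 := by
        have := congrArg Subtype.val (pow_card_eq_one' (G := Subgroup.center (threeJ3 F ω)) (x := ⟨c, hc⟩))
        rwa [h.card_center, SubmonoidClass.coe_pow, Subgroup.coe_one] at this
      rwa [pow_succ, pow_two, hc2, one_mul] at h3
    rwa [hc1, mul_one] at e
  · intro e
    rw [zJ, ← map_mul, ← map_mul, e]

/-- The map onto the centraliser. -/
noncomputable def toC (h : Fld F ω) : NT h →* CJ ω :=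
  ((QuotientGroup.mk' (Subgroup.center (threeJ3 F ω))).comp (NT h).subtype).codRestrict (CJ ω) fun g => by
    rw [Subgroup.mem_centralizer_singleton_iff]
    exact (centralizes_iff h g.1).2 g.2.2

theorem toC_surjective (h : Fld F ω) : Function.Surjective (toC h) := by
  rintro ⟨c, hc⟩
  obtain ⟨g, rfl⟩ := QuotientGroup.mk'_surjective _ c
  rw [Subgroup.mem_centralizer_singleton_iff] at hc
  exact ⟨⟨g, (card_facts h).2.2.ge ((centralizes_iff h g).1 hc)⟩, rfl⟩

theorem toC_eq_one (h : Fld F ω) {g : NT h} : toC h g = 1 ↔ (g : threeJ3 F ω) ∈ Subgroup.center (threeJ3 F ω) := by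
  rw [Subtype.ext_iff]
  exact QuotientGroup.eq_one_iff _

/-- The action of the centraliser on the five pairs. -/
noncomputable def piC (h : Fld F ω) : CJ ω →* Equiv.Perm (Fin 5) :=
  (toC h).liftOfSurjective (toC_surjective h) ⟨phi5 h, fun g hg => by
    have e : g = (toKer h (1, ⟨g, (toC_eq_one h).1 hg⟩) : NT h) := Subtype.ext (one_mul _).symm
    rw [e]
    exact SetLike.coe_mem _⟩

theorem piC_toC (h : Fld F ω) (g : NT h) : piC h (toC h g) = phi5 h g :=
  MonoidHom.liftOfRightInverse_comp_apply _ _ _ _ g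

theorem piC_range (h : Fld F ω) : (piC h).range = alternatingGroup (Fin 5) := by
  have e : (piC h).range = (phi5 h).range := by
    ext σ
    constructor
    · rintro ⟨c, rfl⟩
      obtain ⟨g, rfl⟩ := toC_surjective h c
      exact ⟨g, (piC_toC h g).symm⟩
    · rintro ⟨g, rfl⟩
      exact ⟨_, piC_toC h g⟩
  rw [e]
  refine Equiv.Perm.eq_alternatingGroup_of_index_eq_two ?_
  have := Subgroup.index_mul_card (phi5 h).range
  rw [(card_facts h).1, Nat.card_eq_fintype_card, Fintype.card_perm, Fintype.card_fin] at this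
  norm_num [Nat.factorial] at this
  omega

/-- The normal subgroup of the centraliser. -/
noncomputable abbrev QJ (h : Fld F ω) : Subgroup (CJ ω) := (piC h).ker

/-- The normal subgroup maps onto its image. -/
noncomputable def toQJ (h : Fld F ω) : QT h →* QJ h :=
  ((toC h).comp (Subgroup.inclusion (QT_le h))).codRestrict (QJ h) fun q => by
    rw [MonoidHom.mem_ker, MonoidHom.comp_apply, piC_toC]
    have e : Subgroup.inclusion (QT_le h) q = (toKer h (q, 1) : NT h) := Subtype.ext (mul_one _).symm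
    rw [e]
    exact SetLike.coe_mem (toKer h (q, 1))

theorem toQJ_bijective (h : Fld F ω) : Function.Bijective (toQJ h) := by
  constructor
  · rw [← MonoidHom.ker_eq_bot_iff, eq_bot_iff]
    intro q hq
    have e : toC h (Subgroup.inclusion (QT_le h) q) = 1 := congrArg Subtype.val (MonoidHom.mem_ker.1 hq)
    have : (q : threeJ3 F ω) ∈ QT h ⊓ Subgroup.center (threeJ3 F ω) := ⟨q.2, (toC_eq_one h).1 e⟩
    rw [(disjoint_center h).eq_bot, Subgroup.mem_bot] at this
    rw [Subgroup.mem_bot]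
    exact Subtype.ext this
  · rintro ⟨c, hc⟩
    obtain ⟨g, rfl⟩ := toC_surjective h c
    rw [MonoidHom.mem_ker, piC_toC] at hc
    obtain ⟨⟨q, s⟩, e⟩ := toKer_surjective h ⟨g, hc⟩
    refine ⟨q, Subtype.ext ?_⟩
    show toC h (Subgroup.inclusion (QT_le h) q) = toC h g
    rw [← inv_mul_eq_one, ← map_inv, ← map_mul, toC_eq_one]
    have e' : (g : threeJ3 F ω) = q.1 * s.1 := congrArg (fun t : (phi5 h).ker => ((t : NT h) : threeJ3 F ω)) e.symm
    rw [Subgroup.coe_mul, Subgroup.coe_inv, e']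
    show q.1⁻¹ * (q.1 * s.1) ∈ _
    rw [inv_mul_cancel_left]
    exact s.2

theorem isExtraspecial_QJ (h : Fld F ω) : Cfsg.IsExtraspecial 2 (QJ h) :=
  Cfsg.Agent.LargeExtra.isExtraspecial_of_equiv (isExtraspecial_QT h) (MulEquiv.ofBijective _ (toQJ_bijective h))

/-- The quotient. -/
noncomputable def quotEquiv (h : Fld F ω) : CJ ω ⧸ QJ h ≃* alternatingGroup (Fin 5) :=
  (QuotientGroup.quotientKerEquivRange (piC h)).trans (MulEquiv.subgroupCongr (piC_range h))

theorem card_CJ (h : Fld F ω) : Nat.card (CJ ω) = 1920 := by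
  rw [← Subgroup.index_mul_card (QJ h), Subgroup.index_ker, piC_range,
    ← Nat.card_congr (MulEquiv.ofBijective _ (toQJ_bijective h)).toEquiv, card_QT h,
    show Nat.card (alternatingGroup (Fin 5)) = 60 by rw [Nat.card_eq_fintype_card]; decide +kernel]

theorem index_CJ_odd (h : Fld F ω) : ¬ 2 ∣ (CJ ω).index := by
  have e := Subgroup.card_mul_index (CJ ω)
  rw [card_CJ h, h.card_J3] at e
  omega

theorem orderOf_zJ (h : Fld F ω) : orderOf (zJ ω) = 2 := by
  refine orderOf_eq_prime ?_ ?_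
  · rw [pow_two, zJ, ← map_mul, zT_sq h, map_one]
  · intro e
    have hm : zT ω ∈ QT h ⊓ Subgroup.center (threeJ3 F ω) :=
      ⟨⟨1, by norm_num, rfl⟩, (QuotientGroup.eq_one_iff _).1 e⟩
    rw [(disjoint_center h).eq_bot, Subgroup.mem_bot, zT_eq, ← Fld.qT_zero h] at hm
    exact one_ne_zero (Fld.qT_inj h (by norm_num) (by norm_num) hm)

theorem cent_QJ (h : Fld F ω) : Subgroup.centralizer (QJ h : Set (CJ ω)) ≤ QJ h := by
  intro c hc
  obtain ⟨g, rfl⟩ := toC_surjective h c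
  rw [MonoidHom.mem_ker, piC_toC]
  refine Equiv.ext fun p => Fin.ext ?_
  show (act h g p).val = p.val
  have hp : 2 + 2 * p.val < 32 := by omega
  set q : QT h := ⟨qT ω (2 + 2 * p.val), _, hp, rfl⟩
  have e := Subgroup.mem_centralizer_iff.1 hc _ (toQJ h q).2
  have hgq : (g : threeJ3 F ω) * q.1 * (g : threeJ3 F ω)⁻¹ ∈ QT h :=
    (Subgroup.mem_normalizer_iff.1 g.2.1 q.1).1 q.2
  have e2 : toC h (g * Subgroup.inclusion (QT_le h) q * g⁻¹ * (Subgroup.inclusion (QT_le h) q)⁻¹) = 1 := by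
    rw [map_mul, map_mul, map_mul, map_inv, map_inv, show toC h (Subgroup.inclusion (QT_le h) q) = (toQJ h q : CJ ω) from rfl, ← e]
    group
  have e3 := (toC_eq_one h).1 e2
  simp only [Subgroup.coe_mul, Subgroup.coe_inv, Subgroup.coe_inclusion] at e3
  have e4 : (g : threeJ3 F ω) * q.1 * (g : threeJ3 F ω)⁻¹ * q.1⁻¹ ∈ QT h ⊓ Subgroup.center (threeJ3 F ω) :=
    Subgroup.mem_inf.2 ⟨mul_mem hgq (inv_mem q.2), e3⟩
  rw [(disjoint_center h).eq_bot, Subgroup.mem_bot, mul_inv_eq_one] at e4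
  rw [act_eq h g (i := 2 + 2 * p.val) (j := 2 + 2 * p.val) (by omega) (by omega) hp e4 p (by omega)]
  omega

theorem max_QJ (h : Fld F ω) : (∀ N : Subgroup (CJ ω), N.Normal → QJ h ≤ N → N = QJ h ∨ N = ⊤) ∧ QJ h ≠ ⊤ := by
  haveI : IsSimpleGroup (alternatingGroup (Fin 5)) := alternatingGroup.isSimpleGroup_five
  let φ : CJ ω →* alternatingGroup (Fin 5) :=
    (quotEquiv h).toMonoidHom.comp (QuotientGroup.mk' (QJ h))
  have hsurj : Function.Surjective φ := (quotEquiv h).surjective.comp (QuotientGroup.mk'_surjective _)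
  have hφ : ∀ c, φ c = 1 ↔ c ∈ QJ h := fun c => by
    show quotEquiv h _ = 1 ↔ _
    rw [map_eq_one_iff _ (quotEquiv h).injective]
    exact QuotientGroup.eq_one_iff _
  refine ⟨fun N hN hQN => ?_, fun e => ?_⟩
  · rcases (hN.map φ hsurj).eq_bot_or_eq_top with e | e
    · left
      refine le_antisymm (fun c hc => ?_) hQN
      have : φ c ∈ N.map φ := ⟨c, hc, rfl⟩
      rw [e, Subgroup.mem_bot] at this
      exact (hφ c).1 this
    · right
      rw [Subgroup.eq_top_iff']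
      intro c
      obtain ⟨n, hn, e'⟩ : φ c ∈ N.map φ := by rw [e]; exact Subgroup.mem_top _
      have : n⁻¹ * c ∈ N := hQN ((hφ _).1 (by rw [map_mul, map_inv, e', inv_mul_cancel]))
      simpa using N.mul_mem hn this
  · obtain ⟨A, hA⟩ := exists_ne (1 : alternatingGroup (Fin 5))
    obtain ⟨c, rfl⟩ := hsurj A
    exact hA ((hφ c).2 (by rw [e]; exact Subgroup.mem_top _))

/-- The element in the centraliser given by an element of the normal subgroup. -/
noncomputable def qJ (h : Fld F ω) (i : ℕ) (hi : i < 32) : CJ ω := (toQJ h ⟨qT ω i, i, hi, rfl⟩ : CJ ω)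

theorem mem_of_two (h : Fld F ω) (N : Subgroup (CJ ω)) (hN : N.Normal) (h2 : qJ h 2 (by norm_num) ∈ N) :
    QJ h ≤ N := by
  set T : Subgroup (NT h) := N.comap (toC h)
  have hT : T.Normal := hN.comap _
  let P : ℕ → Prop := fun j => ∃ hj : j < 32, (⟨qT ω j, QT_le h ⟨j, hj, rfl⟩⟩ : NT h) ∈ T
  have h2' : P 2 := ⟨by norm_num, h2⟩
  have hsteps : ∀ n ≤ invSteps.length, ∀ j ∈ (invSteps.take n).map (·.1), P j := by
    intro n
    induction n with
    | zero => intro _ j hj; simp at hj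
    | succ n ih =>
      intro hn j hj
      rw [List.take_succ, List.map_append, List.mem_append] at hj
      rcases hj with hj | hj
      · exact ih (by omega) j hj
      obtain ⟨s, hs, rfl⟩ := List.mem_map.1 hj
      rw [Option.mem_toList] at hs
      obtain ⟨b1, b2, b3, b4⟩ := invSteps_spec.1 n (by omega) s hs
      obtain ⟨hpar, hmem⟩ : P s.2.2 := b3.elim (fun e => e.symm ▸ h2') (ih (by omega) _)
      refine ⟨b1, ?_⟩
      split_ifs at b4 with hop
      · have e : (⟨qT ω s.1, QT_le h ⟨_, b1, rfl⟩⟩ : NT h) = ⟨_, Fld.cT_mem h hop⟩ *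
            ⟨_, QT_le h ⟨_, hpar, rfl⟩⟩ * (⟨_, Fld.cT_mem h hop⟩ : NT h)⁻¹ :=
          Subtype.ext (by
            rw [Subgroup.coe_mul, Subgroup.coe_mul, Subgroup.coe_inv]
            show _ = cT ω s.2.1 * qT ω s.2.2 * (cT ω s.2.1)⁻¹
            rw [Fld.cT_conj h hop hpar, b4])
        rw [e]
        exact hT.conj_mem _ hmem _
      · obtain ⟨b4, b5⟩ := b4
        have e : (⟨qT ω s.1, QT_le h ⟨_, b1, rfl⟩⟩ : NT h) = ⟨_, QT_le h ⟨_, b4, rfl⟩⟩ *
            ⟨_, QT_le h ⟨_, hpar, rfl⟩⟩ * (⟨_, QT_le h ⟨_, b4, rfl⟩⟩ : NT h)⁻¹ :=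
          Subtype.ext (by
            rw [Subgroup.coe_mul, Subgroup.coe_mul, Subgroup.coe_inv]
            show _ = qT ω (s.2.1 - 2) * qT ω s.2.2 * (qT ω (s.2.1 - 2))⁻¹
            rw [Fld.qT_mul h b4 hpar, b5, ← Fld.qT_mul h b1 b4, mul_inv_cancel_right])
        rw [e]
        exact hT.conj_mem _ hmem _
  have hinv : ∀ j, 2 ≤ j → j < 12 → P j := fun j hj hj' => (invSteps_spec.2 j hj' hj).elim
    (fun e => e.symm ▸ h2') fun hm => hsteps invSteps.length le_rfl j (by rwa [List.take_length])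
  have hprod : ∀ (l : List ℕ), (∀ j ∈ l, 2 ≤ j ∧ j < 12) → ∀ a, P a → P (l.foldl qm a) := by
    intro l
    induction l with
    | nil => exact fun _ a ha => ha
    | cons j l ih =>
      intro hl a ha
      refine ih (fun k hk => hl k (List.mem_cons_of_mem _ hk)) _ ?_
      obtain ⟨ha', ham⟩ := ha
      obtain ⟨hj, hjm⟩ := hinv j (hl j List.mem_cons_self).1 (hl j List.mem_cons_self).2
      refine ⟨((qOk_spec.1 a ha').2.2.2 j hj).1, ?_⟩
      have e : (⟨qT ω (qm a j), QT_le h ⟨_, ((qOk_spec.1 a ha').2.2.2 j hj).1, rfl⟩⟩ : NT h) =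
          ⟨_, QT_le h ⟨_, ha', rfl⟩⟩ * ⟨_, QT_le h ⟨_, hj, rfl⟩⟩ :=
        Subtype.ext (Fld.qT_mul h ha' hj).symm
      rw [e]
      exact T.mul_mem ham hjm
  have h0 : P 0 := ⟨by norm_num, by
    have e : (⟨qT ω 0, QT_le h ⟨0, by norm_num, rfl⟩⟩ : NT h) = 1 := Subtype.ext (Fld.qT_zero h)
    rw [e]; exact T.one_mem⟩
  intro c hc
  obtain ⟨⟨q, i, hi, rfl⟩, e⟩ := (toQJ_bijective h).2 ⟨c, hc⟩
  obtain ⟨q1, q2⟩ := qProds_spec i hi
  obtain ⟨hi', hm⟩ := q2 ▸ hprod _ q1 0 h0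
  rw [show c = toC h ⟨qT ω i, QT_le h ⟨i, hi, rfl⟩⟩ from (congrArg Subtype.val e).symm]
  exact hm

theorem dataJ (h : Fld F ω) : Cfsg.Agent.LargeExtra.SimpleCrit.Data (zJ ω) (QJ h) := by
  refine ⟨orderOf_zJ h, isExtraspecial_QJ h, inferInstance, cent_QJ h, (max_QJ h).1, (max_QJ h).2, ?_⟩
  have hfu := fuseOk_eq
  rw [fuseOk, Bool.and_eq_true] at hfu
  obtain ⟨f1, f2⟩ := hfu
  have hg := (h.dval_spec f1).1
  have e0 := congrArg (el ω) (Nat.eq_of_beq_eq_true f2)
  rw [h.el_mul hg (Fld.inSub_zc h).1, h.el_mul (Fld.inG_qc h (by norm_num)) hg] at e0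
  set g := el ω (dval fuseTrip)
  have e1 : g * zT ω * g⁻¹ = qT ω 2 := by rw [zT, e0, mul_inv_cancel_right]; rfl
  have eX : QuotientGroup.mk' (Subgroup.center (threeJ3 F ω)) g * zJ ω *
      (QuotientGroup.mk' (Subgroup.center (threeJ3 F ω)) g)⁻¹ = (qJ h 2 (by norm_num) : J3 F ω) := by
    rw [zJ, ← map_inv, ← map_mul, ← map_mul, e1]
    rfl
  refine ⟨QuotientGroup.mk' (Subgroup.center (threeJ3 F ω)) g, eX ▸ (qJ h 2 (by norm_num)).2, ?_, ?_, ?_, ?_⟩
  · rw [show (⟨_, eX ▸ (qJ h 2 (by norm_num)).2⟩ : CJ ω) = qJ h 2 (by norm_num) from Subtype.ext eX]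
    exact (toQJ h ⟨qT ω 2, 2, by norm_num, rfl⟩).2
  · rw [eX]
    intro e
    have h1 : toQJ h ⟨qT ω 2, 2, by norm_num, rfl⟩ = toQJ h ⟨qT ω 1, 1, by norm_num, rfl⟩ :=
      Subtype.ext (Subtype.ext e)
    have h2 := Fld.qT_inj h (by norm_num) (by norm_num) (congrArg Subtype.val ((toQJ_bijective h).1 h1))
    norm_num at h2
  · intro N hN hm
    rw [show (⟨_, eX ▸ (qJ h 2 (by norm_num)).2⟩ : CJ ω) = qJ h 2 (by norm_num) from Subtype.ext eX] at hm
    exact mem_of_two h N hN hm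
  · obtain ⟨p1, p2, p3, p4, p5⟩ := qPair_spec
    have hcomm : ∀ a (ha : a < 32) b (hb : b < 32), qm a b = qm b a →
        qJ h a ha * qJ h b hb = qJ h b hb * qJ h a ha := by
      intro a ha b hb e
      simp only [qJ, ← Subgroup.coe_mul, ← map_mul]
      refine congrArg _ (congrArg _ (Subtype.ext ?_))
      rw [Subgroup.coe_mul, Subgroup.coe_mul, Fld.qT_mul h ha hb, Fld.qT_mul h hb ha, e]
    refine ⟨qJ h _ p1, (toQJ h ⟨_, _, p1, rfl⟩).2, qJ h _ p2, (toQJ h ⟨_, _, p2, rfl⟩).2, ?_, ?_, ?_⟩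
    · rw [eX]; exact congrArg Subtype.val (hcomm _ p1 2 (by norm_num) p3)
    · rw [eX]; exact congrArg Subtype.val (hcomm _ p2 2 (by norm_num) p4)
    · intro e
      simp only [qJ, ← Subgroup.coe_mul, ← map_mul] at e
      have e' := (toQJ_bijective h).1 (Subtype.ext e)
      have e'' := congrArg Subtype.val e'
      rw [Subgroup.coe_mul, Subgroup.coe_mul, Fld.qT_mul h p1 p2, Fld.qT_mul h p2 p1] at e''
      exact p5 (Fld.qT_inj h ((qOk_spec.1 _ p1).2.2.2 _ p2).1 ((qOk_spec.1 _ p2).2.2.2 _ p1).1 e'')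

end Cfsg.Agent.Lib.J3.Cent
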