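import Cfsg.Agent.Lib.J3.CentChecks
import Cfsg.Agent.Lib.J3.CentCompData

/-!
Computations for a complement in the centraliser of an involution and for the conjugacy of involutions in
the triple cover of the third Janko group.
-/

set_option autoImplicit false
set_option maxRecDepth 100000
set_option maxHeartbeats 4000000

namespace Cfsg.Agent.Lib.J3.Cent

open Cfsg.Agent.Lib.J3

/-- The code of an element of the complement. -/
def hc (n : ℕ) : ℕ := getM hTab n

/-- The code of a generator of the complement. -/
def hgen (k : ℕ) : ℕ := getM hGenTab k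

/-- The complement. -/
def hOk : Bool :=
  Nat.beq (hc 0) idM &&
    (List.range 2).all (fun k =>
      dok (hTrip.getD k 0) && Nat.beq (hgen k) (dval (hTrip.getD k 0)) &&
        Nat.beq (mul (hgen k) zc) (mul zc (hgen k)) &&
        (List.range 60).all (fun n => Nat.blt (tab 6 hAct (60 * k + n)) 60 &&
          Nat.beq (mul (hgen k) (hc n)) (hc (tab 6 hAct (60 * k + n))))) &&
    (List.range 59).all (fun n =>
      Nat.ble (hPar.getD (n + 1) (0, 0)).2 n && Nat.blt (hPar.getD (n + 1) (0, 0)).1 2 &&
        Nat.beq (hc (n + 1)) (mul (hgen (hPar.getD (n + 1) (0, 0)).1) (hc (hPar.getD (n + 1) (0, 0)).2))) &&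
    (List.range 60).all (fun n =>
      (List.range n).all (fun l => !Nat.beq (hc l) (hc n)) &&
      (Nat.beq n 0 || (List.range 32).all (fun i => (List.range 3).all fun s =>
        !Nat.beq (hc n) (mul (qc i) (scal s)))) &&
      (!Nat.beq (mul (hc n) (hc n)) idM || hSquareOne.contains n))

theorem hOk_eq : hOk = true := by decide +kernel

/-- Every involution of the centraliser is conjugate to the first. -/
def fuseAllOk : Bool :=
  Nat.ble 1 hSquareOne.length &&
  (List.range hSquareOne.length).all fun m => (List.range 32).all fun i =>
    let v := mul (qc i) (hc (hSquareOne.getD m 0))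
    Nat.beq v idM || !Nat.beq (mul v v) idM ||
      (let e := fuseList.getD (32 * m + i) (0, 0)
       dok e.1 && Nat.blt e.2 fuseBases.length && dok (fuseBases.getD e.2 0) &&
        (let g := mul (dval e.1) (dval (fuseBases.getD e.2 0))
         Nat.beq (mul g zc) (mul v g)))

theorem fuseAllOk_eq : fuseAllOk = true := by decide +kernel

end Cfsg.Agent.Lib.J3.Cent
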