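import Cfsg.Agent.Lib.J3.Cent
import Cfsg.Agent.Lib.J3.CentCompChecks
import Cfsg.Agent.Lib.LargeExtra.FusionSimple

/-!
A complement in the centraliser of an involution in the third Janko group, and the single class of involutions.
-/

set_option autoImplicit false
set_option linter.unusedSectionVars false

namespace Cfsg.Agent.Lib.J3.Cent

open Cfsg.Spor Cfsg.Agent.Lib.J3
open scoped MatrixGroups

/-- Commuting involutions. -/
theorem qm_commute : ∀ i < 32, ∀ j < 32, 2 ≤ i → i < 12 → 2 ≤ j → j < 12 → qm i j = qm j i →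
    (i - 2) / 2 = (j - 2) / 2 := by
  have h : (List.range 12).all (fun i => (List.range 12).all fun j =>
      decide (2 ≤ i → 2 ≤ j → qm i j = qm j i → (i - 2) / 2 = (j - 2) / 2)) = true := by decide +kernel
  intro i _ j _ h1 h2 h3 h4
  exact of_decide_eq_true (all_range (all_range h h2) h4) h1 h3

theorem hOk_spec : hc 0 = idM ∧
    (∀ k < 2, dok (hTrip.getD k 0) = true ∧ hgen k = dval (hTrip.getD k 0) ∧
      mul (hgen k) zc = mul zc (hgen k) ∧
      ∀ n < 60, tab 6 hAct (60 * k + n) < 60 ∧ mul (hgen k) (hc n) = hc (tab 6 hAct (60 * k + n))) ∧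
    (∀ n < 59, ∃ k < 2, ∃ p ≤ n, hc (n + 1) = mul (hgen k) (hc p)) ∧
    ∀ n < 60, (∀ l < n, hc l ≠ hc n) ∧ (n ≠ 0 → ∀ i < 32, ∀ s < 3, hc n ≠ mul (qc i) (scal s)) ∧
      (mul (hc n) (hc n) = idM → n ∈ hSquareOne) := by
  have e := hOk_eq
  simp only [hOk, Bool.and_eq_true] at e
  obtain ⟨⟨⟨e0, e1⟩, e2⟩, e3⟩ := e
  refine ⟨Nat.eq_of_beq_eq_true e0, fun k hk => ?_, fun n hn => ?_, fun n hn => ?_⟩
  · have c := all_range e1 hk
    simp only [Bool.and_eq_true] at c
    obtain ⟨⟨⟨c1, c2⟩, c3⟩, c4⟩ := c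
    refine ⟨c1, Nat.eq_of_beq_eq_true c2, Nat.eq_of_beq_eq_true c3, fun n hn => ?_⟩
    have c' := all_range c4 hn
    rw [Bool.and_eq_true] at c'
    exact ⟨blt_lt c'.1, Nat.eq_of_beq_eq_true c'.2⟩
  · have c := all_range e2 hn
    simp only [Bool.and_eq_true] at c
    obtain ⟨⟨c1, c2⟩, c3⟩ := c
    exact ⟨_, blt_lt c2, _, Nat.le_of_ble_eq_true c1, Nat.eq_of_beq_eq_true c3⟩
  · have c := all_range e3 hn
    simp only [Bool.and_eq_true] at c
    obtain ⟨⟨c1, c2⟩, c3⟩ := c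
    refine ⟨fun l hl hq => ?_, fun hn0 i hi s hs' hq => ?_, fun hq => ?_⟩
    · have c' := all_range c1 hl
      rw [hq, Nat.beq_refl] at c'
      exact Bool.false_ne_true c'
    · rw [Bool.or_eq_true] at c2
      rcases c2 with c2 | c2
      · exact hn0 (Nat.eq_of_beq_eq_true c2)
      · have c' := all_range (all_range c2 hi) hs'
        rw [hq, Nat.beq_refl] at c'
        exact Bool.false_ne_true c'
    · rw [hq, Nat.beq_refl] at c3
      simpa using c3

variable {F : Type*} [Field F] [Finite F] {ω : F}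

theorem Fld.inG_hgen (h : Fld F ω) {k : ℕ} (hk : k < 2) : InG ω (hgen k) := by
  obtain ⟨h1, h2, -⟩ := hOk_spec.2.1 k hk
  rw [h2]; exact (h.dval_spec h1).1

/-- The complement, upstairs. -/
noncomputable def HT (h : Fld F ω) : Subgroup (threeJ3 F ω) :=
  haveI := h
  Subgroup.closure (Set.range fun k : Fin 2 => el ω (hgen k))

theorem hc_spec (h : Fld F ω) : ∀ n < 60, InSub (HT h) (hc n) := by
  intro n
  induction n using Nat.strong_induction_on with
  | _ n ih =>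
    intro hn
    rcases n with _ | n
    · rw [hOk_spec.1]; exact h.inSub_idM _
    · obtain ⟨k, hk, p, hp, e⟩ := hOk_spec.2.2.1 n (by omega)
      rw [e]
      exact h.inSub_mul ⟨Fld.inG_hgen h hk, Subgroup.subset_closure ⟨⟨k, hk⟩, rfl⟩⟩ (ih p (by omega) (by omega))

theorem HT_eq (h : Fld F ω) {x : threeJ3 F ω} (hx : x ∈ HT h) : ∃ n < 60, x = el ω (hc n) := by
  refine closure_subset_left (S := {x | ∃ n < 60, x = el ω (hc n)})
    ⟨0, by norm_num, by rw [hOk_spec.1, h.el_idM]⟩ ?_ x hx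
  rintro _ ⟨k, rfl⟩ _ ⟨n, hn, rfl⟩
  obtain ⟨h1, h2⟩ := (hOk_spec.2.1 k k.2).2.2.2 n hn
  exact ⟨_, h1, by rw [← h2, h.el_mul (Fld.inG_hgen h k.2) (hc_spec h n hn).1]⟩

theorem card_HT (h : Fld F ω) : Nat.card (HT h) = 60 := by
  have hb : Function.Bijective (fun n : Fin 60 => (⟨el ω (hc n), (hc_spec h n n.2).2⟩ : HT h)) := by
    refine ⟨fun a b e => ?_, fun x => ?_⟩
    · have hc' : hc a = hc b := h.el_inj (hc_spec h a a.2).1 (hc_spec h b b.2).1 (getM_lt _ _) (getM_lt _ _)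
        (congrArg Subtype.val e)
      rcases lt_trichotomy a.val b.val with hlt | heq | hlt
      · exact absurd hc' ((hOk_spec.2.2.2 b b.2).1 a hlt)
      · exact Fin.ext heq
      · exact absurd hc'.symm ((hOk_spec.2.2.2 a a.2).1 b hlt)
    · obtain ⟨x, hx⟩ := x
      obtain ⟨n, hn, rfl⟩ := HT_eq h hx
      exact ⟨⟨n, hn⟩, rfl⟩
  rw [← Nat.card_congr (Equiv.ofBijective _ hb), Nat.card_eq_fintype_card, Fintype.card_fin]

theorem HT_le (h : Fld F ω) : HT h ≤ NT h := by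
  rw [(card_facts h).2.2, HT, Subgroup.closure_le]
  rintro _ ⟨k, rfl⟩
  rw [SetLike.mem_coe, Subgroup.mem_centralizer_singleton_iff, zT]
  obtain ⟨-, -, h3, -⟩ := hOk_spec.2.1 k k.2
  rw [← h.el_mul (Fld.inG_hgen h k.2) (Fld.inSub_zc h).1, ← h.el_mul (Fld.inSub_zc h).1 (Fld.inG_hgen h k.2), h3]

/-- An element of the complement in the normal subgroup times the centre is trivial. -/
theorem HT_meet (h : Fld F ω) {x q c : threeJ3 F ω} (hx : x ∈ HT h) (hq : q ∈ QT h)
    (hc' : c ∈ Subgroup.center (threeJ3 F ω)) (e : x = q * c) : x = 1 := by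
  obtain ⟨n, hn, rfl⟩ := HT_eq h hx
  obtain ⟨i, hi, rfl⟩ := hq
  by_contra hne
  have hn0 : n ≠ 0 := fun h0 => hne (by rw [h0, hOk_spec.1, h.el_idM])
  rw [h.center_eq, ← mem_powers_iff_mem_zpowers] at hc'
  obtain ⟨m, rfl⟩ := hc'
  have hsc : ∃ s < 3, scalGen ω ^ m = el ω (scal s) := by
    refine ⟨m % 3, Nat.mod_lt _ (by norm_num), ?_⟩
    rw [← Nat.mod_add_div m 3, pow_add, pow_mul, h.scalGen_cube, one_pow, mul_one]
    have h3 : m % 3 < 3 := Nat.mod_lt _ (by norm_num)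
    rw [Nat.add_mul_mod_self_left, Nat.mod_mod]
    unfold scal
    interval_cases m % 3
    · simp [h.el_idM]
    · simp [scalGen]
    · simp [scalGen, h.el_mul h.inG_omega h.inG_omega, pow_two]
  obtain ⟨s, hs', es⟩ := hsc
  have e' : el ω (hc n) = el ω (mul (qc i) (scal s)) := by
    rw [h.el_mul (Fld.inG_qc h hi) (h.inG_scal s), ← es]
    exact e
  exact (hOk_spec.2.2.2 n hn).2.1 hn0 i hi s hs'
    (h.el_inj (hc_spec h n hn).1 (h.inG_mul (Fld.inG_qc h hi) (h.inG_scal s)) (getM_lt _ _) (mul_lt _ _) e')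

/-- The map into the centraliser. -/
noncomputable def toHJ (h : Fld F ω) : HT h →* CJ ω := (toC h).comp (Subgroup.inclusion (HT_le h))

theorem toHJ_injective (h : Fld F ω) : Function.Injective (toHJ h) := by
  rw [← MonoidHom.ker_eq_bot_iff, eq_bot_iff]
  intro x hx
  have e := (toC_eq_one h).1 (MonoidHom.mem_ker.1 hx)
  rw [Subgroup.mem_bot]
  exact Subtype.ext (HT_meet h x.2 (one_mem _) e (one_mul _).symm)

theorem isComplement_HJ (h : Fld F ω) : (QJ h).IsComplement' (toHJ h).range := by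
  refine Subgroup.isComplement'_of_card_mul_and_disjoint ?_ (disjoint_iff.2 (eq_bot_iff.2 ?_))
  · rw [← Nat.card_congr (MulEquiv.ofBijective _ (toQJ_bijective h)).toEquiv, card_QT h,
      ← Nat.card_congr (MonoidHom.ofInjective (toHJ_injective h)).toEquiv, card_HT h, card_CJ h]
  · intro c hc'
    obtain ⟨hq, x, rfl⟩ := Subgroup.mem_inf.1 hc'
    obtain ⟨q, eq⟩ := (toQJ_bijective h).2 ⟨_, hq⟩
    have e : toC h (Subgroup.inclusion (QT_le h) q) = toC h (Subgroup.inclusion (HT_le h) x) := congrArg Subtype.val eq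
    rw [← inv_mul_eq_one, ← map_inv, ← map_mul, toC_eq_one] at e
    have hx1 : (x : threeJ3 F ω) = 1 := by
      refine HT_meet h x.2 q.2 e ?_
      simp
    rw [Subgroup.mem_bot, show x = 1 from Subtype.ext hx1, map_one]

theorem elementary_le (h : Fld F ω) (E : Subgroup (QJ h)) (hE : Cfsg.IsElementaryAbelian 2 E) :
    Nat.card E ≤ 4 := by
  let e := MulEquiv.ofBijective _ (toQJ_bijective h)
  have hdata : ∀ x : E, ∃ i < 32, ((e.symm x.1 : QT h) : threeJ3 F ω) = qT ω i ∧ qm i i = 0 := fun x => by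
    obtain ⟨i, hi, ei⟩ := (e.symm x.1).2
    refine ⟨i, hi, ei, Fld.qT_inj h ((qOk_spec.1 i hi).2.2.2 i hi).1 (by norm_num) ?_⟩
    rw [← Fld.qT_mul h hi hi, ← ei, ← Subgroup.coe_mul, ← map_mul, ← pow_two, hE.2 _ x.2, map_one, Fld.qT_zero h]
    rfl
  choose f hf hfe hf2 using hdata
  have hinj : Function.Injective f := fun x y exy => by
    refine Subtype.ext (e.symm.injective (Subtype.ext ?_))
    rw [hfe, hfe, exy]
  have hcomm : ∀ x y : E, qm (f x) (f y) = qm (f y) (f x) := fun x y => by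
    refine Fld.qT_inj h ((qOk_spec.1 _ (hf x)).2.2.2 _ (hf y)).1 ((qOk_spec.1 _ (hf y)).2.2.2 _ (hf x)).1 ?_
    rw [← Fld.qT_mul h (hf x) (hf y), ← Fld.qT_mul h (hf y) (hf x), ← hfe, ← hfe, ← Subgroup.coe_mul, ← Subgroup.coe_mul,
      ← map_mul, ← map_mul]
    have := hE.1
    exact congrArg (fun t : E => ((e.symm t.1 : QT h) : threeJ3 F ω)) (mul_comm' x y)
  have hcases : ∀ x, f x = 0 ∨ f x = 1 ∨ (2 ≤ f x ∧ f x < 12) := fun x => by
    by_cases h0 : f x = 0
    · exact Or.inl h0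
    by_cases h1 : f x = 1
    · exact Or.inr (Or.inl h1)
    exact Or.inr (Or.inr ((qm_inv_iff _ (hf x)).1 ⟨hf2 x, h0, h1⟩))
  obtain ⟨p, hp⟩ : ∃ p, ∀ x, 2 ≤ f x → (f x - 2) / 2 = p := by
    by_cases hex : ∃ x, 2 ≤ f x
    · obtain ⟨x₀, hx₀⟩ := hex
      refine ⟨(f x₀ - 2) / 2, fun x hx => ?_⟩
      rcases hcases x₀ with h' | h' | h'
      · omega
      · omega
      rcases hcases x with h'' | h'' | h''
      · omega
      · omega
      exact qm_commute _ (hf x) _ (hf x₀) h''.1 h''.2 h'.1 h'.2 (hcomm x x₀)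
    · exact ⟨0, fun x hx => absurd ⟨x, hx⟩ hex⟩
  have hinj' : Function.Injective fun x : E => (⟨if f x < 2 then f x else 2 + (f x - 2) % 2, by split_ifs <;> omega⟩ : Fin 4) := by
    intro x y exy
    simp only [Fin.mk.injEq] at exy
    apply hinj
    split_ifs at exy with hx hy hy
    · exact exy
    · omega
    · omega
    · have := hp x (by omega)
      have := hp y (by omega)
      omega
  simpa using Nat.card_le_card_of_injective _ hinj'
where
  mul_comm' {G : Type _} [Group G] {E : Subgroup G} [IsMulCommutative E] (x y : E) : x * y = y * x :=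
    IsMulCommutative.is_comm.comm x y

theorem conj_zJ (h : Fld F ω) (x : J3 F ω) (hx : orderOf x = 2) : IsConj (zJ ω) x := by
  obtain ⟨P, hP⟩ := (IsPGroup.of_card (p := 2) (n := 1) (G := Subgroup.zpowers x)
    (by rw [Nat.card_zpowers, hx, pow_one])).exists_le_sylow
  obtain ⟨c, hc'⟩ := Cfsg.Agent.LargeExtra.FusionSimple.exists_sylow_le (index_CJ_odd h) P
  have hy := hc' x (hP (Subgroup.mem_zpowers x))
  refine IsConj.trans ?_ (isConj_iff.2 ⟨c, rfl⟩).symm
  have hy2 : orderOf (c * x * c⁻¹) = 2 := by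
    rw [show c * x * c⁻¹ = (MulAut.conj c) x from rfl]
    exact (orderOf_injective (MulAut.conj c).toMonoidHom (MulAut.conj c).injective x).trans hx
  generalize c * x * c⁻¹ = y at hy hy2
  obtain ⟨⟨⟨qy, hqy⟩, ⟨_, x', rfl⟩⟩, e⟩ := (isComplement_HJ h).2 ⟨y, hy⟩
  obtain ⟨⟨q, hq⟩, eq⟩ := (toQJ_bijective h).2 ⟨qy, hqy⟩
  have eq' : qy = toC h (Subgroup.inclusion (QT_le h) ⟨q, hq⟩) := (congrArg Subtype.val eq).symm
  subst eq'
  have hy1 : (⟨y, hy⟩ : CJ ω) * ⟨y, hy⟩ = 1 := Subtype.ext (by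
    rw [Subgroup.coe_mul, Subgroup.coe_one, ← pow_two, ← hy2, pow_orderOf_eq_one])
  have hpi : piC h (toHJ h x') * piC h (toHJ h x') = 1 := by
    have := congrArg (piC h) hy1
    rw [← e, map_mul, map_mul, map_one, MonoidHom.mem_ker.1 hqy, one_mul] at this
    exact this
  have hx'2 : x' * x' = 1 := by
    have : toHJ h (x' * x') ∈ QJ h ⊓ (toHJ h).range :=
      Subgroup.mem_inf.2 ⟨MonoidHom.mem_ker.2 (by rw [map_mul, map_mul, hpi]), x' * x', rfl⟩
    rw [(isComplement_HJ h).disjoint.eq_bot, Subgroup.mem_bot, ← map_one (toHJ h)] at this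
    exact toHJ_injective h this
  obtain ⟨hv, hxv⟩ : (q * (x' : threeJ3 F ω) ∈ NT h) ∧ QuotientGroup.mk' (Subgroup.center (threeJ3 F ω)) (q * x') = y :=
    ⟨mul_mem (QT_le h hq) (HT_le h x'.2), congrArg Subtype.val e⟩
  have hsq : q * (x' : threeJ3 F ω) * (q * x') = 1 := by
    have h1 : (x' : threeJ3 F ω)⁻¹ = x' := congrArg Subtype.val (inv_eq_of_mul_eq_one_right hx'2)
    have hin : q * (x' * q * (x' : threeJ3 F ω)⁻¹) ∈ QT h :=
      mul_mem hq ((Subgroup.mem_normalizer_iff.1 (HT_le h x'.2).1 q).1 hq)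
    rw [h1] at hin
    have hcen : q * (x' : threeJ3 F ω) * (q * x') ∈ Subgroup.center (threeJ3 F ω) := by
      rw [← QuotientGroup.eq_one_iff, ← QuotientGroup.mk'_apply, map_mul, hxv, ← pow_two]
      exact orderOf_dvd_iff_pow_eq_one.1 hy2.dvd
    have : q * (x' : threeJ3 F ω) * (q * x') ∈ QT h ⊓ Subgroup.center (threeJ3 F ω) :=
      Subgroup.mem_inf.2 ⟨by simpa [mul_assoc] using hin, hcen⟩
    rwa [(disjoint_center h).eq_bot, Subgroup.mem_bot] at this
  obtain ⟨i, hi, rfl⟩ := hq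
  obtain ⟨n, hn, en⟩ := HT_eq h x'.2
  have hn2 : n ∈ hSquareOne := (hOk_spec.2.2.2 n hn).2.2 (h.el_inj (h.inG_mul (hc_spec h n hn).1 (hc_spec h n hn).1)
    h.inG_idM (mul_lt _ _) (by decide +kernel) (by
      rw [h.el_mul (hc_spec h n hn).1 (hc_spec h n hn).1, h.el_idM, ← en]
      exact congrArg Subtype.val hx'2))
  obtain ⟨m, hm, em⟩ := List.getElem_of_mem hn2
  have c1 := fuseAllOk_eq
  rw [fuseAllOk, Bool.and_eq_true] at c1
  have c2 := all_range (all_range c1.2 hm) hi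
  rw [List.getD_eq_getElem _ _ hm, em] at c2
  simp only [Bool.or_eq_true, Bool.and_eq_true] at c2
  have hv' := h.inG_mul (Fld.inG_qc h hi) (hc_spec h n hn).1
  have ev : el ω (mul (qc i) (hc n)) = qT ω i * x' := by
    rw [h.el_mul (Fld.inG_qc h hi) (hc_spec h n hn).1, en]; rfl
  rcases c2 with (c2 | c2) | ⟨⟨⟨c3, c4⟩, c5⟩, c6⟩
  · exfalso
    rw [Nat.eq_of_beq_eq_true c2, h.el_idM] at ev
    rw [← hxv, ← ev, map_one, orderOf_one] at hy2
    norm_num at hy2
  · exfalso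
    rw [Bool.not_eq_true'] at c2
    have : mul (mul (qc i) (hc n)) (mul (qc i) (hc n)) = idM :=
      h.el_inj (h.inG_mul hv' hv') h.inG_idM (mul_lt _ _) (by decide +kernel)
        (by rw [h.el_mul hv' hv', ev, h.el_idM, hsq])
    rw [this, Nat.beq_refl] at c2
    exact Bool.false_ne_true c2.symm
  · obtain ⟨g1, -⟩ := h.dval_spec c3
    obtain ⟨g2, -⟩ := h.dval_spec c5
    have hg := h.inG_mul g1 g2
    have e' := congrArg (el ω) (Nat.eq_of_beq_eq_true c6)
    rw [h.el_mul hg (Fld.inSub_zc h).1, h.el_mul hv' hg, ev] at e'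
    rw [← hxv]
    refine isConj_iff.2 ⟨QuotientGroup.mk' (Subgroup.center (threeJ3 F ω))
      (el ω (mul (dval (fuseList.getD (32 * m + i) (0, 0)).1)
        (dval (fuseBases.getD (fuseList.getD (32 * m + i) (0, 0)).2 0)))), ?_⟩
    rw [zJ, ← map_inv, ← map_mul, ← map_mul, zT, e', mul_inv_cancel_right]

end Cfsg.Agent.Lib.J3.Cent
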