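import Cfsg.Agent.Lib.J3.Order

/-!
The centre of the triple cover of the third Janko group and the simplicity of its quotient.
-/

set_option autoImplicit false
set_option linter.unusedSectionVars false

namespace Cfsg.Agent.Lib.J3

open Cfsg.Spor
open scoped MatrixGroups

variable {F : Type*} [Field F] [Finite F] {ω : F}

/-- The element maps the first line to itself. -/
def LineFix (g : threeJ3 F ω) : Prop := ∀ w : F9, w ≠ 0 → (g : GL F9 F).val w 0 = 0

theorem val_mul_col {g g' : threeJ3 F ω} (hg' : LineFix g') (w : F9) :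
    ((g * g' : threeJ3 F ω) : GL F9 F).val w 0 = (g : GL F9 F).val w 0 * (g' : GL F9 F).val 0 0 := by
  rw [val_mul, Matrix.mul_apply, Finset.sum_eq_single (0 : F9)]
  · intro z _ hz
    rw [hg' z hz, mul_zero]
  · simp

theorem Fld.lineFix (h : Fld F ω) {x : threeJ3 F ω} (hx : x ∈ lineGp ω) : LineFix x := by
  refine closure_subset_left (S := {x | LineFix x}) ?_ ?_ x hx
  · intro w hw
    show (1 : Matrix F9 F9 F) w 0 = 0
    rw [Matrix.one_apply_ne hw]
  rintro _ ⟨g, rfl⟩ y hy w hw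
  rw [val_mul_col hy, el_val (h.inG_hg g.2), toMat_apply]
  rw [show dig (row (hg g) (pos w)) (pos 0) = 0 from hg_fix g g.2 w hw, phi_zero, zero_mul]

theorem Fld.diag_scal (h : Fld F ω) {x : threeJ3 F ω} (hx : x ∈ lineGp ω) :
    ∃ s < 3, (x : GL F9 F).val 0 0 = ω ^ s := by
  obtain ⟨e, he', rfl⟩ := h.lineGp_eq hx
  rw [el_val (h.inG_he he'), toMat_apply]
  have h4 := dig_lt (row (he e) (pos 0)) (pos 0)
  have h0 : dig (row (he e) (pos 0)) (pos 0) ≠ 0 := by
    intro h0
    have hfix := h.lineFix hx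
    have hu : IsUnit ((el ω (he e) : GL F9 F).val) := Units.isUnit _
    have hcol : ∀ w, (el ω (he e) : GL F9 F).val w 0 = 0 := by
      intro w
      by_cases hw : w = 0
      · subst hw; rw [el_val (h.inG_he he'), toMat_apply, h0, phi_zero]
      · exact hfix w hw
    exact (Matrix.isUnit_iff_isUnit_det _).1 hu |>.ne_zero (Matrix.det_eq_zero_of_column_eq_zero 0 hcol)
  generalize dig (row (he e) (pos 0)) (pos 0) = d at h4 h0
  interval_cases d
  · exact absurd rfl h0
  · exact ⟨0, by norm_num, by rw [phi_one, pow_zero]⟩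
  · exact ⟨1, by norm_num, by rw [phi_two, pow_one]⟩
  · exact ⟨2, by norm_num, h.phi_three⟩

theorem Fld.toMat_scal (h : Fld F ω) {s : ℕ} (hs' : s < 3) :
    toMat ω (scal s) = ω ^ s • (1 : Matrix F9 F9 F) := by
  interval_cases s <;> simp [scal, h.toMat_idM, h.toMat_omega, h.toMat_mul, pow_two, smul_smul]

theorem toMat_one_apply (w z : F9) : toMat ω 1 w z = if w = 0 ∧ z = 0 then 1 else 0 := by
  have e : ∀ w z : F9, dig (row 1 (pos w)) (pos z) = if w = 0 ∧ z = 0 then 1 else 0 := by decide +kernel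
  rw [toMat_apply, e w z]
  split_ifs <;> simp [phi_one, phi_zero]

theorem Fld.toMat_colM (h : Fld F ω) (a : ℕ) (w z : F9) :
    toMat ω (colM a) w z = if z = 0 then toMat ω a w 0 else 0 := by
  rw [colM, h.toMat_mul, Matrix.mul_apply, Finset.sum_eq_single (0 : F9)]
  · rw [toMat_one_apply]; by_cases hz : z = 0 <;> simp [hz]
  · intro b _ hb; rw [toMat_one_apply, if_neg (by simp [hb]), mul_zero]
  · simp

theorem Fld.moved (h : Fld F ω) {i : ℕ} (hi : i < 28) (hi0 : i ≠ 0) :
    ∃ u ∈ lineGp ω, ∀ v ∈ lineGp ω, u * rep ω i ≠ rep ω i * v := by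
  obtain ⟨i, rfl⟩ : ∃ j, i = j + 1 := ⟨i - 1, by omega⟩
  have e := all_range moveWitOk_eq (show i < 27 by omega)
  rw [Bool.and_eq_true] at e
  obtain ⟨e1, e2⟩ := e
  have b1 := blt_lt e1
  refine ⟨_, h.el_he_mem b1, fun v hv heq => ?_⟩
  obtain ⟨s, hs', hv00⟩ := h.diag_scal hv
  have e3 := all_range e2 hs'
  have hne : colM (mul (he (moveWit.getD (i + 1) 0)) (tr (i + 1))) ≠
      mul (scal s) (colM (tr (i + 1))) := by
    intro hc
    rw [hc, Nat.beq_refl] at e3
    exact Bool.false_ne_true e3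
  refine hne (toMat_inj h (mul_lt _ _) (mul_lt _ _) ?_)
  ext w z
  rw [h.toMat_colM, h.toMat_mul (scal s), h.toMat_scal hs', Matrix.smul_mul, one_mul,
    Matrix.smul_apply, h.toMat_colM]
  by_cases hz : z = 0
  · rw [if_pos hz, if_pos hz, ← el_val (h.inG_mul (h.inG_he b1) (h.inG_tr hi)),
      h.el_mul (h.inG_he b1) (h.inG_tr hi), ← rep, heq, val_mul_col (h.lineFix hv), hv00, rep,
      el_val (h.inG_tr hi), smul_eq_mul, mul_comm]
  · rw [if_neg hz, if_neg hz, smul_zero]

theorem Fld.commute_imp_mem (h : Fld F ω) {z : threeJ3 F ω} (hz : ∀ g, Commute z g) : z ∈ lineGp ω := by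
  obtain ⟨u, hu, i, hi, v, hv, rfl⟩ := h.mem_dset z
  by_cases hi0 : i = 0
  · subst hi0; rw [h.rep_zero, mul_one]; exact mul_mem hu hv
  obtain ⟨a, ha, hne⟩ := h.moved hi hi0
  refine absurd ?_ (hne ((rep ω i)⁻¹ * a * rep ω i) ?_)
  · group
  set z := u * rep ω i * v with hzd
  have e : (rep ω i)⁻¹ * a * rep ω i = v * (z⁻¹ * (u * a * u⁻¹) * z) * v⁻¹ := by
    rw [hzd]; group
  rw [e, mul_assoc z⁻¹, ← (hz (u * a * u⁻¹)).eq, inv_mul_cancel_left]
  exact mul_mem (mul_mem hv (mul_mem (mul_mem hu ha) (inv_mem hu))) (inv_mem hv)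

theorem Fld.core_scalar (h : Fld F ω) {n : threeJ3 F ω} (hn : ∀ g, g⁻¹ * n * g ∈ lineGp ω) :
    ∃ m : ℕ, n = scalGen ω ^ m := by
  have heig : ∀ (g : threeJ3 F ω) (w : F9), ∑ z, (n : GL F9 F).val w z * (g : GL F9 F).val z 0 =
      ((g⁻¹ * n * g : threeJ3 F ω) : GL F9 F).val 0 0 * (g : GL F9 F).val w 0 := by
    intro g w
    rw [mul_comm (((g⁻¹ * n * g : threeJ3 F ω) : GL F9 F).val 0 0), ← val_mul_col (h.lineFix (hn g)),
      show g * (g⁻¹ * n * g) = n * g by group, val_mul, Matrix.mul_apply]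
  have hD : ∀ Z w : F9, (el ω (codeD Z) : GL F9 F).val w 0 = if w = Z then 1 else 0 := by
    intro Z w
    rw [el_val (h.inG_codeD Z), h.toMat_codeD, j3D, Matrix.of_apply, zero_add, j3Lam, if_pos rfl]
  choose c hc using fun Z : F9 => (⟨_, rfl⟩ : ∃ c, c =
    (((el ω (codeD Z))⁻¹ * n * el ω (codeD Z) : threeJ3 F ω) : GL F9 F).val 0 0)
  have hdiag : ∀ w Z : F9, (n : GL F9 F).val w Z = if w = Z then c Z else 0 := by
    intro w Z
    have := heig (el ω (codeD Z)) w
    rw [← hc, hD, Finset.sum_eq_single Z (fun b _ hb => by rw [hD, if_neg hb, mul_zero]) (by simp),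
      hD, if_pos rfl, mul_one, mul_ite, mul_one, mul_zero] at this
    exact this
  obtain ⟨fl, fcov, w₀, hw₁, hw₂⟩ := fullCol_eq
  have g1 : InG ω (hxh fullCol) := h.inG_hxh fun k hk => fl k (by omega)
  have g2 : InG ω (hxh (fullCol.drop 3)) := h.inG_hxh fun k hk => by
    rw [List.getD_eq_getElem?_getD, List.getElem?_drop, ← List.getD_eq_getElem?_getD]
    exact fl _ (by omega)
  have hsame : ∀ {a : ℕ}, InG ω a → ∀ {w w' : F9}, dig (row (colM a) (pos w)) 0 ≠ 0 →
      dig (row (colM a) (pos w')) 0 ≠ 0 → c w = c w' := by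
    intro a ha w w' hw hw'
    have hnz : ∀ {w}, dig (row (colM a) (pos w)) 0 ≠ 0 → (el ω a : GL F9 F).val w 0 ≠ 0 := by
      intro w hw
      have := h.toMat_colM a w 0
      rw [if_pos rfl, toMat_apply] at this
      rw [el_val ha, ← this]
      exact h.phi_ne_zero (dig_lt _ _) hw
    have key : ∀ {w}, dig (row (colM a) (pos w)) 0 ≠ 0 →
        c w = (((el ω a)⁻¹ * n * el ω a : threeJ3 F ω) : GL F9 F).val 0 0 := by
      intro w hw
      have := heig (el ω a) w
      rw [Finset.sum_eq_single w (fun b _ hb => by rw [hdiag, if_neg (Ne.symm hb), zero_mul]) (by simp),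
        hdiag, if_pos rfl] at this
      exact mul_right_cancel₀ (hnz hw) this
    rw [key hw, key hw']
  have hall : ∀ w, c w = c w₀ := fun w => (fcov w).elim (fun hw => hsame g1 hw hw₁) fun hw => hsame g2 hw hw₂
  have hn0 : n ∈ lineGp ω := by simpa using hn 1
  obtain ⟨s, hs', h00⟩ := h.diag_scal hn0
  rw [hdiag, if_pos rfl, hall] at h00
  have hscal : (n : GL F9 F).val = toMat ω (scal s) := by
    rw [h.toMat_scal hs']
    ext w Z
    rw [hdiag, Matrix.smul_apply, Matrix.one_apply, hall, h00]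
    split_ifs <;> simp
  obtain ⟨m, hm⟩ := h.el_scal s
  exact ⟨m, by rw [← hm, el_eq hscal]⟩

theorem Fld.scalGen_central (h : Fld F ω) : scalGen ω ∈ Subgroup.center (threeJ3 F ω) := by
  rw [Subgroup.mem_center_iff]
  intro g
  apply val_inj
  rw [val_mul, val_mul, scalGen, el_val h.inG_omega, h.toMat_omega, Matrix.mul_smul, Matrix.smul_mul,
    mul_one, one_mul]

theorem Fld.center_eq (h : Fld F ω) :
    Subgroup.center (threeJ3 F ω) = Subgroup.zpowers (scalGen ω) := by
  refine le_antisymm (fun z hz => ?_) (Subgroup.zpowers_le.2 h.scalGen_central)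
  rw [Subgroup.mem_center_iff] at hz
  have hc : ∀ g, Commute z g := fun g => (hz g).symm
  obtain ⟨m, rfl⟩ := h.core_scalar (n := z) fun g => by
    rw [mul_assoc, (hc g).eq, inv_mul_cancel_left]
    exact h.commute_imp_mem hc
  exact pow_mem (Subgroup.mem_zpowers _) m

theorem Fld.card_center (h : Fld F ω) : Nat.card (Subgroup.center (threeJ3 F ω)) = 3 := by
  rw [h.center_eq, Nat.card_zpowers]
  haveI := Fact.mk Nat.prime_three
  exact orderOf_eq_prime h.scalGen_cube
    (h.el_ne_one h.inG_omega (getM_lt _ _) elems_eq.2.2.2.2.2.2.2.2.1)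

theorem Fld.card_J3 (h : Fld F ω) : Nat.card (J3 F ω) = 50232960 := by
  have e := Subgroup.card_eq_card_quotient_mul_card_subgroup (Subgroup.center (threeJ3 F ω))
  rw [h.card_threeJ3, h.card_center] at e
  show Nat.card (threeJ3 F ω ⧸ Subgroup.center (threeJ3 F ω)) = _
  omega

theorem Fld.connected (h : Fld F ω) {i : ℕ} (hi : i < 28) (hi0 : i ≠ 0) (K : Subgroup (threeJ3 F ω))
    (hK : lineGp ω ≤ K) (hiK : rep ω i ∈ K) : K = ⊤ := by
  suffices rep ω 1 ∈ K by
    rw [eq_top_iff, ← h.bigGp_eq_top]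
    exact (Subgroup.closure_le _).2 (Set.union_subset hK (Set.singleton_subset_iff.2 this))
  have step : ∀ (l : List (ℕ × ℕ × ℕ)) (known : List ℕ), connStep l known = true →
      (∀ k ∈ known, rep ω k ∈ K → rep ω 1 ∈ K) → rep ω 1 ∈ K := by
    intro l
    induction l with
    | nil =>
      intro known e hknown
      obtain ⟨j, rfl⟩ : ∃ j, i = j + 1 := ⟨i - 1, by omega⟩
      exact hknown _ (by simpa using all_range e (show j < 27 by omega)) hiK
    | cons a l ih =>
      obtain ⟨k, x, t⟩ := a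
      intro known e hknown
      simp only [connStep, Bool.and_eq_true] at e
      obtain ⟨⟨⟨⟨⟨e1, e2⟩, e3⟩, e4⟩, e5⟩, e6⟩ := e
      refine ih _ e6 fun j hj => ?_
      rcases List.mem_cons.1 hj with rfl | hj
      · intro hjK
        have a := h.inG_tr (blt_lt e1)
        have b := h.inG_he (blt_lt e2)
        obtain ⟨-, m, -, hm, u, hu, v, hv, e'⟩ := h.dval_spec e3
        rw [← Nat.eq_of_beq_eq_true e5, h.el_mul (h.inG_mul a b) a, h.el_mul a b] at e'
        refine hknown m (hm ▸ by simpa using e4) ?_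
        have hz : rep ω j * el ω (he x) * rep ω j ∈ K :=
          mul_mem (mul_mem hjK (hK (h.el_he_mem (blt_lt e2)))) hjK
        rw [rep] at hz
        rw [e'] at hz
        exact (K.mul_mem_cancel_left (hK hu)).1 ((K.mul_mem_cancel_right (hK hv)).1 hz)
      · exact hknown j hj
  exact step conn [1] conn_eq (by simp)

theorem Fld.normal_cases (h : Fld F ω) (N : Subgroup (threeJ3 F ω)) [N.Normal]
    (hZ : Subgroup.center (threeJ3 F ω) ≤ N) : N = Subgroup.center (threeJ3 F ω) ∨ N = ⊤ := by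
  by_cases hNH : N ≤ lineGp ω
  · refine Or.inl (le_antisymm (fun n hn => ?_) hZ)
    obtain ⟨m, rfl⟩ := h.core_scalar (n := n) fun g =>
      hNH (by simpa using Subgroup.Normal.conj_mem (inferInstance : N.Normal) n hn g⁻¹)
    exact pow_mem h.scalGen_central m
  right
  obtain ⟨n, hn, hnH⟩ := SetLike.not_le_iff_exists.1 hNH
  obtain ⟨u, hu, i, hi, v, hv, rfl⟩ := h.mem_dset n
  have hi0 : i ≠ 0 := by
    rintro rfl
    exact hnH (by rw [h.rep_zero, mul_one]; exact mul_mem hu hv)
  have htop : lineGp ω ⊔ N = ⊤ := h.connected hi hi0 _ le_sup_left (by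
    have : rep ω i = u⁻¹ * (u * rep ω i * v) * v⁻¹ := by group
    rw [this]
    exact mul_mem (mul_mem (Subgroup.mem_sup_left (inv_mem hu)) (Subgroup.mem_sup_right hn))
      (Subgroup.mem_sup_left (inv_mem hv)))
  have hdvd : Nat.card (threeJ3 F ω ⧸ N) ∣ 6480 := by
    rw [← h.index_eq.2]
    refine Subgroup.card_dvd_of_surjective ((QuotientGroup.mk' N).comp (lineGp ω).subtype) fun q => ?_
    obtain ⟨g, rfl⟩ := QuotientGroup.mk'_surjective N q
    have hmem : g ∈ ((lineGp ω ⊔ N : Subgroup (threeJ3 F ω)) : Set (threeJ3 F ω)) := by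
      rw [htop]; trivial
    rw [Subgroup.mul_normal] at hmem
    obtain ⟨x, hx, y, hy, rfl⟩ := hmem
    exact ⟨⟨x, hx⟩, by simp [(QuotientGroup.eq_one_iff y).2 hy]⟩
  have h19 : ∀ x : threeJ3 F ω, x ^ 19 ∈ N → x ∈ N := by
    intro x hx
    rw [← QuotientGroup.eq_one_iff, QuotientGroup.mk_pow] at hx
    rw [← QuotientGroup.eq_one_iff, ← orderOf_eq_one_iff]
    exact Nat.eq_one_of_dvd_coprimes (show Nat.Coprime 19 6480 by norm_num)
      (orderOf_dvd_of_pow_eq_one hx) ((orderOf_dvd_natCard _).trans hdvd)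
  have hgen : ∀ g < 7, el ω (genElem g) ∈ N := by
    intro g hg'
    obtain ⟨sl, se, s1, s2⟩ := split_spec hg'
    set e := splitTab.getD g ([], 0, 0, 0)
    have hu' := h.inG_hxh sl
    have hgE : InG ω (genElem g) := by
      unfold genElem
      split_ifs with h6
      · exact h.inG_hg h6
      · exact h.inG_tr (by norm_num)
    have hv' : InG ω e.2.1 := by
      refine ⟨(el ω (hxh e.1))⁻¹ * el ω (genElem g), ?_⟩
      rw [val_mul, el_val hgE, ← se, h.toMat_mul, ← el_val hu', ← mul_assoc, ← val_mul,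
        inv_mul_cancel]
      exact one_mul _
    rw [← se, h.el_mul hu' hv']
    obtain ⟨m1, em1⟩ := h.el_scal e.2.2.1
    obtain ⟨m2, em2⟩ := h.el_scal e.2.2.2
    refine mul_mem (h19 _ (hZ ?_)) (h19 _ (hZ ?_))
    · rw [← h.el_pow19 hu', s1, em1]; exact pow_mem h.scalGen_central m1
    · rw [← h.el_pow19 hv', s2, em2]; exact pow_mem h.scalGen_central m2
  rw [eq_top_iff, ← h.bigGp_eq_top]
  refine (Subgroup.closure_le _).2 (Set.union_subset ?_ (Set.singleton_subset_iff.2 ?_))
  · refine (Subgroup.closure_le _).2 ?_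
    rintro _ ⟨g, rfl⟩
    have := hgen g (g.2.trans (by norm_num))
    rwa [genElem, if_pos g.2] at this
  · have := hgen 6 (by norm_num)
    rwa [genElem, if_neg (lt_irrefl 6)] at this

theorem Fld.isSimple (h : Fld F ω) : IsSimpleGroup (J3 F ω) := by
  haveI : Nontrivial (J3 F ω) := Finite.one_lt_card_iff_nontrivial.1 (by rw [h.card_J3]; norm_num)
  refine ⟨fun M hM => ?_⟩
  set π := QuotientGroup.mk' (Subgroup.center (threeJ3 F ω))
  have hs : Function.Surjective π := QuotientGroup.mk'_surjective _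
  haveI : (M.comap π).Normal := hM.comap π
  have hmap := Subgroup.map_comap_eq_self_of_surjective hs M
  have hz : Subgroup.center (threeJ3 F ω) ≤ M.comap π := fun z hz' => by
    rw [Subgroup.mem_comap, QuotientGroup.mk'_apply, (QuotientGroup.eq_one_iff z).2 hz']
    exact one_mem _
  rcases h.normal_cases (M.comap π) hz with e | e
  · left
    rw [← hmap, e, eq_bot_iff]
    rintro _ ⟨z, hz', rfl⟩
    exact Subgroup.mem_bot.2 ((QuotientGroup.eq_one_iff z).2 hz')
  · right
    rw [← hmap, e, Subgroup.map_top_of_surjective π hs]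

end Cfsg.Agent.Lib.J3
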