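import Cfsg.Agent.Lib.J3.CentChecks
import Cfsg.Agent.Lib.J3.Simple

/-!
An upper bound for the centraliser of an involution in the triple cover of the third Janko group.
-/

set_option autoImplicit false
set_option linter.unusedSectionVars false

namespace Cfsg.Agent.Lib.J3.Cent

open Cfsg.Spor Cfsg.Agent.Lib.J3
open scoped MatrixGroups

variable {F : Type*} [Field F] [Finite F] {ω : F}

theorem qOk_spec : (∀ i < 32, dok (qTrip.getD i 0) = true ∧ qc i = dval (qTrip.getD i 0) ∧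
      (∀ l < i, qc l ≠ qc i) ∧ ∀ j < 32, qm i j < 32 ∧ mul (qc i) (qc j) = qc (qm i j)) ∧
    (∀ k < 2, dok (cTrip.getD k 0) = true ∧ cc k = dval (cTrip.getD k 0) ∧ mul (cc k) zc = mul zc (cc k) ∧
      (∀ i < 32, cact k i < 32 ∧ mul (cc k) (qc i) = mul (qc (cact k i)) (cc k)) ∧
      ∀ p < 5, cperm k p < 5 ∧
        (cact k (2 + 2 * p) = 2 + 2 * cperm k p ∨ cact k (2 + 2 * p) = 3 + 2 * cperm k p)) ∧
    qc 0 = idM := by
  have e := qOk_eq
  simp only [qOk, Bool.and_eq_true] at e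
  obtain ⟨⟨e1, e2⟩, e3⟩ := e
  refine ⟨fun i hi => ?_, fun k hk => ?_, Nat.eq_of_beq_eq_true e3⟩
  · have h := all_range e1 hi
    simp only [Bool.and_eq_true] at h
    obtain ⟨⟨⟨h1, h2⟩, h3⟩, h4⟩ := h
    refine ⟨h1, Nat.eq_of_beq_eq_true h2, fun l hl hq => ?_, fun j hj => ?_⟩
    · have h' := all_range h3 hl
      rw [hq, Nat.beq_refl] at h'
      exact Bool.false_ne_true h'
    · have h' := all_range h4 hj
      rw [Bool.and_eq_true] at h'
      exact ⟨blt_lt h'.1, Nat.eq_of_beq_eq_true h'.2⟩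
  · have h := all_range e2 hk
    simp only [Bool.and_eq_true] at h
    obtain ⟨⟨⟨⟨h1, h2⟩, h3⟩, h4⟩, h5⟩ := h
    refine ⟨h1, Nat.eq_of_beq_eq_true h2, Nat.eq_of_beq_eq_true h3, fun i hi => ?_, fun p hp => ?_⟩
    · have h' := all_range h4 hi
      rw [Bool.and_eq_true] at h'
      exact ⟨blt_lt h'.1, Nat.eq_of_beq_eq_true h'.2⟩
    · have h' := all_range h5 hp
      rw [Bool.and_eq_true, Bool.or_eq_true] at h'
      exact ⟨blt_lt h'.1, h'.2.imp Nat.eq_of_beq_eq_true Nat.eq_of_beq_eq_true⟩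

theorem kOk_spec : kc 0 = zc ∧
    (∀ j < 45, kIdx.getD j 0 < 6480 ∧ kc j = he (kIdx.getD j 0) ∧ kConj.getD j 0 < 6480 ∧
      mul zc (he (kConj.getD j 0)) = mul (he (kConj.getD j 0)) (kc j) ∧ ∀ l < j, kc l ≠ kc j) ∧
    ∀ g < 6, ∀ j < 45, tab 6 kAct (45 * g + j) < 45 ∧
      mul (hg g) (kc j) = mul (kc (tab 6 kAct (45 * g + j))) (hg g) := by
  have e := kOk_eq
  simp only [kOk, Bool.and_eq_true] at e
  obtain ⟨⟨e0, e1⟩, e2⟩ := e
  refine ⟨Nat.eq_of_beq_eq_true e0, fun j hj => ?_, fun g hg' j hj => ?_⟩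
  · have h := all_range e1 hj
    simp only [Bool.and_eq_true] at h
    obtain ⟨⟨⟨⟨h1, h2⟩, h3⟩, h4⟩, h5⟩ := h
    refine ⟨blt_lt h1, Nat.eq_of_beq_eq_true h2, blt_lt h3, Nat.eq_of_beq_eq_true h4, fun l hl hq => ?_⟩
    have h' := all_range h5 hl
    rw [hq, Nat.beq_refl] at h'
    exact Bool.false_ne_true h'
  · have h := all_range (all_range e2 hg') hj
    rw [Bool.and_eq_true] at h
    exact ⟨blt_lt h.1, Nat.eq_of_beq_eq_true h.2⟩

theorem Fld.inSub_kc (h : Fld F ω) {j : ℕ} (hj : j < 45) : InSub (lineGp ω) (kc j) := by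
  obtain ⟨h1, h2, -⟩ := kOk_spec.2.1 j hj
  rw [h2]
  exact ⟨h.inG_he h1, h.el_he_mem h1⟩

theorem Fld.inSub_zc (h : Fld F ω) : InSub (lineGp ω) zc :=
  kOk_spec.1 ▸ Fld.inSub_kc h (by norm_num)

/-- The involution. -/
noncomputable def zT (ω : F) : threeJ3 F ω := el ω zc

/-- Its class in the line stabiliser. -/
def kSet (ω : F) : Set (threeJ3 F ω) := {x | ∃ j < 45, x = el ω (kc j)}

theorem Fld.exists_conj (h : Fld F ω) {x : threeJ3 F ω} (hx : x ∈ kSet ω) :
    ∃ u ∈ lineGp ω, u⁻¹ * zT ω * u = x := by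
  obtain ⟨j, hj, rfl⟩ := hx
  obtain ⟨-, -, h3, h4, -⟩ := kOk_spec.2.1 j hj
  refine ⟨_, h.el_he_mem h3, ?_⟩
  have e := congrArg (el ω) h4
  rw [h.el_mul (Fld.inSub_zc h).1 (h.inG_he h3), h.el_mul (h.inG_he h3) (Fld.inSub_kc h hj).1] at e
  rw [zT, mul_assoc, e, inv_mul_cancel_left]

theorem Fld.kSet_closed (h : Fld F ω) {l : threeJ3 F ω} (hl : l ∈ lineGp ω) {x : threeJ3 F ω}
    (hx : x ∈ kSet ω) : l * x * l⁻¹ ∈ kSet ω := by
  revert x
  refine closure_subset_left (S := {l | ∀ {x}, x ∈ kSet ω → l * x * l⁻¹ ∈ kSet ω})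
    (fun {x} hx => by simpa using hx) ?_ l hl
  rintro _ ⟨g, rfl⟩ y hy x hx
  obtain ⟨j, hj, e⟩ := hy hx
  obtain ⟨h1, h2⟩ := kOk_spec.2.2 g g.2 j hj
  refine ⟨_, h1, ?_⟩
  have hg' := h.inG_hg g.2
  have e' := congrArg (el ω) h2
  rw [h.el_mul hg' (Fld.inSub_kc h hj).1, h.el_mul (Fld.inSub_kc h h1).1 hg'] at e'
  calc el ω (hg g) * y * x * (el ω (hg g) * y)⁻¹ = el ω (hg g) * (y * x * y⁻¹) * (el ω (hg g))⁻¹ := by group
    _ = _ := by rw [e, e', mul_inv_cancel_right]

/-- The centraliser. -/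
abbrev CT (ω : F) : Subgroup (threeJ3 F ω) := Subgroup.centralizer ({zT ω} : Set (threeJ3 F ω))

theorem Fld.card_line_cent (h : Fld F ω) : Nat.card ((CT ω).subgroupOf (lineGp ω)) ≤ 144 := by
  have hmem : ∀ j : Fin 45, el ω (he (kConj.getD j.val 0)) ∈ lineGp ω := fun j =>
    h.el_he_mem (kOk_spec.2.1 j j.2).2.2.1
  let f : Fin 45 → (lineGp ω) ⧸ (CT ω).subgroupOf (lineGp ω) := fun j =>
    QuotientGroup.mk ⟨_, inv_mem (hmem j)⟩
  have hf : Function.Injective f := by
    intro a b hab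
    have e := QuotientGroup.eq.1 hab
    rw [Subgroup.mem_subgroupOf, Subgroup.mem_centralizer_singleton_iff] at e
    simp only [Subgroup.coe_mul, Subgroup.coe_inv, inv_inv] at e
    have conj : ∀ j : Fin 45, (el ω (he (kConj.getD j.val 0)))⁻¹ * zT ω * el ω (he (kConj.getD j.val 0)) =
        el ω (kc j) := by
      intro j
      obtain ⟨-, -, h3, h4, -⟩ := kOk_spec.2.1 j j.2
      have e := congrArg (el ω) h4
      rw [h.el_mul (Fld.inSub_zc h).1 (h.inG_he h3), h.el_mul (h.inG_he h3) (Fld.inSub_kc h j.2).1] at e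
      rw [zT, mul_assoc, e, inv_mul_cancel_left]
    have hAB : el ω (kc a) = el ω (kc b) := by
      rw [← conj a, ← conj b]
      generalize el ω (he (kConj.getD a.val 0)) = A at e ⊢
      generalize el ω (he (kConj.getD b.val 0)) = B at e ⊢
      calc A⁻¹ * zT ω * A = A⁻¹ * (zT ω * (A * B⁻¹)) * B := by group
        _ = A⁻¹ * (A * B⁻¹ * zT ω) * B := by rw [e]
        _ = _ := by group
    have hc : kc a = kc b := h.el_inj (Fld.inSub_kc h a.2).1 (Fld.inSub_kc h b.2).1 (getM_lt _ _) (getM_lt _ _) hAB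
    rcases lt_trichotomy a.val b.val with hlt | heq | hlt
    · exact absurd hc ((kOk_spec.2.1 b b.2).2.2.2.2 a hlt)
    · exact Fin.ext heq
    · exact absurd hc.symm ((kOk_spec.2.1 a a.2).2.2.2.2 b hlt)
  have h1 := Nat.card_le_card_of_injective f hf
  rw [Nat.card_eq_fintype_card (α := Fin 45), Fintype.card_fin, ← Subgroup.index_eq_card] at h1
  have h2 := Subgroup.index_mul_card ((CT ω).subgroupOf (lineGp ω))
  rw [h.index_eq.2] at h2
  nlinarith

/-- The involutions that stay in the class along a representative. -/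
def ySet (ω : F) (i : ℕ) : Set (threeJ3 F ω) :=
  {x | x ∈ kSet ω ∧ ∃ v ∈ kSet ω, x * rep ω i = rep ω i * v}

theorem Fld.kSet_line (h : Fld F ω) {x : threeJ3 F ω} (hx : x ∈ kSet ω) : x ∈ lineGp ω := by
  obtain ⟨j, hj, rfl⟩ := hx
  exact (Fld.inSub_kc h hj).2

theorem Fld.card_ySet (h : Fld F ω) {i : ℕ} (hi : i < 28) :
    Nat.card (ySet ω i) ≤ (List.range 45).countP (good i) := by
  classical
  have hsub : ySet ω i ⊆ ↑((((List.range 45).filter (good i)).map fun j => el ω (kc j)).toFinset) := by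
    rintro x ⟨⟨j, hj, rfl⟩, v, hv, e⟩
    simp only [List.coe_toFinset, List.mem_map, List.mem_filter, List.mem_range, Set.mem_setOf_eq]
    refine ⟨j, ⟨hj, ?_⟩, rfl⟩
    have c := all_range (all_range tagOk_eq hi) hj
    have ht := h.inG_tr hi
    have hk := (Fld.inSub_kc h hj).1
    cases ht0 : Nat.beq (tag i j) 0
    · simp only [ht0, cond_false, Bool.and_eq_true] at c
      obtain ⟨c1, c2⟩ := c
      have c1' := blt_lt c1
      have e' := congrArg (el ω) (Nat.eq_of_beq_eq_true c2)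
      rw [h.el_mul hk ht, h.el_mul ht (h.inG_he c1')] at e'
      obtain ⟨l, hl, rfl⟩ := hv
      have e'' : el ω (kc l) = el ω (he (tag i j - 1)) := mul_left_cancel (e.symm.trans e')
      have hc : kc l = he (tag i j - 1) :=
        h.el_inj (Fld.inSub_kc h hl).1 (h.inG_he c1') (getM_lt _ _) (mul_lt _ _) e''
      rw [good, ht0, Bool.not_false, Bool.true_and, List.any_eq_true]
      exact ⟨l, List.mem_range.2 hl, by rw [hc]; exact Nat.beq_refl _⟩
    · exfalso
      simp only [ht0, cond_true] at c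
      have hvL := Fld.kSet_line h hv
      obtain ⟨s, hs', hv00⟩ := h.diag_scal hvL
      have e3 := all_range c hs'
      have hne : colM (mul (kc j) (tr i)) ≠ mul (scal s) (colM (tr i)) := by
        intro hc
        rw [hc, Nat.beq_refl] at e3
        exact Bool.false_ne_true e3
      refine hne (toMat_inj h (mul_lt _ _) (mul_lt _ _) ?_)
      ext w z
      rw [h.toMat_colM, h.toMat_mul (scal s), h.toMat_scal hs', Matrix.smul_mul, one_mul,
        Matrix.smul_apply, h.toMat_colM]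
      by_cases hz : z = 0
      · rw [if_pos hz, if_pos hz, ← el_val (h.inG_mul hk ht), h.el_mul hk ht, ← rep, e,
          val_mul_col (h.lineFix hvL), hv00, rep, el_val ht, smul_eq_mul, mul_comm]
      · rw [if_neg hz, if_neg hz, smul_zero]
  rw [List.countP_eq_length_filter]
  calc Nat.card (ySet ω i) ≤ Nat.card (↑((((List.range 45).filter (good i)).map fun j => el ω (kc j)).toFinset) :
        Set (threeJ3 F ω)) := Nat.card_mono (Finset.finite_toSet _) hsub
    _ = _ := by rw [Nat.card_coe_set_eq, Set.ncard_coe_finset]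
    _ ≤ _ := (List.toFinset_card_le _).trans (by rw [List.length_map])

/-- The fixed cosets in one suborbit that the centraliser reaches. -/
def fSet (ω : F) (i : ℕ) : Set (threeJ3 F ω ⧸ lineGp ω) :=
  {q | q ∈ MulAction.orbit (lineGp ω) (rep ω i : threeJ3 F ω ⧸ lineGp ω) ∧
    ∃ g ∈ CT ω, (g : threeJ3 F ω ⧸ lineGp ω) = q}

theorem Fld.card_fSet (h : Fld F ω) {i : ℕ} (hi : i < 28) :
    Nat.card (fSet ω i) ≤ kFix.getD i 0 := by
  haveI : Fintype F := Fintype.ofFinite F
  have c := all_range countOk_eq hi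
  simp only [Bool.and_eq_true] at c
  obtain ⟨⟨c1, c2⟩, c3⟩ := c
  have c1' := Nat.le_of_ble_eq_true c1
  have c2' := Nat.eq_of_beq_eq_true c2
  have c3' := Nat.le_of_ble_eq_true c3
  set n := 6480 / orbitSize.getD i 0
  set zi : threeJ3 F ω ⧸ lineGp ω := QuotientGroup.mk (rep ω i) with hzi
  have hstab : n ≤ Nat.card (MulAction.stabilizer (lineGp ω) zi) := by
    have h1 := Subgroup.index_mul_card (MulAction.stabilizer (lineGp ω) zi)
    rw [MulAction.index_stabilizer, h.index_eq.2, ← Nat.card_coe_set_eq] at h1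
    have h2 := h.card_orbit_le hi
    have hn0 : 0 < orbitSize.getD i 0 := by
      rcases Nat.eq_zero_or_pos (orbitSize.getD i 0) with h0 | h0
      · rw [h0, zero_mul] at c2'; norm_num at c2'
      · exact h0
    have h3 : orbitSize.getD i 0 * n ≤
        orbitSize.getD i 0 * Nat.card (MulAction.stabilizer (lineGp ω) zi) := by
      rw [c2', ← h1]
      exact Nat.mul_le_mul_right _ h2
    exact Nat.le_of_mul_le_mul_left h3 hn0
  let U : Set (lineGp ω) := {u | (u : threeJ3 F ω)⁻¹ * zT ω * u ∈ ySet ω i}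
  have hU : Nat.card U ≤ Nat.card (ySet ω i) * Nat.card ((CT ω).subgroupOf (lineGp ω)) := by
    choose w hw hwe using fun y : ySet ω i => Fld.exists_conj h y.2.1
    have hmem : ∀ u : U, (u.1 * (⟨w ⟨_, u.2⟩, hw _⟩ : lineGp ω)⁻¹) ∈ (CT ω).subgroupOf (lineGp ω) := by
      intro u
      rw [Subgroup.mem_subgroupOf, Subgroup.mem_centralizer_singleton_iff, Subgroup.coe_mul, Subgroup.coe_inv]
      have e := hwe ⟨_, u.2⟩
      dsimp only at e ⊢
      generalize w ⟨_, u.2⟩ = W at e ⊢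
      generalize ((u.1 : lineGp ω) : threeJ3 F ω) = A at e ⊢
      calc A * W⁻¹ * zT ω = A * (W⁻¹ * zT ω * W) * W⁻¹ := by group
        _ = A * (A⁻¹ * zT ω * A) * W⁻¹ := by rw [e]
        _ = _ := by group
    rw [← Nat.card_prod]
    refine Nat.card_le_card_of_injective (fun u : U => ((⟨_, u.2⟩ : ySet ω i),
      (⟨_, hmem u⟩ : (CT ω).subgroupOf (lineGp ω)))) ?_
    intro u u' huu'
    simp only [Prod.mk.injEq] at huu'
    obtain ⟨e1, e2⟩ := huu'
    have e2' := congrArg Subtype.val e2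
    simp only [e1, mul_left_inj] at e2'
    exact Subtype.ext e2'
  have hu : ∀ q : fSet ω i, ∃ u : lineGp ω, u • zi = q.1 := fun q => q.2.1
  choose uq huq using hu
  have hUmem : ∀ (q : fSet ω i) (s : MulAction.stabilizer (lineGp ω) zi), uq q * s.1 ∈ U := by
    intro q s
    obtain ⟨-, g, hg', hgq⟩ := q.2
    have e : ((((uq q * s.1 : lineGp ω) : threeJ3 F ω) * rep ω i : threeJ3 F ω) : threeJ3 F ω ⧸ lineGp ω) = g := by
      show (uq q * s.1) • zi = _
      rw [mul_smul, MulAction.mem_stabilizer_iff.1 s.2, huq, hgq]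
    set A := ((uq q * s.1 : lineGp ω) : threeJ3 F ω)
    have hl := QuotientGroup.eq.1 e
    set l := (A * rep ω i)⁻¹ * g
    have hg'' : g * zT ω = zT ω * g := Subgroup.mem_centralizer_singleton_iff.1 hg'
    have hy : A⁻¹ * zT ω * A ∈ kSet ω := by
      have h' := Fld.kSet_closed h (l := A⁻¹) (inv_mem (uq q * s.1).2) (x := zT ω)
        ⟨0, by norm_num, by rw [kOk_spec.1]; rfl⟩
      rwa [inv_inv] at h'
    refine ⟨hy, l * zT ω * l⁻¹, Fld.kSet_closed h hl ⟨0, by norm_num, by rw [kOk_spec.1]; rfl⟩, ?_⟩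
    calc A⁻¹ * zT ω * A * rep ω i = A⁻¹ * (zT ω * g) * l⁻¹ := by simp only [l]; group
      _ = A⁻¹ * (g * zT ω) * l⁻¹ := by rw [hg'']
      _ = _ := by simp only [l]; group
  have hinj : Nat.card (fSet ω i) * Nat.card (MulAction.stabilizer (lineGp ω) zi) ≤ Nat.card U := by
    rw [← Nat.card_prod]
    refine Nat.card_le_card_of_injective (fun p : fSet ω i × MulAction.stabilizer (lineGp ω) zi =>
      (⟨_, hUmem p.1 p.2⟩ : U)) ?_
    rintro ⟨q, s⟩ ⟨q', s'⟩ e
    have e' : uq q * s.1 = uq q' * s'.1 := congrArg Subtype.val e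
    have eq : q = q' := by
      have h1 := congrArg (· • zi) e'
      simp only [mul_smul, MulAction.mem_stabilizer_iff.1 s.2, MulAction.mem_stabilizer_iff.1 s'.2, huq] at h1
      exact Subtype.ext h1
    subst eq
    exact Prod.ext rfl (Subtype.ext (mul_left_cancel e'))
  have hy := (Fld.card_ySet h hi).trans c1'
  have hcl := Fld.card_line_cent h
  have : Nat.card (fSet ω i) * n ≤ kFix.getD i 0 * n :=
    calc Nat.card (fSet ω i) * n ≤ _ := Nat.mul_le_mul_left _ hstab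
      _ ≤ _ := hinj
      _ ≤ _ := hU
      _ ≤ kPairs.getD i 0 * 144 := Nat.mul_le_mul hy hcl
      _ ≤ _ := c3'
  refine Nat.le_of_mul_le_mul_right this ?_
  rcases Nat.eq_zero_or_pos n with h0 | h0
  · rw [h0, mul_zero] at c2'; norm_num at c2'
  · exact h0

theorem Fld.card_CT_le (h : Fld F ω) : Nat.card (CT ω) ≤ 5760 := by
  haveI : Fintype F := Fintype.ofFinite F
  set q0 : threeJ3 F ω ⧸ lineGp ω := QuotientGroup.mk 1
  have horb : Nat.card (MulAction.orbit (CT ω) q0) ≤ 40 := by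
    have hf : ∀ q : MulAction.orbit (CT ω) q0, ∃ i : Fin 28, q.1 ∈ fSet ω i.val := by
      rintro ⟨_, g, rfl⟩
      obtain ⟨u, hu, i, hi, v, hv, e⟩ := h.mem_dset (g : threeJ3 F ω)
      refine ⟨⟨i, hi⟩, ⟨⟨u, hu⟩, ?_⟩, g, g.2, ?_⟩
      · show ((u * rep ω i : threeJ3 F ω) : threeJ3 F ω ⧸ lineGp ω) = ((g * 1 : threeJ3 F ω) : threeJ3 F ω ⧸ lineGp ω)
        rw [QuotientGroup.eq, mul_one, e]
        simpa [mul_assoc] using hv
      · show _ = (((g : threeJ3 F ω) * 1 : threeJ3 F ω) : threeJ3 F ω ⧸ lineGp ω)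
        rw [mul_one]
    choose f hf' using hf
    refine (Nat.card_le_card_of_injective
      (fun q => (⟨f q, q.1, hf' q⟩ : Σ i : Fin 28, fSet ω i.val)) ?_).trans ?_
    · intro a b hab
      exact Subtype.ext (congrArg (fun x : Σ i : Fin 28, fSet ω i.val => x.2.1) hab)
    · rw [Nat.card_sigma]
      exact (Finset.sum_le_sum fun i _ => Fld.card_fSet h i.2).trans kFix_sum
  have hstab : Nat.card (MulAction.stabilizer (CT ω) q0) ≤ 144 := by
    have hm : ∀ g : MulAction.stabilizer (CT ω) q0, (g.1 : threeJ3 F ω) ∈ lineGp ω := by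
      intro g
      have e : (((g.1 : threeJ3 F ω) * 1 : threeJ3 F ω) : threeJ3 F ω ⧸ lineGp ω) = q0 :=
        MulAction.mem_stabilizer_iff.1 g.2
      rw [mul_one, QuotientGroup.eq, mul_one] at e
      exact (Subgroup.inv_mem_iff _).1 e
    refine (Nat.card_le_card_of_injective (fun g : MulAction.stabilizer (CT ω) q0 =>
      (⟨⟨_, hm g⟩, g.1.2⟩ : (CT ω).subgroupOf (lineGp ω))) ?_).trans (Fld.card_line_cent h)
    intro a b hab
    exact Subtype.ext (Subtype.ext (congrArg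
      (fun x : (CT ω).subgroupOf (lineGp ω) => ((x : lineGp ω) : threeJ3 F ω)) hab))
  rw [← Subgroup.index_mul_card (MulAction.stabilizer (CT ω) q0), MulAction.index_stabilizer,
    ← Nat.card_coe_set_eq]
  exact Nat.mul_le_mul horb hstab

end Cfsg.Agent.Lib.J3.Cent
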