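import Cfsg.Agent.Lib.J3.Checks
import Cfsg.Agent.Lib.J3.CentData

/-!
Computations for the centraliser of an involution in the triple cover of the third Janko group.
-/

set_option autoImplicit false
set_option maxRecDepth 100000
set_option maxHeartbeats 4000000

namespace Cfsg.Agent.Lib.J3.Cent

open Cfsg.Agent.Lib.J3

/-- The code of the involution. -/
def zc : ℕ := getM qTab 1

/-- The code of an involution of the class. -/
def kc (j : ℕ) : ℕ := getM kTab j

/-- The code of an element of the normal subgroup. -/
def qc (i : ℕ) : ℕ := getM qTab i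

/-- The code of one of the two elements. -/
def cc (k : ℕ) : ℕ := getM cTab k

/-- The product in the normal subgroup. -/
def qm (i j : ℕ) : ℕ := tab 5 qMulTab (32 * i + j)

/-- The action of one of the two elements. -/
def cact (k i : ℕ) : ℕ := (cAct.getD k []).getD i 0

/-- The permutation of the pairs. -/
def cperm (k i : ℕ) : ℕ := (cPerm.getD k []).getD i 0

/-- The class in the line stabiliser. -/
def kOk : Bool :=
  Nat.beq (kc 0) zc &&
    (List.range 45).all (fun j =>
      Nat.blt (kIdx.getD j 0) 6480 && Nat.beq (kc j) (he (kIdx.getD j 0)) &&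
      Nat.blt (kConj.getD j 0) 6480 &&
        Nat.beq (mul zc (he (kConj.getD j 0))) (mul (he (kConj.getD j 0)) (kc j)) &&
      (List.range j).all (fun l => !Nat.beq (kc l) (kc j))) &&
    (List.range 6).all (fun g => (List.range 45).all fun j =>
      Nat.blt (tab 6 kAct (45 * g + j)) 45 &&
        Nat.beq (mul (hg g) (kc j)) (mul (kc (tab 6 kAct (45 * g + j))) (hg g)))

theorem kOk_eq : kOk = true := by decide +kernel

/-- The tag of a pair. -/
def tag (i j : ℕ) : ℕ := tab 13 kTag (45 * i + j)

/-- The conjugate stays in the class. -/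
def good (i j : ℕ) : Bool :=
  !Nat.beq (tag i j) 0 && (List.range 45).any (fun l => Nat.beq (kc l) (he (tag i j - 1)))

/-- The tags are right. -/
def tagOk : Bool :=
  (List.range 28).all fun i => (List.range 45).all fun j =>
    let t := tag i j
    cond (Nat.beq t 0)
      ((List.range 3).all fun s => !Nat.beq (colM (mul (kc j) (tr i))) (mul (scal s) (colM (tr i))))
      (Nat.blt (t - 1) 6480 && Nat.beq (mul (kc j) (tr i)) (mul (tr i) (he (t - 1))))

theorem tagOk_eq : tagOk = true := by decide +kernel

/-- The numbers of fixed cosets. -/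
def countOk : Bool :=
  (List.range 28).all fun i =>
    Nat.ble ((List.range 45).countP (good i)) (kPairs.getD i 0) &&
      Nat.beq (orbitSize.getD i 0 * (6480 / orbitSize.getD i 0)) 6480 &&
      Nat.ble (kPairs.getD i 0 * 144) (kFix.getD i 0 * (6480 / orbitSize.getD i 0))

theorem countOk_eq : countOk = true := by decide +kernel

theorem kFix_sum : ∑ i : Fin 28, kFix.getD i.val 0 ≤ 40 := by decide +kernel

/-- The normal subgroup and its two automorphisms. -/
def qOk : Bool :=
  (List.range 32).all (fun i =>
      dok (qTrip.getD i 0) && Nat.beq (qc i) (dval (qTrip.getD i 0)) &&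
      (List.range i).all (fun l => !Nat.beq (qc l) (qc i)) &&
      (List.range 32).all (fun j => Nat.blt (qm i j) 32 && Nat.beq (mul (qc i) (qc j)) (qc (qm i j)))) &&
    (List.range 2).all (fun k =>
      dok (cTrip.getD k 0) && Nat.beq (cc k) (dval (cTrip.getD k 0)) &&
      Nat.beq (mul (cc k) zc) (mul zc (cc k)) &&
      (List.range 32).all (fun i => Nat.blt (cact k i) 32 &&
        Nat.beq (mul (cc k) (qc i)) (mul (qc (cact k i)) (cc k))) &&
      (List.range 5).all (fun p => Nat.blt (cperm k p) 5 &&
        (Nat.beq (cact k (2 + 2 * p)) (2 + 2 * cperm k p) || Nat.beq (cact k (2 + 2 * p)) (3 + 2 * cperm k p)))) &&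
    Nat.beq (qc 0) idM

theorem qOk_eq : qOk = true := by decide +kernel

/-- The element fusing the involution. -/
def fuseOk : Bool :=
  dok fuseTrip && Nat.beq (mul (dval fuseTrip) zc) (mul (qc 2) (dval fuseTrip))

theorem fuseOk_eq : fuseOk = true := by decide +kernel

end Cfsg.Agent.Lib.J3.Cent
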