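import Cfsg.Agent.Lib.J3.Packed
import Cfsg.Agent.Lib.J3.Data

/-!
Kernel checks of the tables for the triple cover of the third Janko group.
-/

set_option autoImplicit false

namespace Cfsg.Agent.Lib.J3

open Cfsg.Spor

/-- An entry of a packed table. -/
def tab (w P i : ℕ) : ℕ := (P >>> (w * i)) &&& (2 ^ w - 1)

/-- A packed matrix of a table. -/
def getM (P i : ℕ) : ℕ := tab 162 P i

/-- The identity. -/
def idM : ℕ := mulList []

/-- A generator of the line stabiliser. -/
def hg (g : ℕ) : ℕ := getM hgens g

/-- An element of the monomial subgroup. -/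
def mono (k : ℕ) : ℕ := mul (getM diagTab (k % 81)) (getM powTab (k / 81))

/-- An element of the line stabiliser. -/
def he (e : ℕ) : ℕ := mul (getM cosReps (e / 648)) (mono (e % 648))

/-- A double coset representative. -/
def tr (i : ℕ) : ℕ := getM trans i

/-- The product stored as a triple. -/
def dval (t : ℕ) : ℕ := mul (mul (he ((t >>> 5) &&& 8191)) (tr (t &&& 31))) (he (t >>> 18))

/-- The triple is in range. -/
def dok (t : ℕ) : Bool :=
  Nat.blt (t &&& 31) 28 && Nat.blt ((t >>> 5) &&& 8191) 6480 && Nat.blt (t >>> 18) 6480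

/-- A power of the scalar. -/
def scal (s : ℕ) : ℕ := if s = 0 then idM else if s = 1 then hg 0 else mul (hg 0) (hg 0)

/-- The digit of an entry. -/
def dig (r j : ℕ) : ℕ := cond (bit' r j) 1 0 ||| cond (bit' r (9 + j)) 2 0

/-- The digit of a power of `ω`. -/
def pd (n : ZMod 3) : ℕ := if n.val = 0 then 1 else if n.val = 1 then 2 else 3

/-- The coefficient of a translation as a digit. -/
def lamD (Z z : F9) : ℕ :=
  if z = 0 then 1
  else if F9.div Z z = F9.I - F9.one then 2
  else if F9.div Z z = -F9.I - F9.one then 3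
  else 1

/-- The digits of a packed matrix are given by a function. -/
def IsDig (a : ℕ) (f : F9 → F9 → ℕ) : Prop := ∀ w z : F9, dig (row a (pos w)) (pos z) = f w z

instance (a : ℕ) (f : F9 → F9 → ℕ) : Decidable (IsDig a f) :=
  inferInstanceAs (Decidable (∀ w z : F9, dig (row a (pos w)) (pos z) = f w z))

/-- The generator `A`. -/
def codeA (Z : F9) : ℕ := getM genA (pos Z)

/-- The generator `E`. -/
def codeE (Z : F9) : ℕ := getM genE (pos Z)

/-- The generator `D`. -/
def codeD (Z : F9) : ℕ := getM genD (pos Z)

/-- The generator `B`. -/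
def codeB (Z : F9) : ℕ := getM genB (pos Z)

/-- The generator `C`. -/
def codeC (Z : F9) : ℕ := getM genC (pos Z)

theorem codeA_dig : ∀ Z, IsDig (codeA Z) fun w z =>
    if w = z then pd (Z.1 * w.1 + Z.2 * w.2) else 0 := by decide +kernel

theorem codeE_dig : ∀ Z, IsDig (codeE Z) fun w z =>
    if w = z then pd ((Z.1 - w.1) ^ 2 + (Z.2 - w.2) ^ 2) else 0 := by decide +kernel

theorem codeD_dig : ∀ Z, IsDig (codeD Z) fun w z =>
    if w = z + Z then lamD Z z else 0 := by decide +kernel

theorem codeB_dig : ∀ Z : F9, Z ≠ 0 → IsDig (codeB Z) fun w z =>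
    if w = F9.mul Z z then 1 else 0 := by decide +kernel

theorem codeC_dig : ∀ Z : F9, Z ≠ 0 → IsDig (codeC Z) fun w z =>
    if z = 0 then (if w = 0 then 1 else 0)
    else if w = -F9.div Z z ∨ w = F9.mul F9.I (F9.div Z z) ∨ w = -F9.mul F9.I (F9.div Z z) then 1
    else 0 := by decide +kernel

theorem idM_dig : IsDig idM fun w z => if w = z then 1 else 0 := by decide +kernel

theorem omega_dig : IsDig (hg 0) fun w z => if w = z then 2 else 0 := by decide +kernel

theorem hg_eq : hg 1 = codeA (1, 0) ∧ hg 2 = codeA (0, 1) ∧ hg 3 = codeE (0, 0) ∧ hg 4 = codeB (1, 1) ∧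
    hg 5 = codeC (1, 0) := by decide +kernel

/-- The commutator which gives the scalar. -/
theorem scal_comm : ∃ Z W : F9, mul (hg 0) (mul (codeA W) (codeD Z)) = mul (codeD Z) (codeA W) := by
  decide +kernel

/-- The monomial subgroup. -/
def monoOk : Bool :=
  Nat.beq (mono 0) idM && Nat.beq (getM diagTab 0) idM && Nat.beq (getM powTab 0) idM &&
    (List.range 80).all (fun a =>
      Nat.beq (getM diagTab (a + 1))
        (if (a + 1) % 3 ≠ 0 then mul (hg 0) (getM diagTab a)
         else if (a + 1) % 9 ≠ 0 then mul (hg 1) (getM diagTab (a + 1 - 3))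
         else if (a + 1) % 27 ≠ 0 then mul (hg 2) (getM diagTab (a + 1 - 9))
         else mul (hg 3) (getM diagTab (a + 1 - 27)))) &&
    (List.range 7).all (fun a => Nat.beq (getM powTab (a + 1)) (mul (hg 4) (getM powTab a)))

theorem monoOk_eq : monoOk = true := by decide +kernel

/-- Closure of the monomial subgroup. -/
def monoActOk : Bool :=
  (List.range 5).all fun g => (List.range 648).all fun k =>
    Nat.blt (tab 10 monoAct (g * 648 + k)) 648 &&
      Nat.beq (mul (hg g) (mono k)) (mono (tab 10 monoAct (g * 648 + k)))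

theorem monoActOk_eq : monoActOk = true := by decide +kernel

/-- The representatives of the monomial subgroup. -/
def cosOk : Bool :=
  Nat.beq (getM cosReps 0) idM &&
    (List.range 9).all (fun j =>
      Nat.blt (cosPar.getD (j + 1) 0 % 10) (j + 1) && Nat.blt (cosPar.getD (j + 1) 0 / 10) 6 &&
        Nat.beq (getM cosReps (j + 1))
          (mul (hg (cosPar.getD (j + 1) 0 / 10)) (getM cosReps (cosPar.getD (j + 1) 0 % 10)))) &&
    (List.range 6).all (fun g => (List.range 10).all fun j =>
      Nat.blt (tab 13 cosAct (g * 10 + j)) 6480 &&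
        Nat.beq (mul (hg g) (getM cosReps j)) (he (tab 13 cosAct (g * 10 + j))))

theorem cosOk_eq : cosOk = true := by decide +kernel

/-- Six generators fix the first line. -/
theorem hg_fix : ∀ g < 6, ∀ w : F9, w ≠ 0 → dig (row (hg g) (pos w)) 0 = 0 := by decide +kernel

/-- A letter of a word. -/
def letter (a : ℕ) : ℕ := if a = 0 then codeD (1, 0) else if a = 1 then codeD (0, 1) else hg (a - 2)

/-- The words give the representatives. -/
def wordOk : Bool :=
  (List.range 28).all fun i =>
    (transWord.getD i []).all (fun a => Nat.blt a 8) &&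
      Nat.beq (tr i) (mulList ((transWord.getD i []).map letter))

theorem wordOk_eq : wordOk = true := by decide +kernel

/-- A representative of a right coset. -/
def hs (j : ℕ) : ℕ := he (tab 13 transv j)

/-- The right cosets. -/
def transvOk : Bool :=
  Nat.beq (hs 0) idM && Nat.beq (tr 0) idM &&
    (List.range 80).all fun j => Nat.blt (tab 13 transv j) 6480 &&
      (List.range 6).all fun g =>
        let e := tab 20 transvAct (j * 6 + g)
        Nat.blt (e % 128) 80 && Nat.blt (e / 128) 6480 &&
          Nat.beq (mul (mul (tr 1) (hs j)) (hg g)) (mul (mul (he (e / 128)) (tr 1)) (hs (e % 128)))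

theorem transvOk_eq : transvOk = true := by decide +kernel

/-- Closure of the double cosets. -/
def moveOk : Bool :=
  (List.range 80).all fun j => (List.range 28).all fun i =>
    dok (tab 31 moveTab (j * 28 + i)) &&
      Nat.beq (mul (mul (tr 1) (hs j)) (tr i)) (dval (tab 31 moveTab (j * 28 + i)))

theorem moveOk_eq : moveOk = true := by decide +kernel

/-- The position in the chain. -/
def rank (k : ℕ) : ℕ := chainOrder.idxOf k

/-- Every representative is reached from an earlier one. -/
def chainOk : Bool :=
  Nat.beq (rank 0) 0 &&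
    (List.range 27).all fun k =>
      let e := tab 12 chain (k + 1)
      Nat.blt (e / 128) 28 && Nat.blt (e % 128) 80 && Nat.blt (rank (e / 128)) (rank (k + 1)) &&
        Nat.beq (tab 31 moveTab (e % 128 * 28 + e / 128) &&& 31) (k + 1)

theorem chainOk_eq : chainOk = true := by decide +kernel

/-- Where the witnesses of a coset start. -/
def stabOff (i : ℕ) : ℕ := (stabCount.take i).sum

/-- The witness elements. -/
def stabOk : Bool :=
  (List.range 27).all fun i =>
    let n := stabCount.getD (i + 1) 0
    let o := stabOff (i + 1)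
    Nat.beq (n * orbitSize.getD (i + 1) 0) 6480 &&
      (List.range n).all fun t =>
        let e := tab 26 stabTab (o + t)
        Nat.blt (e / 8192) 6480 && Nat.blt (e % 8192) 6480 &&
          Nat.beq (mul (he (e / 8192)) (tr (i + 1))) (mul (tr (i + 1)) (he (e % 8192))) &&
          (Nat.beq t 0 || Nat.blt (he (tab 26 stabTab (o + t - 1) / 8192)) (he (e / 8192)))

theorem stabOk_eq : stabOk = true := by decide +kernel

theorem orbitSize_sum : orbitSize.getD 0 0 = 1 ∧ ∑ i : Fin 28, orbitSize.getD i.val 0 = 23256 := by
  decide +kernel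

/-- The generators lie in double cosets. -/
def genOk : Bool :=
  (List.range 5).all fun f => (List.range 9).all fun p =>
    let t := tab 31 genTab (f * 9 + p)
    let a := getM (if f = 0 then genA else if f = 1 then genE else if f = 2 then genD
      else if f = 3 then genB else genC) p
    (Nat.blt 2 f && Nat.beq p 0) || (dok t && Nat.beq a (dval t))

theorem genOk_eq : genOk = true := by decide +kernel

/-- The first column. -/
def colM (a : ℕ) : ℕ := mul a 1

/-- Every nontrivial representative is moved. -/
def moveWitOk : Bool :=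
  (List.range 27).all fun i => Nat.blt (moveWit.getD (i + 1) 0) 6480 &&
    (List.range 3).all fun s =>
      !Nat.beq (colM (mul (he (moveWit.getD (i + 1) 0)) (tr (i + 1)))) (mul (scal s) (colM (tr (i + 1))))

theorem moveWitOk_eq : moveWitOk = true := by decide +kernel

/-- A list of indices known to generate. -/
def connStep : List (ℕ × ℕ × ℕ) → List ℕ → Bool
  | [], known => (List.range 27).all fun i => known.contains (i + 1)
  | (i, h, t) :: l, known =>
      Nat.blt i 28 && Nat.blt h 6480 && dok t && known.contains (t &&& 31) &&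
        Nat.beq (mul (mul (tr i) (he h)) (tr i)) (dval t) && connStep l (i :: known)

theorem conn_eq : connStep conn [1] = true := by decide +kernel

/-- The product of a triple with the second representative. -/
def hxh (l : List ℕ) : ℕ :=
  mul (mul (mul (mul (he (l.getD 0 0)) (tr 1)) (he (l.getD 1 0))) (tr 1)) (he (l.getD 2 0))

/-- The nineteenth power. -/
def pow19 (m : ℕ) : ℕ :=
  let p2 := mul m m
  let p4 := mul p2 p2
  let p8 := mul p4 p4
  mul (mul (mul p8 p8) p2) m

/-- The elements which generate. -/
def genElem (g : ℕ) : ℕ := if g < 6 then hg g else tr 1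

/-- The factorisations. -/
def splitOk : Bool :=
  (List.range 7).all fun g =>
    let e := splitTab.getD g ([], 0, 0, 0)
    e.1.all (fun x => Nat.blt x 6480) &&
      Nat.beq (mul (hxh e.1) e.2.1) (genElem g) && Nat.blt e.2.2.1 3 && Nat.blt e.2.2.2 3 &&
      Nat.beq (pow19 (hxh e.1)) (scal e.2.2.1) && Nat.beq (pow19 e.2.1) (scal e.2.2.2)

theorem splitOk_eq : splitOk = true := by decide +kernel

/-- Cubes. -/
def cube (m : ℕ) : ℕ := mul (mul m m) m

/-- The seventeenth power. -/
def pow17 (m : ℕ) : ℕ :=
  let p2 := mul m m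
  let p4 := mul p2 p2
  let p8 := mul p4 p4
  mul (mul p8 p8) m

/-- The fifth power. -/
def pow5 (m : ℕ) : ℕ :=
  let p2 := mul m m
  mul (mul p2 p2) m

theorem elems_eq : (∀ k < 3, seventeen.getD k 0 < 6480) ∧ seventeen.getD 3 0 < 3 ∧
    pow17 (hxh seventeen) = scal (seventeen.getD 3 0) ∧ cube (hxh seventeen) ≠ idM ∧
    cube (hxh (splitTab.getD 0 ([], 0, 0, 0)).1) ≠ idM ∧
    five < 6480 ∧ pow5 (he five) = idM ∧ he five ≠ idM ∧ hg 0 ≠ idM ∧ mul (hg 0) (hg 0) ≠ idM ∧
    cube (hg 0) = idM := by decide +kernel

/-- The supports of two first columns cover the index set and meet. -/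
theorem fullCol_eq : (∀ k < 6, fullCol.getD k 0 < 6480) ∧
    (∀ w : F9, dig (row (colM (hxh fullCol)) (pos w)) 0 ≠ 0 ∨
      dig (row (colM (hxh (fullCol.drop 3))) (pos w)) 0 ≠ 0) ∧
    ∃ w : F9, dig (row (colM (hxh fullCol)) (pos w)) 0 ≠ 0 ∧
      dig (row (colM (hxh (fullCol.drop 3))) (pos w)) 0 ≠ 0 := by decide +kernel

/-- A Sylow subgroup. -/
def sylowOk (k n gens lst par act srt : ℕ) : Bool :=
  Nat.beq (getM lst 0) idM &&
    (List.range k).all (fun g => dok (tab 31 gens g)) &&
    (List.range (n - 1)).all (fun i =>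
      let p := tab 13 par (i + 1)
      Nat.blt (p / 8) (i + 1) && Nat.blt (p % 8) k &&
        Nat.beq (getM lst (i + 1)) (mul (dval (tab 31 gens (p % 8))) (getM lst (p / 8)))) &&
    (List.range k).all (fun g => (List.range n).all fun i =>
      Nat.blt (tab 10 act (g * n + i)) n &&
        Nat.beq (mul (dval (tab 31 gens g)) (getM lst i)) (getM lst (tab 10 act (g * n + i)))) &&
    (List.range n).all (fun i => Nat.blt (tab 10 srt i) n) &&
    (List.range (n - 1)).all (fun i =>
      Nat.blt (getM lst (tab 10 srt i)) (getM lst (tab 10 srt (i + 1))))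

theorem sylowTwo_eq : sylowOk 7 128 twoGens twoList twoPar twoAct twoSort = true := by decide +kernel

theorem sylowThree_eq : sylowOk 6 729 threeGens threeList threePar threeAct threeSort = true := by
  decide +kernel

end Cfsg.Agent.Lib.J3
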