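import Cfsg.Agent.Lib.J3.Group

/-!
The subgroup of the first line and its double cosets in the triple cover of the third Janko group.
-/

set_option autoImplicit false
set_option linter.unusedSectionVars false

namespace Cfsg.Agent.Lib.J3

open Cfsg.Spor
open scoped MatrixGroups

universe u

theorem all_range {n : ℕ} {p : ℕ → Bool} (h : (List.range n).all p = true) {i : ℕ} (hi : i < n) :
    p i = true :=
  List.all_eq_true.1 h i (List.mem_range.2 hi)

theorem blt_lt {a b : ℕ} (h : Nat.blt a b = true) : a < b := Nat.le_of_ble_eq_true h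

/-- A set containing one and closed under left multiplication by generators contains the closure. -/
theorem closure_subset_left {G : Type u} [Group G] [Finite G] {s S : Set G} (h1 : (1 : G) ∈ S)
    (hs : ∀ g ∈ s, ∀ x ∈ S, g * x ∈ S) : ∀ x ∈ Subgroup.closure s, x ∈ S := by
  intro x hx
  induction hx using Subgroup.closure_induction_left with
  | one => exact h1
  | mul_left g hg y _ ih => exact hs g hg y ih
  | inv_mul_cancel g hg y _ ih =>
    have : ∀ n : ℕ, g ^ n * y ∈ S := by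
      intro n
      induction n with
      | zero => simpa using ih
      | succ n ihn => rw [pow_succ', mul_assoc]; exact hs g hg _ ihn
    have e : g⁻¹ = g ^ (orderOf g - 1) := by
      rw [inv_eq_iff_mul_eq_one, ← pow_succ', Nat.sub_add_cancel (orderOf_pos g), pow_orderOf_eq_one]
    rw [e]
    exact this _

/-- A set containing one and closed under right multiplication by generators contains the closure. -/
theorem closure_subset_right {G : Type u} [Group G] [Finite G] {s S : Set G} (h1 : (1 : G) ∈ S)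
    (hs : ∀ g ∈ s, ∀ x ∈ S, x * g ∈ S) : ∀ x ∈ Subgroup.closure s, x ∈ S := by
  intro x hx
  induction hx using Subgroup.closure_induction_right with
  | one => exact h1
  | mul_right y _ g hg ih => exact hs g hg y ih
  | mul_inv_cancel y _ g hg ih =>
    have : ∀ n : ℕ, y * g ^ n ∈ S := by
      intro n
      induction n with
      | zero => simpa using ih
      | succ n ihn => rw [pow_succ, ← mul_assoc]; exact hs g hg _ ihn
    have e : g⁻¹ = g ^ (orderOf g - 1) := by
      rw [inv_eq_iff_mul_eq_one, ← pow_succ', Nat.sub_add_cancel (orderOf_pos g), pow_orderOf_eq_one]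
    rw [e]
    exact this _

variable {F : Type*} [Field F] [Finite F] {ω : F}

/-- The monomial part. -/
def monoGp (ω : F) : Subgroup (threeJ3 F ω) :=
  Subgroup.closure (Set.range fun g : Fin 5 => el ω (hg g))

/-- The subgroup of the first line. -/
def lineGp (ω : F) : Subgroup (threeJ3 F ω) :=
  Subgroup.closure (Set.range fun g : Fin 6 => el ω (hg g))

theorem el_hg_mem (ω : F) {g : ℕ} (hg' : g < 6) : el ω (hg g) ∈ lineGp ω :=
  Subgroup.subset_closure ⟨⟨g, hg'⟩, rfl⟩

theorem monoGp_le (ω : F) : monoGp ω ≤ lineGp ω :=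
  (Subgroup.closure_le _).2 (by rintro _ ⟨g, rfl⟩; exact el_hg_mem ω (g.2.trans (by norm_num)))

/-- The element is in the group and in a subgroup. -/
def InSub (S : Subgroup (threeJ3 F ω)) (a : ℕ) : Prop := InG ω a ∧ el ω a ∈ S

theorem Fld.inSub_mul (h : Fld F ω) {S : Subgroup (threeJ3 F ω)} {a b : ℕ} (ha : InSub S a)
    (hb : InSub S b) : InSub S (mul a b) :=
  ⟨h.inG_mul ha.1 hb.1, by rw [h.el_mul ha.1 hb.1]; exact S.mul_mem ha.2 hb.2⟩

theorem Fld.inSub_idM (h : Fld F ω) (S : Subgroup (threeJ3 F ω)) : InSub S idM :=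
  ⟨h.inG_idM, by rw [h.el_idM]; exact S.one_mem⟩

theorem Fld.inSub_hg5 (h : Fld F ω) {g : ℕ} (hg' : g < 5) : InSub (monoGp ω) (hg g) :=
  ⟨h.inG_hg (hg'.trans (by norm_num)), Subgroup.subset_closure ⟨⟨g, hg'⟩, rfl⟩⟩

theorem monoOk_spec : mono 0 = idM ∧ getM diagTab 0 = idM ∧ getM powTab 0 = idM ∧
    (∀ a < 80, ∃ g < 5, ∃ b ≤ a, getM diagTab (a + 1) = mul (hg g) (getM diagTab b)) ∧
    ∀ a < 7, getM powTab (a + 1) = mul (hg 4) (getM powTab a) := by
  have e := monoOk_eq
  simp only [monoOk, Bool.and_eq_true] at e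
  obtain ⟨⟨⟨⟨e1, e2⟩, e3⟩, e4⟩, e5⟩ := e
  refine ⟨Nat.eq_of_beq_eq_true e1, Nat.eq_of_beq_eq_true e2, Nat.eq_of_beq_eq_true e3, fun a ha => ?_,
    fun a ha => Nat.eq_of_beq_eq_true (all_range e5 ha)⟩
  have h := Nat.eq_of_beq_eq_true (all_range e4 ha)
  split_ifs at h with h1 h2 h3
  · exact ⟨0, by norm_num, a, le_rfl, h⟩
  · exact ⟨1, by norm_num, a + 1 - 3, by omega, h⟩
  · exact ⟨2, by norm_num, a + 1 - 9, by omega, h⟩
  · exact ⟨3, by norm_num, a + 1 - 27, by omega, h⟩

theorem Fld.inSub_mono (h : Fld F ω) {k : ℕ} (hk : k < 648) : InSub (monoGp ω) (mono k) := by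
  obtain ⟨-, d0, p0, hd, hp⟩ := monoOk_spec
  refine h.inSub_mul ?_ ?_
  · have : ∀ a, a < 81 → InSub (monoGp ω) (getM diagTab a) := by
      intro a
      induction a using Nat.strong_induction_on with
      | _ a ih =>
        intro ha
        rcases a with _ | a
        · rw [d0]; exact h.inSub_idM _
        · obtain ⟨g, hg', b, hb, e⟩ := hd a (by omega)
          rw [e]
          exact h.inSub_mul (h.inSub_hg5 hg') (ih b (by omega) (by omega))
    exact this _ (Nat.mod_lt _ (by norm_num))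
  · have : ∀ a, a < 8 → InSub (monoGp ω) (getM powTab a) := by
      intro a
      induction a with
      | zero => intro _; rw [p0]; exact h.inSub_idM _
      | succ a ih =>
        intro ha
        rw [hp a (by omega)]
        exact h.inSub_mul (h.inSub_hg5 (by norm_num)) (ih (by omega))
    exact this _ (by omega)

theorem Fld.monoGp_eq (h : Fld F ω) {x : threeJ3 F ω} (hx : x ∈ monoGp ω) :
    ∃ k < 648, x = el ω (mono k) := by
  refine closure_subset_left (S := {x | ∃ k < 648, x = el ω (mono k)})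
    ⟨0, by norm_num, by rw [monoOk_spec.1, h.el_idM]⟩ ?_ x hx
  rintro _ ⟨g, rfl⟩ _ ⟨k, hk, rfl⟩
  have e := all_range (all_range monoActOk_eq g.2) hk
  rw [Bool.and_eq_true] at e
  exact ⟨_, blt_lt e.1, by
    rw [← Nat.eq_of_beq_eq_true e.2, h.el_mul (h.inG_hg (g.2.trans (by norm_num))) (h.inSub_mono hk).1]⟩

theorem cosOk_spec : getM cosReps 0 = idM ∧
    (∀ j < 9, ∃ g < 6, ∃ b ≤ j, getM cosReps (j + 1) = mul (hg g) (getM cosReps b)) ∧
    ∀ g < 6, ∀ j < 10, ∃ e < 6480, mul (hg g) (getM cosReps j) = he e := by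
  have e := cosOk_eq
  simp only [cosOk, Bool.and_eq_true] at e
  obtain ⟨⟨e1, e2⟩, e3⟩ := e
  refine ⟨Nat.eq_of_beq_eq_true e1, fun j hj => ?_, fun g hg' j hj => ?_⟩
  · have h := all_range e2 hj
    simp only [Bool.and_eq_true] at h
    exact ⟨_, blt_lt h.1.2, _, Nat.le_of_lt_succ (blt_lt h.1.1), Nat.eq_of_beq_eq_true h.2⟩
  · have h := all_range (all_range e3 hg') hj
    rw [Bool.and_eq_true] at h
    exact ⟨_, blt_lt h.1, Nat.eq_of_beq_eq_true h.2⟩

theorem Fld.inSub_cosReps (h : Fld F ω) : ∀ j, j < 10 → InSub (lineGp ω) (getM cosReps j) := by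
  intro j
  induction j using Nat.strong_induction_on with
  | _ j ih =>
    intro hj
    rcases j with _ | j
    · rw [cosOk_spec.1]; exact h.inSub_idM _
    · obtain ⟨g, hg', b, hb, e⟩ := cosOk_spec.2.1 j (by omega)
      rw [e]
      exact h.inSub_mul ⟨h.inG_hg hg', el_hg_mem ω hg'⟩ (ih b (by omega) (by omega))

theorem Fld.el_he_spec (h : Fld F ω) {e : ℕ} (he' : e < 6480) : InSub (lineGp ω) (he e) ∧
    el ω (he e) = el ω (getM cosReps (e / 648)) * el ω (mono (e % 648)) := by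
  have h1 := h.inSub_cosReps (e / 648) (by omega)
  have h2 := h.inSub_mono (Nat.mod_lt e (show 0 < 648 by norm_num))
  exact ⟨h.inSub_mul h1 ⟨h2.1, monoGp_le ω h2.2⟩, h.el_mul h1.1 h2.1⟩

theorem Fld.inG_he (h : Fld F ω) {e : ℕ} (he' : e < 6480) : InG ω (he e) := (h.el_he_spec he').1.1

theorem Fld.el_he_mem (h : Fld F ω) {e : ℕ} (he' : e < 6480) : el ω (he e) ∈ lineGp ω :=
  (h.el_he_spec he').1.2

theorem Fld.lineGp_eq (h : Fld F ω) {x : threeJ3 F ω} (hx : x ∈ lineGp ω) :
    ∃ e < 6480, x = el ω (he e) := by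
  refine closure_subset_left (S := {x | ∃ e < 6480, x = el ω (he e)}) ?_ ?_ x hx
  · refine ⟨0, by norm_num, ?_⟩
    rw [(h.el_he_spec (show 0 < 6480 by norm_num)).2, Nat.zero_div, Nat.zero_mod, cosOk_spec.1,
      monoOk_spec.1, h.el_idM, mul_one]
  rintro _ ⟨g, rfl⟩ _ ⟨e, he', rfl⟩
  obtain ⟨e', he'', ee⟩ := cosOk_spec.2.2 g g.2 (e / 648) (by omega)
  have hR := h.inSub_cosReps (e / 648) (by omega)
  have hm : el ω (mono (e' % 648)) * el ω (mono (e % 648)) ∈ monoGp ω :=
    (monoGp ω).mul_mem (h.inSub_mono (Nat.mod_lt _ (by norm_num))).2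
      (h.inSub_mono (Nat.mod_lt _ (by norm_num))).2
  obtain ⟨k, hk, hkk⟩ := h.monoGp_eq hm
  refine ⟨e' / 648 * 648 + k, by omega, ?_⟩
  rw [(h.el_he_spec he').2, (h.el_he_spec (show e' / 648 * 648 + k < 6480 by omega)).2,
    show (e' / 648 * 648 + k) / 648 = e' / 648 by omega,
    show (e' / 648 * 648 + k) % 648 = k by omega, ← hkk, ← mul_assoc, ← mul_assoc]
  congr 1
  rw [← h.el_mul (h.inG_hg g.2) hR.1, ee, (h.el_he_spec he'').2]

theorem Fld.card_lineGp_le (h : Fld F ω) : Nat.card (lineGp ω) ≤ 6480 := by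
  choose f hf hf' using fun x : lineGp ω => h.lineGp_eq x.2
  have hinj : Function.Injective fun x => (⟨f x, hf x⟩ : Fin 6480) := fun x y hxy =>
    Subtype.ext (by rw [hf' x, hf' y, show f x = f y from congrArg Fin.val hxy])
  simpa using Nat.card_le_card_of_injective _ hinj

theorem Fld.inG_tr (h : Fld F ω) {i : ℕ} (hi : i < 28) : InG ω (tr i) := by
  have e := all_range wordOk_eq hi
  rw [Bool.and_eq_true] at e
  rw [Nat.eq_of_beq_eq_true e.2]
  have hl := List.all_eq_true.1 e.1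
  generalize transWord.getD i [] = l at hl
  induction l with
  | nil => exact h.inG_idM
  | cons a l ih =>
    refine h.inG_mul ?_ (ih fun x hx => hl x (List.mem_cons_of_mem _ hx))
    have ha : a < 8 := blt_lt (hl a List.mem_cons_self)
    simp only [letter]
    split_ifs with h0 h1
    · exact h.inG_codeD _
    · exact h.inG_codeD _
    · exact h.inG_hg (by omega)

/-- The double coset representative. -/
noncomputable def rep (ω : F) (i : ℕ) : threeJ3 F ω := el ω (tr i)

theorem tr_zero : tr 0 = idM := by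
  have e := transvOk_eq
  simp only [transvOk, Bool.and_eq_true] at e
  exact Nat.eq_of_beq_eq_true e.1.2

theorem Fld.rep_zero (h : Fld F ω) : rep ω 0 = 1 := by rw [rep, tr_zero, h.el_idM]

/-- A union of double cosets. -/
def dset (ω : F) : Set (threeJ3 F ω) :=
  {g | ∃ u ∈ lineGp ω, ∃ i < 28, ∃ v ∈ lineGp ω, g = u * rep ω i * v}

theorem Fld.dval_spec (h : Fld F ω) {t : ℕ} (ht : dok t = true) :
    InG ω (dval t) ∧ ∃ i < 28, i = t &&& 31 ∧ ∃ u ∈ lineGp ω, ∃ v ∈ lineGp ω,
      el ω (dval t) = u * rep ω i * v := by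
  simp only [dok, Bool.and_eq_true] at ht
  obtain ⟨⟨ht1, ht2⟩, ht3⟩ := ht
  have a := h.inG_he (blt_lt ht2)
  have b := h.inG_tr (blt_lt ht1)
  have c := h.inG_he (blt_lt ht3)
  exact ⟨h.inG_mul (h.inG_mul a b) c, _, blt_lt ht1, rfl, _, h.el_he_mem (blt_lt ht2), _,
    h.el_he_mem (blt_lt ht3), by rw [dval, h.el_mul (h.inG_mul a b) c, h.el_mul a b, rep]⟩

theorem Fld.transv_spec (h : Fld F ω) {x : threeJ3 F ω} (hx : x ∈ lineGp ω) :
    ∃ u ∈ lineGp ω, ∃ j < 80, InG ω (hs j) ∧ rep ω 1 * x = u * rep ω 1 * el ω (hs j) := by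
  have e := transvOk_eq
  simp only [transvOk, Bool.and_eq_true] at e
  obtain ⟨⟨e1, -⟩, e2⟩ := e
  have hin : ∀ j < 80, InG ω (hs j) := fun j hj => by
    have := all_range e2 hj
    simp only [Bool.and_eq_true] at this
    exact h.inG_he (blt_lt this.1)
  refine closure_subset_right
    (S := {x | ∃ u ∈ lineGp ω, ∃ j < 80, InG ω (hs j) ∧ rep ω 1 * x = u * rep ω 1 * el ω (hs j)}) ?_ ?_ x hx
  · exact ⟨1, one_mem _, 0, by norm_num, hin 0 (by norm_num),
      by rw [Nat.eq_of_beq_eq_true e1, h.el_idM, one_mul]⟩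
  rintro _ ⟨g, rfl⟩ y ⟨u, hu, j, hj, -, hy⟩
  have hg' := all_range e2 hj
  rw [Bool.and_eq_true] at hg'
  have hg'' := all_range hg'.2 g.2
  simp only [Bool.and_eq_true] at hg''
  obtain ⟨⟨c1, c2⟩, c3⟩ := hg''
  have b1 := blt_lt c1
  have b2 := blt_lt c2
  refine ⟨_, (lineGp ω).mul_mem hu (h.el_he_mem b2), _, b1, hin _ b1, ?_⟩
  have t1 := h.inG_tr (show 1 < 28 by norm_num)
  have eq := congrArg (el ω) (Nat.eq_of_beq_eq_true c3)
  rw [h.el_mul (h.inG_mul t1 (hin j hj)) (h.inG_hg g.2), h.el_mul t1 (hin j hj),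
    h.el_mul (h.inG_mul (h.inG_he b2) t1) (hin _ b1), h.el_mul (h.inG_he b2) t1] at eq
  rw [← mul_assoc, hy]
  simp only [rep, mul_assoc] at eq ⊢
  rw [eq]

theorem Fld.move_spec (h : Fld F ω) {j i : ℕ} (hj : j < 80) (hi : i < 28) (hh : InG ω (hs j)) :
    dok (tab 31 moveTab (j * 28 + i)) = true ∧
      rep ω 1 * el ω (hs j) * rep ω i = el ω (dval (tab 31 moveTab (j * 28 + i))) := by
  have e := all_range (all_range moveOk_eq hj) hi
  rw [Bool.and_eq_true] at e
  refine ⟨e.1, ?_⟩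
  have t1 := h.inG_tr (show 1 < 28 by norm_num)
  rw [← Nat.eq_of_beq_eq_true e.2, h.el_mul (h.inG_mul t1 hh) (h.inG_tr hi), h.el_mul t1 hh]
  rfl

theorem Fld.dset_left (h : Fld F ω) {g : threeJ3 F ω} (hg' : g ∈ dset ω) {y : threeJ3 F ω}
    (hy : y ∈ lineGp ω ∨ y = rep ω 1) : y * g ∈ dset ω := by
  obtain ⟨u, hu, i, hi, v, hv, rfl⟩ := hg'
  rcases hy with hy | rfl
  · exact ⟨y * u, mul_mem hy hu, i, hi, v, hv, by simp only [mul_assoc]⟩
  · obtain ⟨w, hw, j, hj, hh, e⟩ := h.transv_spec hu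
    obtain ⟨hd, e'⟩ := h.move_spec hj hi hh
    obtain ⟨-, k, hk, -, a, ha, b, hb, e''⟩ := h.dval_spec hd
    refine ⟨w * a, mul_mem hw ha, k, hk, b * v, mul_mem hb hv, ?_⟩
    calc rep ω 1 * (u * rep ω i * v) = (rep ω 1 * u) * rep ω i * v := by simp only [mul_assoc]
      _ = w * (rep ω 1 * el ω (hs j) * rep ω i) * v := by rw [e]; simp only [mul_assoc]
      _ = _ := by rw [e', e'']; simp only [mul_assoc]

/-- The subgroup generated by the line subgroup and the second representative. -/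
def bigGp (ω : F) : Subgroup (threeJ3 F ω) :=
  Subgroup.closure ((lineGp ω : Set (threeJ3 F ω)) ∪ {rep ω 1})

theorem lineGp_le_bigGp (ω : F) : lineGp ω ≤ bigGp ω := fun _ hx => Subgroup.subset_closure (Or.inl hx)

theorem Fld.rep_mem_bigGp (h : Fld F ω) : ∀ k, k < 28 → rep ω k ∈ bigGp ω := by
  have e := chainOk_eq
  simp only [chainOk, Bool.and_eq_true] at e
  intro k
  induction hr : rank k using Nat.strong_induction_on generalizing k with
  | _ r ih =>
    intro hk
    rcases k with _ | k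
    · rw [h.rep_zero]; exact one_mem _
    · have c := all_range e.2 (show k < 27 by omega)
      simp only [Bool.and_eq_true] at c
      obtain ⟨⟨⟨c1, c2⟩, c3⟩, c4⟩ := c
      have hi := blt_lt c1
      have hj := blt_lt c2
      have hprev := ih _ (hr ▸ blt_lt c3) _ rfl hi
      have hh : InG ω (hs (tab 12 chain (k + 1) % 128)) ∧
          el ω (hs (tab 12 chain (k + 1) % 128)) ∈ lineGp ω := by
        have e2 := transvOk_eq
        simp only [transvOk, Bool.and_eq_true] at e2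
        have := all_range e2.2 hj
        rw [Bool.and_eq_true] at this
        exact ⟨h.inG_he (blt_lt this.1), h.el_he_mem (blt_lt this.1)⟩
      obtain ⟨hd, e'⟩ := h.move_spec hj hi hh.1
      obtain ⟨-, m, -, hm, a, ha, b, hb, e''⟩ := h.dval_spec hd
      rw [Nat.eq_of_beq_eq_true c4] at hm
      subst hm
      have hz : rep ω 1 * el ω (hs (tab 12 chain (k + 1) % 128)) *
          rep ω (tab 12 chain (k + 1) / 128) ∈ bigGp ω :=
        mul_mem (mul_mem (Subgroup.subset_closure (Or.inr rfl)) (lineGp_le_bigGp ω hh.2)) hprev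
      rw [e', e''] at hz
      exact ((bigGp ω).mul_mem_cancel_left (lineGp_le_bigGp ω ha)).1
        (((bigGp ω).mul_mem_cancel_right (lineGp_le_bigGp ω hb)).1 hz)

theorem Fld.gen_spec (h : Fld F ω) {f p : ℕ} (hf : f < 5) (hp : p < 9) (hfp : f ≤ 2 ∨ p ≠ 0) :
    el ω (getM (if f = 0 then genA else if f = 1 then genE else if f = 2 then genD
      else if f = 3 then genB else genC) p) ∈ bigGp ω := by
  have e := all_range (all_range genOk_eq hf) hp
  simp only [Bool.or_eq_true, Bool.and_eq_true] at e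
  rcases e with ⟨e1, e2⟩ | ⟨hd, e⟩
  · have := blt_lt e1
    have := Nat.eq_of_beq_eq_true e2
    omega
  · rw [Nat.eq_of_beq_eq_true e]
    obtain ⟨-, i, hi, -, a, ha, b, hb, e''⟩ := h.dval_spec hd
    rw [e'']
    exact mul_mem (mul_mem (lineGp_le_bigGp ω ha) (h.rep_mem_bigGp i hi)) (lineGp_le_bigGp ω hb)

theorem Fld.bigGp_eq_top (h : Fld F ω) : bigGp ω = ⊤ := by
  have hpos : ∀ Z : F9, Z ≠ 0 → pos Z ≠ 0 := by decide
  have key : ∀ {a : ℕ} {g : GL F9 F} (hg' : g ∈ threeJ3 F ω), g.val = toMat ω a → el ω a ∈ bigGp ω →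
      g ∈ (bigGp ω).map (threeJ3 F ω).subtype := fun {a g} hg' hv he' =>
    ⟨⟨g, hg'⟩, by rwa [← el_eq (g := ⟨g, hg'⟩) hv], rfl⟩
  have hle : threeJ3 F ω ≤ (bigGp ω).map (threeJ3 F ω).subtype := by
    refine (Subgroup.closure_le _).2 ?_
    intro g hg'
    have hm : g ∈ threeJ3 F ω := Subgroup.subset_closure hg'
    rcases hg' with ((((⟨Z, hZ⟩ | ⟨Z, hZ⟩) | ⟨Z, hZ⟩) | ⟨Z, hn, hZ⟩) | ⟨Z, hn, hZ⟩)
    · exact key hm (hZ.symm.trans (h.toMat_codeA Z).symm)
        (h.gen_spec (f := 0) (by norm_num) (pos_lt Z) (Or.inl (by norm_num)))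
    · exact key hm (hZ.symm.trans (h.toMat_codeE Z).symm)
        (h.gen_spec (f := 1) (by norm_num) (pos_lt Z) (Or.inl (by norm_num)))
    · exact key hm (hZ.symm.trans (h.toMat_codeD Z).symm)
        (h.gen_spec (f := 2) (by norm_num) (pos_lt Z) (Or.inl le_rfl))
    · exact key hm (hZ.trans (h.toMat_codeB hn).symm)
        (h.gen_spec (f := 3) (by norm_num) (pos_lt Z) (Or.inr (hpos Z hn)))
    · exact key hm (hZ.trans (h.toMat_codeC hn).symm)
        (h.gen_spec (f := 4) (by norm_num) (pos_lt Z) (Or.inr (hpos Z hn)))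
  rw [eq_top_iff]
  rintro ⟨g, hg'⟩ -
  obtain ⟨y, hy, hyg⟩ := hle hg'
  rwa [show (⟨g, hg'⟩ : threeJ3 F ω) = y from Subtype.ext hyg.symm]

theorem Fld.mem_dset (h : Fld F ω) (g : threeJ3 F ω) : g ∈ dset ω :=
  closure_subset_left (S := dset ω) ⟨1, one_mem _, 0, by norm_num, 1, one_mem _, by simp [h.rep_zero]⟩
    (fun _ hy _ hx => h.dset_left hx hy) g (by show g ∈ bigGp ω; rw [h.bigGp_eq_top]; exact Subgroup.mem_top g)

end Cfsg.Agent.Lib.J3
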