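import Cfsg.Agent.Lib.J3.Checks

/-!
The packed matrices as elements of the triple cover of the third Janko group.
-/

set_option autoImplicit false

namespace Cfsg.Agent.Lib.J3

open Cfsg.Spor
open scoped MatrixGroups

variable {F : Type*} [Field F] {ω : F}

/-- A digit in the field. -/
def phi (ω : F) (d : ℕ) : F := bv (d.testBit 0) + bv (d.testBit 1) * ω

theorem small_bits : Nat.testBit 0 0 = false ∧ Nat.testBit 0 1 = false ∧ Nat.testBit 1 0 = true ∧
    Nat.testBit 1 1 = false ∧ Nat.testBit 2 0 = false ∧ Nat.testBit 2 1 = true ∧ Nat.testBit 3 0 = true ∧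
    Nat.testBit 3 1 = true := by decide

theorem ent_eq_phi (r j : ℕ) : ent ω r j = phi ω (dig r j) := by
  rw [ent, phi, dig, bit'_eq, bit'_eq]
  cases r.testBit j <;> cases r.testBit (9 + j) <;> simp [bv, small_bits]

theorem phi_zero : phi ω 0 = 0 := by simp [phi, bv, small_bits]

theorem phi_one : phi ω 1 = 1 := by simp [phi, bv, small_bits]

theorem phi_two : phi ω 2 = ω := by simp [phi, bv, small_bits]

theorem Fld.phi_three (h : Fld F ω) : phi ω 3 = ω ^ 2 := by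
  simp [phi, bv, small_bits, sq, h.omega]

theorem Fld.phi_pd (h : Fld F ω) (n : ZMod 3) : phi ω (pd n) = omegaPow F ω n := by
  have : n.val = 0 ∨ n.val = 1 ∨ n.val = 2 := by have := ZMod.val_lt n; omega
  rcases this with e | e | e <;>
    simp [pd, omegaPow, e, phi_one, phi_two, h.phi_three]

theorem Fld.omega_ne_zero (h : Fld F ω) : ω ≠ 0 := fun h0 => by simpa [h0] using h.omega

theorem Fld.omega_cube (h : Fld F ω) : ω ^ 3 = 1 := by
  linear_combination (ω + 1) * h.omega + ω * h.two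

theorem Fld.phi_ne_zero (h : Fld F ω) {d : ℕ} (hd : d < 4) (hd0 : d ≠ 0) : phi ω d ≠ 0 := by
  interval_cases d
  · exact (hd0 rfl).elim
  · rw [phi_one]; exact one_ne_zero
  · rw [phi_two]; exact h.omega_ne_zero
  · rw [h.phi_three]; exact pow_ne_zero 2 h.omega_ne_zero

theorem dig_lt (r j : ℕ) : dig r j < 4 := by
  unfold dig
  cases bit' r j <;> cases bit' r (9 + j) <;> decide

theorem toMat_apply (a : ℕ) (w z : F9) : toMat ω a w z = phi ω (dig (row a (pos w)) (pos z)) :=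
  ent_eq_phi _ _

theorem toMat_of_isDig {a : ℕ} {f : F9 → F9 → ℕ} (hf : IsDig a f) (w z : F9) :
    toMat ω a w z = phi ω (f w z) := by
  rw [toMat_apply, hf w z]

theorem Fld.toMat_idM (_h : Fld F ω) : toMat ω idM = 1 := by
  ext w z
  rw [toMat_of_isDig idM_dig, Matrix.one_apply]
  split_ifs <;> simp [phi_one, phi_zero]

theorem Fld.toMat_omega (_h : Fld F ω) : toMat ω (hg 0) = ω • (1 : Matrix F9 F9 F) := by
  ext w z
  rw [toMat_of_isDig omega_dig, Matrix.smul_apply, Matrix.one_apply]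
  split_ifs <;> simp [phi_two, phi_zero]

theorem Fld.toMat_codeA (h : Fld F ω) (Z : F9) : toMat ω (codeA Z) = j3A F ω Z := by
  ext w z
  rw [toMat_of_isDig (codeA_dig Z), j3A, Matrix.diagonal_apply]
  split_ifs <;> simp [h.phi_pd, phi_zero]

theorem Fld.toMat_codeE (h : Fld F ω) (Z : F9) : toMat ω (codeE Z) = j3E F ω Z := by
  ext w z
  rw [toMat_of_isDig (codeE_dig Z), j3E, Matrix.diagonal_apply]
  split_ifs <;> simp [h.phi_pd, phi_zero]

theorem Fld.toMat_codeD (h : Fld F ω) (Z : F9) : toMat ω (codeD Z) = j3D F ω Z := by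
  ext w z
  rw [toMat_of_isDig (codeD_dig Z), j3D, Matrix.of_apply, j3Lam, lamD]
  split_ifs <;> simp [h.phi_three, phi_zero, phi_one, phi_two]

theorem Fld.toMat_codeB (_h : Fld F ω) {Z : F9} (hZ : Z ≠ 0) : toMat ω (codeB Z) = j3B F Z := by
  ext w z
  rw [toMat_of_isDig (codeB_dig Z hZ), j3B, Matrix.of_apply]
  split_ifs <;> simp [phi_zero, phi_one]

theorem Fld.toMat_codeC (_h : Fld F ω) {Z : F9} (hZ : Z ≠ 0) : toMat ω (codeC Z) = j3C F Z := by
  ext w z
  rw [toMat_of_isDig (codeC_dig Z hZ), j3C, Matrix.of_apply]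
  split_ifs <;> simp [phi_zero, phi_one]

/-- A generator code is of finite order. -/
def finOrd (m : ℕ) : ℕ :=
  let p2 := mul m m
  let p4 := mul p2 p2
  let p9 := mul (mul p4 p4) m
  let p18 := mul p9 p9
  let p36 := mul p18 p18
  mul p36 p36

theorem codes_finOrd : (∀ Z, finOrd (codeA Z) = idM) ∧ (∀ Z, finOrd (codeE Z) = idM) ∧
    (∀ Z, finOrd (codeD Z) = idM) ∧ (∀ Z : F9, Z ≠ 0 → finOrd (codeB Z) = idM) ∧
    (∀ Z : F9, Z ≠ 0 → finOrd (codeC Z) = idM) := by decide +kernel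

theorem Fld.exists_gen (h : Fld F ω) {a : ℕ} (ha : toMat ω a ∈ j3Gens F ω) (ho : finOrd a = idM) :
    ∃ g : threeJ3 F ω, (g : GL F9 F).val = toMat ω a := by
  have hp : toMat ω a ^ 72 = 1 := by
    rw [← h.toMat_idM, ← ho]
    simp only [finOrd, h.toMat_mul, ← pow_succ, ← pow_two, ← pow_mul]
    congr 1
  obtain ⟨u, hu⟩ := IsUnit.of_pow_eq_one hp (by norm_num)
  exact ⟨⟨u, Subgroup.subset_closure (by show (u : Matrix F9 F9 F) ∈ j3Gens F ω; rw [hu]; exact ha)⟩, hu⟩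

/-- The code is a matrix of the group. -/
def InG (ω : F) (a : ℕ) : Prop := ∃ g : threeJ3 F ω, (g : GL F9 F).val = toMat ω a

open Classical in
/-- The element with a given code. -/
noncomputable def el (ω : F) (a : ℕ) : threeJ3 F ω := if h : InG ω a then h.choose else 1

theorem val_inj {g g' : threeJ3 F ω} (h : (g : GL F9 F).val = (g' : GL F9 F).val) : g = g' :=
  Subtype.ext (Units.ext h)

theorem el_val {a : ℕ} (h : InG ω a) : (el ω a : GL F9 F).val = toMat ω a := by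
  rw [el, dif_pos h]; exact h.choose_spec

theorem el_eq {a : ℕ} {g : threeJ3 F ω} (hg : (g : GL F9 F).val = toMat ω a) : el ω a = g :=
  val_inj ((el_val ⟨g, hg⟩).trans hg.symm)

theorem val_mul (g g' : threeJ3 F ω) :
    ((g * g' : threeJ3 F ω) : GL F9 F).val = (g : GL F9 F).val * (g' : GL F9 F).val := rfl

theorem Fld.el_mul_spec (h : Fld F ω) {a b : ℕ} (ha : InG ω a) (hb : InG ω b) :
    InG ω (mul a b) ∧ el ω (mul a b) = el ω a * el ω b := by
  have e : ((el ω a * el ω b : threeJ3 F ω) : GL F9 F).val = toMat ω (mul a b) := by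
    rw [val_mul, el_val ha, el_val hb, h.toMat_mul]
  exact ⟨⟨_, e⟩, el_eq e⟩

theorem Fld.inG_mul (h : Fld F ω) {a b : ℕ} (ha : InG ω a) (hb : InG ω b) : InG ω (mul a b) :=
  (h.el_mul_spec ha hb).1

theorem Fld.el_mul (h : Fld F ω) {a b : ℕ} (ha : InG ω a) (hb : InG ω b) :
    el ω (mul a b) = el ω a * el ω b :=
  (h.el_mul_spec ha hb).2

theorem Fld.inG_idM (h : Fld F ω) : InG ω idM :=
  ⟨1, by rw [h.toMat_idM]; rfl⟩

theorem Fld.el_idM (h : Fld F ω) : el ω idM = 1 := el_eq (by rw [h.toMat_idM]; rfl)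

theorem Fld.inG_codeA (h : Fld F ω) (Z : F9) : InG ω (codeA Z) :=
  h.exists_gen (by rw [h.toMat_codeA]; exact Or.inl (Or.inl (Or.inl (Or.inl ⟨Z, rfl⟩))))
    (codes_finOrd.1 Z)

theorem Fld.inG_codeE (h : Fld F ω) (Z : F9) : InG ω (codeE Z) :=
  h.exists_gen (by rw [h.toMat_codeE]; exact Or.inl (Or.inl (Or.inl (Or.inr ⟨Z, rfl⟩))))
    (codes_finOrd.2.1 Z)

theorem Fld.inG_codeD (h : Fld F ω) (Z : F9) : InG ω (codeD Z) :=
  h.exists_gen (by rw [h.toMat_codeD]; exact Or.inl (Or.inl (Or.inr ⟨Z, rfl⟩)))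
    (codes_finOrd.2.2.1 Z)

theorem Fld.inG_codeB (h : Fld F ω) {Z : F9} (hZ : Z ≠ 0) : InG ω (codeB Z) :=
  h.exists_gen (by rw [h.toMat_codeB hZ]; exact Or.inl (Or.inr ⟨Z, hZ, rfl⟩))
    (codes_finOrd.2.2.2.1 Z hZ)

theorem Fld.inG_codeC (h : Fld F ω) {Z : F9} (hZ : Z ≠ 0) : InG ω (codeC Z) :=
  h.exists_gen (by rw [h.toMat_codeC hZ]; exact Or.inr ⟨Z, hZ, rfl⟩)
    (codes_finOrd.2.2.2.2 Z hZ)

theorem Fld.inG_omega (h : Fld F ω) : InG ω (hg 0) := by
  obtain ⟨Z, W, e⟩ := scal_comm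
  have hWZ := h.inG_mul (h.inG_codeA W) (h.inG_codeD Z)
  have hZW := h.inG_mul (h.inG_codeD Z) (h.inG_codeA W)
  refine ⟨el ω (mul (codeD Z) (codeA W)) * (el ω (mul (codeA W) (codeD Z)))⁻¹, ?_⟩
  have e' := congrArg (toMat ω) e
  rw [h.toMat_mul, ← el_val hWZ, ← el_val hZW] at e'
  rw [val_mul, ← e', mul_assoc, ← val_mul, mul_inv_cancel]
  exact mul_one _

theorem Fld.inG_hg (h : Fld F ω) {g : ℕ} (hg' : g < 6) : InG ω (hg g) := by
  obtain ⟨e1, e2, e3, e4, e5⟩ := hg_eq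
  interval_cases g
  · exact h.inG_omega
  · rw [e1]; exact h.inG_codeA _
  · rw [e2]; exact h.inG_codeA _
  · rw [e3]; exact h.inG_codeE _
  · rw [e4]; exact h.inG_codeB (by decide)
  · rw [e5]; exact h.inG_codeC (by decide)

end Cfsg.Agent.Lib.J3
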