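import Cfsg.Agent.Lib.J3.Checks
import Cfsg.Agent.Lib.J3.IsoData

/-!
Kernel checks for the isotropic lines of the nine-dimensional module.
-/

set_option autoImplicit false

namespace Cfsg.Agent.Lib.J3

open Cfsg.Spor

/-- A digit in the first column. -/
def colDig (d : ℕ) : ℕ := cond (bit' d 0) 1 0 ||| cond (bit' d 1) 512 0

/-- A column from its digits. -/
def colCode (L : List ℕ) : ℕ := join fun i => colDig (L.getD i 0)

/-- All phases on a support. -/
def phases : List Bool → List (List ℕ)
  | [] => [[]]
  | b :: bs => (cond b [1, 2, 3] [0]).flatMap fun d => (phases bs).map (d :: ·)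

/-- The positions of a mask. -/
def maskBits (m : ℕ) : List Bool := (List.range 9).map (bit' m)

/-- A class. -/
def cls (c : ℕ) : ℕ := getM isoClass c

/-- One witness. -/
def witOk (v k : ℕ) : Bool :=
  let e := tab 20 isoWit k
  Nat.blt (e % 128) 81 && Nat.blt (e / 128) isoCount &&
    Nat.beq (mul (getM diagTab (e % 128)) v) (cls (e / 128))

/-- All witnesses of a support. -/
def allWit : List (List ℕ) → ℕ → Bool
  | [], _ => true
  | L :: rest, k => witOk (colCode L) k && allWit rest (k + 1)

/-- The check for one support. -/
def supOk (r : ℕ) : Bool := allWit (phases (maskBits (supReps.getD r 0))) (supOff.getD r 0)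

theorem supOk_0 : supOk 0 = true := by decide +kernel

theorem supOk_1 : supOk 1 = true := by decide +kernel

theorem supOk_2 : supOk 2 = true := by decide +kernel

theorem supOk_3 : supOk 3 = true := by decide +kernel

theorem supOk_4 : supOk 4 = true := by decide +kernel

theorem supOk_5 : supOk 5 = true := by decide +kernel

theorem supOk_6 : supOk 6 = true := by decide +kernel

/-- The index with a given position. -/
def idx9 (i : ℕ) : F9 := ((i / 3 : ℕ), (i % 3 : ℕ))

/-- One entry of the support table. -/
def supEntry (m : ℕ) : Bool :=
  !Nat.beq (tab 16 supTab m % 16) 0 && Nat.blt (tab 16 supTab m % 16) 9 &&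
    Nat.blt (tab 16 supTab m / 256) 7 &&
    (List.range 9).all fun p =>
      bit' (supReps.getD (tab 16 supTab m / 256) 0)
        (pos (F9.mul (idx9 (tab 16 supTab m % 16)) (idx9 p + idx9 (tab 16 supTab m / 16 % 16)))) == bit' m p

/-- The parity of the number of positions. -/
def evenMask (m : ℕ) : Bool := Nat.beq (((List.range 9).filter fun p => bit' m p).length % 2) 0

theorem supTab_ok :
    ((List.range 512).all fun m => Nat.beq m 0 || !evenMask m || supEntry m) = true := by decide +kernel

theorem idx9_spec : ∀ z : F9, idx9 (pos z) = z := by decide +kernel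

theorem idx9_ne_zero : ∀ p < 9, p ≠ 0 → idx9 p ≠ 0 := by decide +kernel

/-- The image of the first class under a word. -/
def wordImg : ℕ → ℕ → ℕ
  | 0, _ => cls 0
  | n + 1, e => if e = 0 then cls 0 else mul (letter (e % 16 - 1)) (wordImg n (e / 16))

/-- All classes are images of the first. -/
def classOk : Bool :=
  (List.range isoCount).all fun c => Nat.beq (wordImg isoLen (tab isoWidth isoWord c)) (cls c)

theorem classOk_eq : classOk = true := by decide +kernel

end Cfsg.Agent.Lib.J3
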