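import Cfsg.Agent.Lib.J3.Simple
import Cfsg.Agent.Lib.J3.KData
import Cfsg.Prelude.Def_Sporadic

/-!
A subgroup of index 6156 in the triple cover of the third Janko group, and the permutation group it gives.
-/

set_option autoImplicit false
set_option linter.unusedSectionVars false

namespace Cfsg.Agent.Lib.J3

open Cfsg.Spor
open scoped MatrixGroups

/-- A generator of the subgroup. -/
def kg (g : ℕ) : ℕ := dval (tab 31 kGens g)

/-- A product in the smaller subgroup. -/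
def kb (e t : ℕ) : ℕ := mul (getM kE e) (getM kT t)

/-- The tables of the subgroup. -/
def kOk : Bool :=
  (List.range 8).all (fun g => dok (tab 31 kGens g)) &&
    Nat.beq (getM kE 0) idM && Nat.beq (getM kT 0) idM && Nat.beq (getM kRep 0) idM &&
    (List.range 15).all (fun i =>
      let p := tab 13 kEPar (i + 1)
      Nat.blt (p / 8) (i + 1) && Nat.blt (p % 8) 4 &&
        Nat.beq (getM kE (i + 1)) (mul (kg (p % 8)) (getM kE (p / 8)))) &&
    (List.range 89).all (fun i =>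
      let p := tab 13 kTPar (i + 1)
      Nat.blt (p / 8) (i + 1) && Nat.blt (p % 8) 3 &&
        Nat.beq (getM kT (i + 1)) (mul (kg (4 + p % 8)) (getM kT (p / 8)))) &&
    (List.range 3).all (fun g => (List.range 90).all fun t =>
      Nat.blt (tab 10 kTAct (g * 90 + t)) 90 &&
        Nat.beq (mul (kg (4 + g)) (getM kT t)) (getM kT (tab 10 kTAct (g * 90 + t)))) &&
    (List.range 7).all (fun g => (List.range 16).all fun e =>
      Nat.blt (tab 12 kBAct (g * 16 + e) / 16) 90 &&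
        Nat.beq (mul (kg g) (getM kE e))
          (kb (tab 12 kBAct (g * 16 + e) % 16) (tab 12 kBAct (g * 16 + e) / 16))) &&
    (List.range 16).all (fun i =>
      let p := tab 13 kRepPar (i + 1)
      Nat.blt (p / 8) (i + 1) && Nat.blt (p % 8) 8 &&
        Nat.beq (getM kRep (i + 1)) (mul (kg (p % 8)) (getM kRep (p / 8)))) &&
    (List.range 8).all (fun g => (List.range 17).all fun j =>
      let r := tab 16 kRepAct (g * 17 + j)
      Nat.blt (r % 32) 17 && Nat.blt (r / 512) 90 &&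
        Nat.beq (mul (kg g) (getM kRep j)) (mul (getM kRep (r % 32)) (kb (r / 32 % 16) (r / 512))))

theorem kOk_eq : kOk = true := by decide +kernel

/-- The products are distinct. -/
def kSortOk : Bool :=
  (List.range 1440).all (fun i => Nat.blt (tab 11 kSort i) 1440) &&
    (List.range 1439).all (fun i =>
      Nat.blt (kb (tab 11 kSort i / 90) (tab 11 kSort i % 90))
        (kb (tab 11 kSort (i + 1) / 90) (tab 11 kSort (i + 1) % 90)))

theorem kSortOk_eq : kSortOk = true := by decide +kernel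

theorem kWord_eq : (∀ x ∈ kWord, x < 8) ∧ pow17 (mulList (kWord.map kg)) = scal kWordScal ∧
    cube (mulList (kWord.map kg)) ≠ idM ∧ scal kWordScal < 2 ^ 162 ∧ hg 0 = kg 4 := by decide +kernel

variable {F : Type*} [Field F] [Finite F] {ω : F}

/-- The subgroup of index 6156. -/
def kGp (ω : F) : Subgroup (threeJ3 F ω) :=
  Subgroup.closure (Set.range fun g : Fin 8 => el ω (kg g))

theorem kOk_spec : (∀ g < 8, dok (tab 31 kGens g) = true) ∧
    getM kE 0 = idM ∧ getM kT 0 = idM ∧ getM kRep 0 = idM ∧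
    (∀ i < 15, ∃ g < 4, ∃ b ≤ i, getM kE (i + 1) = mul (kg g) (getM kE b)) ∧
    (∀ i < 89, ∃ g < 3, ∃ b ≤ i, getM kT (i + 1) = mul (kg (4 + g)) (getM kT b)) ∧
    (∀ g < 3, ∀ t < 90, ∃ t' < 90, mul (kg (4 + g)) (getM kT t) = getM kT t') ∧
    (∀ g < 7, ∀ e < 16, ∃ e' < 16, ∃ t < 90, mul (kg g) (getM kE e) = kb e' t) ∧
    (∀ i < 16, ∃ g < 8, ∃ b ≤ i, getM kRep (i + 1) = mul (kg g) (getM kRep b)) ∧
    ∀ g < 8, ∀ j < 17, ∃ j' < 17, ∃ e < 16, ∃ t < 90,
      mul (kg g) (getM kRep j) = mul (getM kRep j') (kb e t) := by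
  have e := kOk_eq
  simp only [kOk, Bool.and_eq_true] at e
  obtain ⟨⟨⟨⟨⟨⟨⟨⟨⟨e1, e2⟩, e3⟩, e4⟩, e5⟩, e6⟩, e7⟩, e8⟩, e9⟩, e10⟩ := e
  refine ⟨fun g hg' => all_range e1 hg', Nat.eq_of_beq_eq_true e2, Nat.eq_of_beq_eq_true e3,
    Nat.eq_of_beq_eq_true e4, fun i hi => ?_, fun i hi => ?_, fun g hg' t ht => ?_,
    fun g hg' x hx => ?_, fun i hi => ?_, fun g hg' j hj => ?_⟩
  · have c := all_range e5 hi
    simp only [Bool.and_eq_true] at c
    exact ⟨_, blt_lt c.1.2, _, Nat.le_of_lt_succ (blt_lt c.1.1), Nat.eq_of_beq_eq_true c.2⟩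
  · have c := all_range e6 hi
    simp only [Bool.and_eq_true] at c
    exact ⟨_, blt_lt c.1.2, _, Nat.le_of_lt_succ (blt_lt c.1.1), Nat.eq_of_beq_eq_true c.2⟩
  · have c := all_range (all_range e7 hg') ht
    rw [Bool.and_eq_true] at c
    exact ⟨_, blt_lt c.1, Nat.eq_of_beq_eq_true c.2⟩
  · have c := all_range (all_range e8 hg') hx
    rw [Bool.and_eq_true] at c
    exact ⟨_, Nat.mod_lt _ (by norm_num), _, blt_lt c.1, Nat.eq_of_beq_eq_true c.2⟩
  · have c := all_range e9 hi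
    simp only [Bool.and_eq_true] at c
    exact ⟨_, blt_lt c.1.2, _, Nat.le_of_lt_succ (blt_lt c.1.1), Nat.eq_of_beq_eq_true c.2⟩
  · have c := all_range (all_range e10 hg') hj
    simp only [Bool.and_eq_true] at c
    exact ⟨_, blt_lt c.1.1, _, Nat.mod_lt _ (by norm_num), _, blt_lt c.1.2, Nat.eq_of_beq_eq_true c.2⟩

theorem Fld.inSub_kg (h : Fld F ω) {g : ℕ} (hg' : g < 8) : InSub (kGp ω) (kg g) :=
  ⟨(h.dval_spec (kOk_spec.1 g hg')).1, Subgroup.subset_closure ⟨⟨g, hg'⟩, rfl⟩⟩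

theorem Fld.inSub_tree (h : Fld F ω) {n : ℕ} {P : ℕ} (S : Subgroup (threeJ3 F ω))
    (h0 : getM P 0 = idM) (hs : ∀ i < n, ∃ a, InSub S a ∧ ∃ b ≤ i, getM P (i + 1) = mul a (getM P b)) :
    ∀ i ≤ n, InSub S (getM P i) := by
  intro i
  induction i using Nat.strong_induction_on with
  | _ i ih =>
    intro hi
    rcases i with _ | i
    · rw [h0]; exact h.inSub_idM _
    · obtain ⟨a, ha, b, hb, e⟩ := hs i (by omega)
      rw [e]
      exact h.inSub_mul ha (ih b (by omega) (by omega))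

theorem Fld.inSub_kE (h : Fld F ω) {e : ℕ} (he' : e < 16) : InSub (kGp ω) (getM kE e) :=
  h.inSub_tree (n := 15) _ kOk_spec.2.1 (fun i hi => by
    obtain ⟨g, hg', b, hb, e⟩ := kOk_spec.2.2.2.2.1 i hi
    exact ⟨_, h.inSub_kg (by omega), b, hb, e⟩) e (by omega)

/-- The subgroup of the complement. -/
def kTGp (ω : F) : Subgroup (threeJ3 F ω) :=
  Subgroup.closure (Set.range fun g : Fin 3 => el ω (kg (4 + g)))

theorem Fld.inSub_kT (h : Fld F ω) {t : ℕ} (ht : t < 90) : InSub (kTGp ω) (getM kT t) :=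
  h.inSub_tree (n := 89) _ kOk_spec.2.2.1 (fun i hi => by
    obtain ⟨g, hg', b, hb, e⟩ := kOk_spec.2.2.2.2.2.1 i hi
    exact ⟨_, ⟨(h.inSub_kg (show 4 + g < 8 by omega)).1, Subgroup.subset_closure ⟨⟨g, hg'⟩, rfl⟩⟩,
      b, hb, e⟩) t (by omega)

theorem Fld.kTGp_le (h : Fld F ω) : kTGp ω ≤ kGp ω :=
  (Subgroup.closure_le _).2 (by rintro _ ⟨g, rfl⟩; exact (h.inSub_kg (show 4 + g.val < 8 by omega)).2)

theorem Fld.inSub_kRep (h : Fld F ω) {j : ℕ} (hj : j < 17) : InSub (kGp ω) (getM kRep j) :=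
  h.inSub_tree (n := 16) _ kOk_spec.2.2.2.1 (fun i hi => by
    obtain ⟨g, hg', b, hb, e⟩ := kOk_spec.2.2.2.2.2.2.2.2.1 i hi
    exact ⟨_, h.inSub_kg hg', b, hb, e⟩) j (by omega)

theorem Fld.inSub_kb (h : Fld F ω) {e t : ℕ} (he' : e < 16) (ht : t < 90) : InSub (kGp ω) (kb e t) :=
  h.inSub_mul (h.inSub_kE he') ⟨(h.inSub_kT ht).1, h.kTGp_le (h.inSub_kT ht).2⟩

theorem Fld.el_kb (h : Fld F ω) {e t : ℕ} (he' : e < 16) (ht : t < 90) :
    el ω (kb e t) = el ω (getM kE e) * el ω (getM kT t) :=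
  h.el_mul (h.inSub_kE he').1 (h.inSub_kT ht).1

theorem Fld.kT_mul (h : Fld F ω) {x : threeJ3 F ω} (hx : x ∈ kTGp ω) {t : ℕ} (ht : t < 90) :
    ∃ t' < 90, x * el ω (getM kT t) = el ω (getM kT t') := by
  refine closure_subset_left (S := {x | ∀ {t}, t < 90 → ∃ t' < 90, x * el ω (getM kT t) = el ω (getM kT t')})
    (fun {t} ht => ⟨t, ht, one_mul _⟩) ?_ x hx ht
  rintro _ ⟨g, rfl⟩ y hy t ht
  obtain ⟨t', ht', e⟩ := hy ht
  obtain ⟨t'', ht'', e'⟩ := kOk_spec.2.2.2.2.2.2.1 g g.2 t' ht'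
  refine ⟨t'', ht'', ?_⟩
  rw [mul_assoc, e, ← h.el_mul (h.inSub_kg (show 4 + g.val < 8 by omega)).1 (h.inSub_kT ht').1, e']

/-- The subgroup generated by the first seven generators. -/
def kBGp (ω : F) : Subgroup (threeJ3 F ω) :=
  Subgroup.closure (Set.range fun g : Fin 7 => el ω (kg g))

theorem Fld.kB_mem (h : Fld F ω) {e t : ℕ} (he' : e < 16) (ht : t < 90) :
    el ω (kb e t) ∈ kBGp ω := by
  have hE : InSub (kBGp ω) (getM kE e) :=
    h.inSub_tree (n := 15) _ kOk_spec.2.1 (fun i hi => by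
      obtain ⟨g, hg', b, hb, e⟩ := kOk_spec.2.2.2.2.1 i hi
      exact ⟨_, ⟨(h.inSub_kg (show g < 8 by omega)).1,
        Subgroup.subset_closure ⟨⟨g, by omega⟩, rfl⟩⟩, b, hb, e⟩) e (by omega)
  have hle : kTGp ω ≤ kBGp ω := (Subgroup.closure_le _).2 (by
    rintro _ ⟨g, rfl⟩; exact Subgroup.subset_closure ⟨⟨4 + g.val, by omega⟩, rfl⟩)
  rw [h.el_kb he' ht]
  exact mul_mem hE.2 (hle (h.inSub_kT ht).2)

theorem Fld.kB_eq (h : Fld F ω) {x : threeJ3 F ω} (hx : x ∈ kBGp ω) :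
    ∃ e < 16, ∃ t < 90, x = el ω (kb e t) := by
  refine closure_subset_left (S := {x | ∃ e < 16, ∃ t < 90, x = el ω (kb e t)}) ?_ ?_ x hx
  · exact ⟨0, by norm_num, 0, by norm_num, by
      rw [h.el_kb (by norm_num) (by norm_num), kOk_spec.2.1, kOk_spec.2.2.1, h.el_idM, one_mul]⟩
  rintro _ ⟨g, rfl⟩ _ ⟨e, he', t, ht, rfl⟩
  obtain ⟨e', he'', t', ht', ee⟩ := kOk_spec.2.2.2.2.2.2.2.1 g g.2 e he'
  obtain ⟨t'', ht'', et⟩ := h.kT_mul (h.inSub_kT ht').2 ht
  refine ⟨e', he'', t'', ht'', ?_⟩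
  rw [h.el_kb he' ht, ← mul_assoc, ← h.el_mul (h.inSub_kg (g.2.trans (by norm_num))).1 (h.inSub_kE he').1,
    ee, h.el_kb he'' ht', mul_assoc, et, h.el_kb he'' ht'']

theorem Fld.kGp_eq (h : Fld F ω) {x : threeJ3 F ω} (hx : x ∈ kGp ω) :
    ∃ j < 17, ∃ e < 16, ∃ t < 90, x = el ω (getM kRep j) * el ω (kb e t) := by
  refine closure_subset_left
    (S := {x | ∃ j < 17, ∃ e < 16, ∃ t < 90, x = el ω (getM kRep j) * el ω (kb e t)}) ?_ ?_ x hx
  · exact ⟨0, by norm_num, 0, by norm_num, 0, by norm_num, by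
      rw [h.el_kb (by norm_num) (by norm_num), kOk_spec.2.1, kOk_spec.2.2.1, kOk_spec.2.2.2.1,
        h.el_idM, one_mul, one_mul]⟩
  rintro _ ⟨g, rfl⟩ _ ⟨j, hj, e, he', t, ht, rfl⟩
  obtain ⟨j', hj', e', he'', t', ht', ee⟩ := kOk_spec.2.2.2.2.2.2.2.2.2 g g.2 j hj
  obtain ⟨e'', he3, t'', ht3, eb⟩ :=
    h.kB_eq (mul_mem (h.kB_mem he'' ht') (h.kB_mem he' ht))
  refine ⟨j', hj', e'', he3, t'', ht3, ?_⟩
  rw [← mul_assoc, ← h.el_mul (h.inSub_kg g.2).1 (h.inSub_kRep hj).1, ee,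
    h.el_mul (h.inSub_kRep hj').1 (h.inSub_kb he'' ht').1, mul_assoc, eb]

theorem mulList_spec (h : Fld F ω) (S : Subgroup (threeJ3 F ω)) :
    ∀ l : List ℕ, (∀ a ∈ l, InSub S a) → InSub S (mulList l)
  | [], _ => h.inSub_idM S
  | a :: l, hl => h.inSub_mul (hl a List.mem_cons_self)
      (mulList_spec h S l fun x hx => hl x (List.mem_cons_of_mem _ hx))

theorem Fld.card_kGp (h : Fld F ω) : Nat.card (kGp ω) = 24480 := by
  refine le_antisymm ?_ (Nat.le_of_dvd Nat.card_pos ?_)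
  · choose j hj e he' t ht hx using fun x : kGp ω => h.kGp_eq x.2
    have := Nat.card_le_card_of_injective
      (fun x => ((⟨j x, hj x⟩, ⟨e x, he' x⟩, ⟨t x, ht x⟩) : Fin 17 × Fin 16 × Fin 90)) fun x y hxy => by
      simp only [Prod.mk.injEq, Fin.mk.injEq] at hxy
      apply Subtype.ext
      rw [hx x, hx y, hxy.1, hxy.2.1, hxy.2.2]
    simpa using this
  · have hB : Nat.card (kBGp ω) = 1440 := by
      refine le_antisymm ?_ ?_
      · choose e he' t ht hx using fun x : kBGp ω => h.kB_eq x.2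
        have := Nat.card_le_card_of_injective
          (fun x => ((⟨e x, he' x⟩, ⟨t x, ht x⟩) : Fin 16 × Fin 90)) fun x y hxy => by
          simp only [Prod.mk.injEq, Fin.mk.injEq] at hxy
          apply Subtype.ext
          rw [hx x, hx y, hxy.1, hxy.2]
        simpa using this
      · have e := kSortOk_eq
        simp only [kSortOk, Bool.and_eq_true] at e
        set c : ℕ → ℕ := fun i => kb (tab 11 kSort i / 90) (tab 11 kSort i % 90) with hc
        have hs : ∀ i : Fin 1440, tab 11 kSort i / 90 < 16 ∧ tab 11 kSort i % 90 < 90 := fun i => by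
          have : tab 11 kSort i < 1440 := blt_lt (all_range e.1 i.2)
          omega
        have hmono : ∀ b, b < 1440 → ∀ a < b, c a < c b := by
          intro b
          induction b with
          | zero => intro _ a ha; omega
          | succ b ih =>
            intro hb a ha
            have hstep : c b < c (b + 1) := blt_lt (all_range e.2 (show b < 1439 by omega))
            rcases Nat.lt_succ_iff_lt_or_eq.1 ha with ha | rfl
            · exact (ih (by omega) a ha).trans hstep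
            · exact hstep
        have hinj : Function.Injective fun i : Fin 1440 =>
            (⟨el ω (c i), h.kB_mem (hs i).1 (hs i).2⟩ : kBGp ω) := by
          intro a b hab
          have ee : c a = c b := h.el_inj (h.inSub_kb (hs a).1 (hs a).2).1 (h.inSub_kb (hs b).1 (hs b).2).1
            (mul_lt _ _) (mul_lt _ _) (congrArg Subtype.val hab)
          rcases lt_trichotomy a.val b.val with hlt | heq | hlt
          · exact absurd ee (hmono _ b.2 _ hlt).ne
          · exact Fin.ext heq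
          · exact absurd ee (hmono _ a.2 _ hlt).ne'
        simpa using Nat.card_le_card_of_injective _ hinj
    have hle : kBGp ω ≤ kGp ω :=
      (Subgroup.closure_le _).2 (by rintro _ ⟨g, rfl⟩; exact (h.inSub_kg (g.2.trans (by norm_num))).2)
    have h1440 : 1440 ∣ Nat.card (kGp ω) := hB ▸ Subgroup.card_dvd_of_le hle
    have h17 : 17 ∣ Nat.card (kGp ω) := by
      obtain ⟨hl, e17, e3, hlt, -⟩ := kWord_eq
      obtain ⟨hm, hmem⟩ := mulList_spec h (kGp ω) (kWord.map kg) (by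
        intro a ha
        obtain ⟨g, hg', rfl⟩ := List.mem_map.1 ha
        exact h.inSub_kg (hl g hg'))
      obtain ⟨m, em⟩ := h.el_scal kWordScal
      refine (dvd_orderOf (m := m) (by norm_num) h.scalGen_cube ?_ ?_).trans
        (Subgroup.orderOf_dvd_natCard _ hmem)
      · rw [← h.el_pow17 hm, e17, em]
      · rw [← h.el_cube hm]
        exact h.el_ne_one (by rw [cube]; exact h.inG_mul (h.inG_mul hm hm) hm) (mul_lt _ _) e3
    exact Nat.Coprime.mul_dvd_of_dvd_of_dvd (show Nat.Coprime 17 1440 by norm_num) h17 h1440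

theorem Fld.center_le_kGp (h : Fld F ω) : Subgroup.center (threeJ3 F ω) ≤ kGp ω := by
  rw [h.center_eq, Subgroup.zpowers_le, scalGen, kWord_eq.2.2.2.2]
  exact (h.inSub_kg (by norm_num)).2

/-- The image of the subgroup in the quotient. -/
def kImg (ω : F) : Subgroup (J3 F ω) :=
  (kGp ω).map (QuotientGroup.mk' (Subgroup.center (threeJ3 F ω)))

theorem Fld.kImg_index (h : Fld F ω) : (kImg ω).index = 6156 ∧ Nat.card (kImg ω) = 8160 := by
  have hi : (kImg ω).index = (kGp ω).index :=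
    Subgroup.index_map_eq _ (QuotientGroup.mk'_surjective _) (by
      rw [QuotientGroup.ker_mk']; exact h.center_le_kGp)
  have e := Subgroup.index_mul_card (kGp ω)
  rw [h.card_threeJ3, h.card_kGp] at e
  have h1 : (kImg ω).index = 6156 := by omega
  refine ⟨h1, ?_⟩
  have e' := Subgroup.index_mul_card (kImg ω)
  rw [h.card_J3, h1] at e'
  omega

theorem Fld.exists_perm (h : Fld F ω) : ∃ H : Subgroup (Equiv.Perm (Fin 6156)), Cfsg.IsJ3 H ∧
    MulAction.IsPretransitive H (Fin 6156) ∧ Nat.card (MulAction.stabilizer H (0 : Fin 6156)) = 8160 := by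
  classical
  obtain ⟨hind, hcard⟩ := h.kImg_index
  haveI := h.isSimple
  have hq : Nat.card (J3 F ω ⧸ kImg ω) = 6156 := by rw [← Subgroup.index_eq_card, hind]
  let e₀ : J3 F ω ⧸ kImg ω ≃ Fin 6156 := (Finite.equivFinOfCardEq hq)
  let p : J3 F ω ⧸ kImg ω := QuotientGroup.mk 1
  let e : J3 F ω ⧸ kImg ω ≃ Fin 6156 := e₀.trans (Equiv.swap (e₀ p) 0)
  have hp : e p = 0 := by simp [e]
  let φ : J3 F ω →* Equiv.Perm (Fin 6156) :=
    e.permCongrHom.toMonoidHom.comp (MulAction.toPermHom (J3 F ω) (J3 F ω ⧸ kImg ω))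
  have hφ : ∀ g q, φ g (e q) = e (g • q) := fun g q => by simp [φ, Equiv.permCongrHom]
  have hinj : Function.Injective φ := by
    rw [← MonoidHom.ker_eq_bot_iff]
    refine (MonoidHom.normal_ker φ).eq_bot_or_eq_top.resolve_right fun ht => ?_
    have hall : kImg ω = ⊤ := by
      rw [eq_top_iff]
      intro g _
      have hg' : φ g = 1 := by rw [← MonoidHom.mem_ker, ht]; trivial
      have := hφ g p
      rw [hg', Equiv.Perm.one_apply] at this
      simpa [p, QuotientGroup.eq] using (e.injective this).symm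
    rw [hall, Subgroup.index_top] at hind
    norm_num at hind
  let eH : J3 F ω ≃* φ.range := MonoidHom.ofInjective hinj
  refine ⟨φ.range, ⟨eH.isSimpleGroup_congr.1 h.isSimple, ?_⟩, ⟨fun a b => ?_⟩, ?_⟩
  · rw [← Nat.card_congr eH.toEquiv, h.card_J3]
  · obtain ⟨x, rfl⟩ := e.surjective a
    obtain ⟨y, rfl⟩ := e.surjective b
    obtain ⟨g, hg'⟩ := MulAction.exists_smul_eq (J3 F ω) x y
    exact ⟨eH g, by rw [← hg']; exact hφ g x⟩
  · rw [← hcard]
    refine (Nat.card_congr (eH.toEquiv.subtypeEquiv fun g => ?_)).symm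
    show g ∈ kImg ω ↔ φ g 0 = 0
    rw [← hp, hφ, e.injective.eq_iff]
    show _ ↔ ((g * 1 : J3 F ω) : J3 F ω ⧸ kImg ω) = p
    rw [mul_one, QuotientGroup.eq, mul_one, inv_mem_iff]

end Cfsg.Agent.Lib.J3
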