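import Cfsg.Agent.Lib.Transfer.SplitLifts

/-!
Lifting through central extensions for groups with the Sylow subgroups of the triple cover of the third
Janko group. A subgroup of the extension that is no larger than its image splits the preimage of a Sylow
subgroup; such subgroups are built one generator at a time.
-/

set_option autoImplicit false
set_option linter.unusedSectionVars false

namespace Cfsg.Agent.Lib.J3.Lift

open Cfsg.Agent.Transfer.SplitLifts
open scoped Pointwise commutatorElement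

variable {Γ G : Type*} [Group Γ] [Group G]

section Grow

variable [Finite Γ]

theorem conj_mem {S : Set Γ} {D : Γ} (h : ∀ s ∈ S, D * s * D⁻¹ ∈ Subgroup.closure S) :
    ∀ x ∈ Subgroup.closure S, D * x * D⁻¹ ∈ Subgroup.closure S := by
  intro x hx
  have hle : Subgroup.closure S ≤ (Subgroup.closure S).comap (MulAut.conj D).toMonoidHom := by
    rw [Subgroup.closure_le]
    intro s hs
    simpa using h s hs
  simpa using hle hx

theorem mem_normalizer {S : Set Γ} {D : Γ} (h : ∀ s ∈ S, D * s * D⁻¹ ∈ Subgroup.closure S) :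
    D ∈ Subgroup.normalizer (Subgroup.closure S : Set Γ) := by
  set N := Subgroup.closure S
  have hmap : N.map (MulAut.conj D).toMonoidHom = N := by
    refine Subgroup.eq_of_le_of_card_ge ?_ ?_
    · rintro _ ⟨x, hx, rfl⟩
      simpa using conj_mem h x hx
    · rw [Subgroup.card_map_of_injective (MulAut.conj D).injective]
  rw [Subgroup.mem_normalizer_iff]
  intro x
  refine ⟨conj_mem h x, fun hx => ?_⟩
  rw [← hmap] at hx
  obtain ⟨y, hy, e⟩ := hx
  have : y = x := (MulAut.conj D).injective (by simpa using e)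
  rwa [← this]

/-- One more generator multiplies the order by at most the exponent that brings it back. -/
theorem grow {S : Set Γ} {D : Γ} {k n : ℕ} (hk : 0 < k) (hDk : D ^ k ∈ Subgroup.closure S)
    (h : ∀ s ∈ S, D * s * D⁻¹ ∈ Subgroup.closure S) (hn : Nat.card (Subgroup.closure S) ≤ n) :
    Nat.card (Subgroup.closure (insert D S)) ≤ k * n := by
  refine le_trans ?_ (Nat.mul_le_mul_left k hn)
  set N := Subgroup.closure S
  have hnorm := mem_normalizer h
  have hform : ∀ x ∈ Subgroup.closure (insert D S), ∃ a ∈ N, ∃ j : ℤ, x = a * D ^ j := by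
    intro x hx
    have hD : ∀ j : ℤ, ∀ a ∈ N, D ^ j * a * (D ^ j)⁻¹ ∈ N := fun j a ha =>
      (Subgroup.mem_normalizer_iff.1 ((Subgroup.normalizer (N : Set Γ)).zpow_mem hnorm j) a).1 ha
    induction hx using Subgroup.closure_induction with
    | mem y hy =>
      rcases hy with rfl | hy
      · exact ⟨1, one_mem _, 1, by group⟩
      · exact ⟨y, Subgroup.subset_closure hy, 0, by group⟩
    | one => exact ⟨1, one_mem _, 0, by group⟩
    | mul y z _ _ ihy ihz =>
      obtain ⟨a, ha, i, rfl⟩ := ihy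
      obtain ⟨b, hb, j, rfl⟩ := ihz
      exact ⟨a * (D ^ i * b * (D ^ i)⁻¹), mul_mem ha (hD i b hb), i + j, by group⟩
    | inv y _ ihy =>
      obtain ⟨a, ha, i, rfl⟩ := ihy
      exact ⟨D ^ (-i) * a⁻¹ * (D ^ (-i))⁻¹, hD _ _ (inv_mem ha), -i, by group⟩
  have hform' : ∀ x : Subgroup.closure (insert D S), ∃ p : N × Fin k, (x : Γ) = p.1 * D ^ (p.2 : ℕ) := by
    rintro ⟨x, hx⟩
    obtain ⟨a, ha, j, rfl⟩ := hform x hx
    have h0 : (0 : ℤ) ≤ j % k := Int.emod_nonneg j (by exact_mod_cast hk.ne')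
    have h1 : j % k < k := Int.emod_lt_of_pos j (by exact_mod_cast hk)
    refine ⟨(⟨a * (D ^ k) ^ (j / k), mul_mem ha (N.zpow_mem hDk _)⟩, ⟨(j % k).toNat, by omega⟩), ?_⟩
    simp only
    rw [mul_assoc, ← zpow_natCast D k, ← zpow_mul, ← zpow_natCast D (j % k).toNat, ← zpow_add,
      Int.toNat_of_nonneg h0, Int.mul_ediv_add_emod]
  choose f hf using hform'
  refine (Nat.card_le_card_of_injective f fun x y e => Subtype.ext (by rw [hf x, hf y, e])).trans ?_
  rw [Nat.card_prod, Nat.card_eq_fintype_card (α := Fin k), Fintype.card_fin, Nat.mul_comm]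

theorem card_closure_empty : Nat.card (Subgroup.closure (∅ : Set Γ)) ≤ 1 := by
  simp [Subgroup.closure_empty]

end Grow

variable (σ : Γ →* G)

/-- A subgroup no larger than its Sylow image splits the preimage. -/
theorem split_of_card [Finite Γ] [Finite G] (hc : σ.ker ≤ Subgroup.center Γ) (hσ : Function.Surjective σ)
    {p N : ℕ} [Fact p.Prime] (L : Subgroup Γ) (hle : Nat.card L ≤ p ^ N)
    (hge : p ^ N ≤ Nat.card (L.map σ)) (hN : (Nat.card G).factorization p = N) (P : Sylow p Γ) :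
    ⁅(P : Subgroup Γ), (P : Subgroup Γ)⁆ ⊓ σ.ker = ⊥ := by
  classical
  let f : L → L.map σ := fun l => ⟨σ l, l, l.2, rfl⟩
  have hsurj : Function.Surjective f := fun y => by
    obtain ⟨_, l, hl, rfl⟩ := y
    exact ⟨⟨l, hl⟩, rfl⟩
  have hmap : Nat.card (L.map σ) ≤ Nat.card L := Nat.card_le_card_of_surjective f hsurj
  have hinj : Function.Injective f :=
    (Nat.bijective_iff_surjective_and_card f).2 ⟨hsurj, le_antisymm (hle.trans hge) hmap⟩ |>.1
  have hdisj : ∀ l ∈ L, σ l = 1 → l = 1 := fun l hl e =>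
    congrArg Subtype.val (hinj (a₁ := ⟨l, hl⟩) (a₂ := 1) (Subtype.ext (by simpa [f] using e)))
  let S : Sylow p G := Sylow.ofCard (L.map σ) (by rw [hN]; exact le_antisymm (hmap.trans hle) hge)
  obtain ⟨g, hg⟩ := MulAction.exists_smul_eq G (P.mapSurjective hσ) S
  obtain ⟨T0, rfl⟩ := hσ g
  have hP : ∀ a ∈ (P : Subgroup Γ), ∃ l ∈ L, σ (T0 * a * T0⁻¹) = σ l := by
    intro a ha
    have : σ (T0 * a * T0⁻¹) ∈ (S : Subgroup G) := by
      rw [← hg, Sylow.coe_subgroup_smul, Subgroup.mem_pointwise_smul_iff_inv_smul_mem,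
        Sylow.coe_mapSurjective]
      exact ⟨a, ha, by simp [MulAut.smul_def, mul_assoc]⟩
    obtain ⟨l, hl, e⟩ := this
    exact ⟨l, hl, e.symm⟩
  rw [eq_bot_iff]
  rintro a ⟨ha, hak⟩
  rw [Subgroup.mem_bot]
  have hsub : ⁅(P : Subgroup Γ), (P : Subgroup Γ)⁆ ≤ L.comap (MulAut.conj T0).toMonoidHom := by
    rw [Subgroup.commutator_le]
    intro x hx y hy
    obtain ⟨l, hl, el⟩ := hP x hx
    obtain ⟨l', hl', el'⟩ := hP y hy
    rw [Subgroup.mem_comap, map_commutatorElement]
    simp only [MulEquiv.coe_toMonoidHom, MulAut.conj_apply]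
    rw [comm_congr hc el el', commutatorElement_def]
    exact mul_mem (mul_mem (mul_mem hl hl') (inv_mem hl)) (inv_mem hl')
  have h1 : T0 * a * T0⁻¹ = a := by rw [(central hc hak T0).eq, mul_inv_cancel_right]
  have := hsub ha
  rw [Subgroup.mem_comap] at this
  simp only [MulEquiv.coe_toMonoidHom, MulAut.conj_apply, h1] at this
  exact hdisj a this hak

/-! ### The prime two -/

variable {σ}

/-- Two involutions whose product squares to `Z` generate a group in which one inverts the other up to `Z`. -/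
theorem conj_invol {a b Z : Γ} (ha : a * a = 1) (hb : b * b = 1) (hab : a * b * (a * b) = Z) :
    b * a * b⁻¹ = a * Z := by
  rw [inv_eq_of_mul_eq_one_right hb, ← hab]
  calc b * a * b = (a * a) * (b * a * b) := by rw [ha, one_mul]
    _ = a * (a * b * (a * b)) := by group

/-- A group with four involutions permuted regularly by a four-group, with every commutator equal. -/
theorem two_pairwise [Finite Γ] [Finite G] (hc : σ.ker ≤ Subgroup.center Γ) (hσ : Function.Surjective σ)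
    (hex : ∀ z, σ z = 1 → z * z = 1) (hall : ∀ x : G, x * x = 1 → Good σ x) {x t u g z : G}
    (hx : x * x = 1) (ht : t * t = 1) (hu : u * u = 1) (htu : Commute t u) (hg : g ^ 3 = 1)
    (hgx : g * x = x * g) (hgt : g * t = u * g) (hgu : g * u = t * u * g)
    (hz : x * (t * x * t) * (x * (t * x * t)) = z) (hz2 : z * z = 1) (hzx : Commute z x) (hgz : Commute g z)
    (hge : 2 ^ 7 ≤ Nat.card (Subgroup.closure ({x, t, u} : Set G)))
    (hN : (Nat.card G).factorization 2 = 7) (P : Sylow 2 Γ) :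
    ⁅(P : Subgroup Γ), (P : Subgroup Γ)⁆ ⊓ σ.ker = ⊥ := by
  obtain ⟨X, rfl⟩ := hσ x
  obtain ⟨T, rfl⟩ := hσ t
  obtain ⟨U, rfl⟩ := hσ u
  obtain ⟨W, rfl⟩ := hσ g
  have hX := hall _ hx X rfl
  have hT := hall _ ht T rfl
  have hU := hall _ hu U rfl
  have hTU : Commute T U := comm_lift hc hσ hex hall ht hu htu rfl rfl
  have iT : T⁻¹ = T := inv_eq_of_mul_eq_one_right hT
  have iU : U⁻¹ = U := inv_eq_of_mul_eq_one_right hU
  set Y2 := T * X * T with hY2
  set Y3 := U * X * U with hY3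
  set Y4 := T * U * X * (T * U) with hY4
  set Z := X * Y2 * (X * Y2) with hZ
  have hσZ : σ Z = z := by rw [← hz, hZ, hY2]; simp only [map_mul]
  have hZ2 : Z * Z = 1 := hall _ hz2 Z hσZ
  have hZX : Commute Z X := comm_lift hc hσ hex hall hz2 hx hzx hσZ rfl
  have hY2sq : Y2 * Y2 = 1 := by
    rw [hY2, show T * X * T * (T * X * T) = T * X * (T * T) * X * T by group, hT, mul_one,
      mul_assoc T X X, hX, mul_one, hT]
  have hY3sq : Y3 * Y3 = 1 := by
    rw [hY3, show U * X * U * (U * X * U) = U * X * (U * U) * X * U by group, hU, mul_one,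
      mul_assoc U X X, hX, mul_one, hU]
  have hTU2 : T * U * (T * U) = 1 := by rw [hTU.symm.mul_mul_mul_comm, hT, hU, one_mul]
  have iTU : (T * U)⁻¹ = T * U := inv_eq_of_mul_eq_one_right hTU2
  have hY4sq : Y4 * Y4 = 1 := by
    rw [hY4, show T * U * X * (T * U) * (T * U * X * (T * U)) =
      T * U * X * (T * U * (T * U)) * X * (T * U) by group, hTU2, mul_one, mul_assoc (T * U) X X, hX, mul_one,
      hTU2]
  -- conjugation by the element of order three
  obtain ⟨k1, hk1, e1⟩ : ∃ k, σ k = 1 ∧ W * X * W⁻¹ = X * k :=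
    exists_central hc (by rw [map_mul, map_mul, map_inv, hgx, mul_inv_cancel_right])
  have hconj : ∀ {A B : Γ}, σ W * σ A = σ B * σ W → (W * (A * X * A⁻¹) * W⁻¹) = B * X * B⁻¹ * k1 := by
    intro A B e
    have e' : σ (W * A * W⁻¹) = σ B := by rw [map_mul, map_mul, map_inv, e, mul_inv_cancel_right]
    calc W * (A * X * A⁻¹) * W⁻¹ = W * A * W⁻¹ * (W * X * W⁻¹) * (W * A * W⁻¹)⁻¹ := by group
      _ = B * (X * k1) * B⁻¹ := by rw [conj_congr hc e', e1]
      _ = B * X * (k1 * B⁻¹) := by group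
      _ = _ := by rw [← (central hc hk1 B⁻¹).eq]; group
  have hsq : ∀ {A : Γ}, X * k1 * (A * k1) * (X * k1 * (A * k1)) = X * A * (X * A) := by
    intro A
    calc _ = X * (k1 * A) * k1 * (X * (k1 * A) * k1) := by group
      _ = X * A * (k1 * k1) * (X * A * (k1 * k1)) := by rw [← (central hc hk1 A).eq]; group
      _ = _ := by rw [hex k1 hk1, mul_one]
  have hWfix : W * Z * W⁻¹ = Z := by
    obtain ⟨k, hk, e⟩ : ∃ k, σ k = 1 ∧ W * Z * W⁻¹ = Z * k :=
      exists_central hc (by rw [map_mul σ (W * Z), map_mul σ W, map_inv, hσZ, hgz.eq, mul_inv_cancel_right])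
    have h3 : W * W * W * Z * (W * W * W)⁻¹ = Z * (k * k * k) := by
      have hstep : ∀ {c : Γ}, σ c = 1 → W * (Z * c) * W⁻¹ = Z * (k * c) := fun {c} hc' => by
        calc W * (Z * c) * W⁻¹ = W * Z * (c * W⁻¹) := by group
          _ = W * Z * (W⁻¹ * c) := by rw [(central hc hc' W⁻¹).eq]
          _ = W * Z * W⁻¹ * c := by group
          _ = _ := by rw [e, mul_assoc]
      calc W * W * W * Z * (W * W * W)⁻¹ = W * (W * (W * Z * W⁻¹) * W⁻¹) * W⁻¹ := by group
        _ = W * (Z * (k * k)) * W⁻¹ := by rw [e, hstep hk]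
        _ = _ := by rw [hstep (by rw [map_mul, hk, one_mul]), mul_assoc k k k]
    have hW3 : σ (W * W * W) = 1 := by rw [← pow_three', map_pow, hg]
    rw [← (central hc hW3 Z).eq, mul_inv_cancel_right, left_eq_mul, hex k hk, one_mul] at h3
    rw [e, h3, mul_one]
  have hXY3 : X * Y3 * (X * Y3) = Z := by
    have h := hWfix
    rw [hZ] at h ⊢
    rw [← h, show W * (X * Y2 * (X * Y2)) * W⁻¹ =
      W * X * W⁻¹ * (W * Y2 * W⁻¹) * (W * X * W⁻¹ * (W * Y2 * W⁻¹)) by group]
    have hY : W * Y2 * W⁻¹ = Y3 * k1 := by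
      have := hconj (A := T) (B := U) hgt
      rwa [iT, iU] at this
    rw [e1, hY, hsq]
  have hXY4 : X * Y4 * (X * Y4) = Z := by
    rw [← hWfix, ← hXY3, show W * (X * Y3 * (X * Y3)) * W⁻¹ =
      W * X * W⁻¹ * (W * Y3 * W⁻¹) * (W * X * W⁻¹ * (W * Y3 * W⁻¹)) by group]
    have hY : W * Y3 * W⁻¹ = Y4 * k1 := by
      have := hconj (A := U) (B := T * U) (by rw [map_mul]; exact hgu)
      rwa [iTU, iU] at this
    rw [e1, hY, hsq]
  -- the four-group fixes the square
  have flip : ∀ {A B : Γ}, A * A = 1 → B * B = 1 → A * B * (A * B) = Z → B * A * (B * A) = Z := by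
    intro A B hA hB e
    have iA := inv_eq_of_mul_eq_one_right hA
    have iB := inv_eq_of_mul_eq_one_right hB
    calc B * A * (B * A) = B⁻¹ * A⁻¹ * (B⁻¹ * A⁻¹) := by rw [iA, iB]
      _ = (A * B * (A * B))⁻¹ := by group
      _ = Z := by rw [e]; exact inv_eq_of_mul_eq_one_right hZ2
  have hTX : T * X * T⁻¹ = Y2 := by rw [iT]
  have hTY2 : T * Y2 * T⁻¹ = X := by
    rw [iT, hY2, show T * (T * X * T) * T = T * T * X * (T * T) by group, hT, one_mul, mul_one]
  have hTY3 : T * Y3 * T⁻¹ = Y4 := by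
    rw [iT, hY3, hY4]
    calc T * (U * X * U) * T = T * U * X * (U * T) := by group
      _ = _ := by rw [hTU.eq]
  have hTY4 : T * Y4 * T⁻¹ = Y3 := by
    rw [iT, hY4, show T * (T * U * X * (T * U)) * T = T * T * U * X * (T * U) * T by group, hT, one_mul, hY3,
      hTU.eq, show U * X * (U * T) * T = U * X * U * (T * T) by group, hT, mul_one]
  have hUX : U * X * U⁻¹ = Y3 := by rw [iU]
  have hUY3 : U * Y3 * U⁻¹ = X := by
    rw [iU, hY3, show U * (U * X * U) * U = U * U * X * (U * U) by group, hU, one_mul, mul_one]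
  have hUY2 : U * Y2 * U⁻¹ = Y4 := by
    rw [iU, hY2, hY4]
    calc U * (T * X * T) * U = U * T * X * (T * U) := by group
      _ = _ := by rw [hTU.eq]
  have hUY4 : U * Y4 * U⁻¹ = Y2 := by
    rw [iU, hY4, hTU.eq, show U * (U * T * X * (U * T)) * U = U * U * T * X * (U * T) * U by group, hU,
      one_mul, hY2, ← hTU.eq, show T * X * (T * U) * U = T * X * T * (U * U) by group, hU, mul_one]
  have conjsq : ∀ (A B C : Γ),
      A * (B * C * (B * C)) * A⁻¹ = A * B * A⁻¹ * (A * C * A⁻¹) * (A * B * A⁻¹ * (A * C * A⁻¹)) := by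
    intro A B C; group
  have hTZ : T * Z * T⁻¹ = Z := by
    rw [hZ, conjsq, hTX, hTY2]; exact flip hX hY2sq hZ.symm
  have hUZ : U * Z * U⁻¹ = Z := by
    conv_lhs => rw [← hXY3]
    rw [conjsq, hUX, hUY3]; exact flip hX hY3sq hXY3
  have h34 : Y3 * Y4 * (Y3 * Y4) = Z := by
    conv_rhs => rw [← hUZ, hZ]
    rw [conjsq, hUX, hUY2]
  have h24 : Y2 * Y4 * (Y2 * Y4) = Z := by
    conv_rhs => rw [← hTZ, ← hXY3]
    rw [conjsq, hTX, hTY3]
  have h23 : Y2 * Y3 * (Y2 * Y3) = Z := by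
    conv_rhs => rw [← hTZ, ← hXY4]
    rw [conjsq, hTX, hTY4]
  have cT : Commute Z T := (show Commute T Z from (mul_inv_eq_iff_eq_mul.1 hTZ)).symm
  have cU : Commute Z U := (show Commute U Z from (mul_inv_eq_iff_eq_mul.1 hUZ)).symm
  have cY2 : Commute Z Y2 := (cT.mul_right hZX).mul_right cT
  have cY3 : Commute Z Y3 := (cU.mul_right hZX).mul_right cU
  have cY4 : Commute Z Y4 := ((cT.mul_right cU).mul_right hZX).mul_right (cT.mul_right cU)
  have fixes : ∀ {A : Γ}, Commute Z A → A * Z * A⁻¹ = Z := fun {A} h => by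
    rw [← h.eq, mul_inv_cancel_right]
  have mem : ∀ {S : Set Γ} {A B : Γ}, A ∈ S → Z ∈ S → A * A = 1 → B * B = 1 → A * B * (A * B) = Z →
      B * A * B⁻¹ ∈ Subgroup.closure S := by
    intro S A B hAS hZS hA hB e
    rw [conj_invol hA hB e]
    exact mul_mem (Subgroup.subset_closure hAS) (Subgroup.subset_closure hZS)
  have g1 : Nat.card (Subgroup.closure ({Z} : Set Γ)) ≤ 2 * 1 := by
    rw [← insert_empty_eq]
    exact grow (by norm_num) (by rw [pow_two, hZ2]; exact one_mem _) (by simp) card_closure_empty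
  have g2 : Nat.card (Subgroup.closure ({X, Z} : Set Γ)) ≤ 2 * (2 * 1) := by
    refine grow (by norm_num) (by rw [pow_two, hX]; exact one_mem _) ?_ g1
    intro s e
    rw [show s = _ from e]
    rw [fixes hZX]; exact Subgroup.subset_closure rfl
  have g3 : Nat.card (Subgroup.closure ({Y2, X, Z} : Set Γ)) ≤ 2 * (2 * (2 * 1)) := by
    refine grow (by norm_num) (by rw [pow_two, hY2sq]; exact one_mem _) ?_ g2
    rintro s (e | e)
    · rw [show s = _ from e]; exact mem (by simp) (by simp) hX hY2sq hZ.symm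
    · rw [show s = _ from e]; rw [fixes cY2]; exact Subgroup.subset_closure (by simp)
  have g4 : Nat.card (Subgroup.closure ({Y3, Y2, X, Z} : Set Γ)) ≤ 2 * (2 * (2 * (2 * 1))) := by
    refine grow (by norm_num) (by rw [pow_two, hY3sq]; exact one_mem _) ?_ g3
    rintro s (e | e | e)
    · rw [show s = _ from e]; exact mem (by simp) (by simp) hY2sq hY3sq h23
    · rw [show s = _ from e]; exact mem (by simp) (by simp) hX hY3sq hXY3
    · rw [show s = _ from e]; rw [fixes cY3]; exact Subgroup.subset_closure (by simp)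
  have g5 : Nat.card (Subgroup.closure ({Y4, Y3, Y2, X, Z} : Set Γ)) ≤ 2 * (2 * (2 * (2 * (2 * 1)))) := by
    refine grow (by norm_num) (by rw [pow_two, hY4sq]; exact one_mem _) ?_ g4
    rintro s (e | e | e | e)
    · rw [show s = _ from e]; exact mem (by simp) (by simp) hY3sq hY4sq h34
    · rw [show s = _ from e]; exact mem (by simp) (by simp) hY2sq hY4sq h24
    · rw [show s = _ from e]; exact mem (by simp) (by simp) hX hY4sq hXY4
    · rw [show s = _ from e]; rw [fixes cY4]; exact Subgroup.subset_closure (by simp)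
  have g6 : Nat.card (Subgroup.closure ({T, Y4, Y3, Y2, X, Z} : Set Γ)) ≤
      2 * (2 * (2 * (2 * (2 * (2 * 1))))) := by
    refine grow (by norm_num) (by rw [pow_two, hT]; exact one_mem _) ?_ g5
    rintro s (e | e | e | e | e)
    · rw [show s = _ from e]; rw [hTY4]; exact Subgroup.subset_closure (by simp)
    · rw [show s = _ from e]; rw [hTY3]; exact Subgroup.subset_closure (by simp)
    · rw [show s = _ from e]; rw [hTY2]; exact Subgroup.subset_closure (by simp)
    · rw [show s = _ from e]; rw [hTX]; exact Subgroup.subset_closure (by simp)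
    · rw [show s = _ from e]; rw [hTZ]; exact Subgroup.subset_closure (by simp)
  have g7 : Nat.card (Subgroup.closure ({U, T, Y4, Y3, Y2, X, Z} : Set Γ)) ≤
      2 * (2 * (2 * (2 * (2 * (2 * (2 * 1)))))) := by
    refine grow (by norm_num) (by rw [pow_two, hU]; exact one_mem _) ?_ g6
    rintro s (e | e | e | e | e | e)
    · rw [show s = _ from e]; rw [← hTU.eq, mul_inv_cancel_right]; exact Subgroup.subset_closure (by simp)
    · rw [show s = _ from e]; rw [hUY4]; exact Subgroup.subset_closure (by simp)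
    · rw [show s = _ from e]; rw [hUY3]; exact Subgroup.subset_closure (by simp)
    · rw [show s = _ from e]; rw [hUY2]; exact Subgroup.subset_closure (by simp)
    · rw [show s = _ from e]; rw [hUX]; exact Subgroup.subset_closure (by simp)
    · rw [show s = _ from e]; rw [hUZ]; exact Subgroup.subset_closure (by simp)
  refine split_of_card σ hc hσ _ g7 (hge.trans ?_) hN P
  apply Subgroup.card_le_of_le
  rw [Subgroup.closure_le]
  rintro _ (rfl | rfl | rfl) <;> exact Subgroup.mem_map_of_mem σ (Subgroup.subset_closure (by simp))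

/-! ### The prime three -/

/-- An element of order dividing nine that is inverted has an inverted lift of order dividing nine. -/
theorem inverted_lift (hc : σ.ker ≤ Subgroup.center Γ) (hσ : Function.Surjective σ) (T : Γ) {x : G}
    (h9 : x ^ 9 = 1) (hinv : σ T * x * (σ T)⁻¹ = x⁻¹) :
    ∃ X, σ X = x ∧ X ^ 9 = 1 ∧ T * X * T⁻¹ = X⁻¹ := by
  obtain ⟨X0, rfl⟩ := hσ x
  obtain ⟨z, hz, e⟩ := exists_central hc (X := X0⁻¹) (Y := T * X0 * T⁻¹)
    (by rw [map_inv, map_mul, map_mul, map_inv, hinv])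
  have e2 : T * (X0⁻¹ * z) * T⁻¹ = X0 := by
    calc T * (X0⁻¹ * z) * T⁻¹ = T * X0⁻¹ * (z * T⁻¹) := by group
      _ = (T * X0 * T⁻¹)⁻¹ * z := by rw [← (central hc hz T⁻¹).eq]; group
      _ = z⁻¹ * (X0 * z) := by rw [e]; group
      _ = X0 := by rw [(central hc hz X0).eq, inv_mul_cancel_left]
  set X1 := X0⁻¹ * z * X0⁻¹ with hX1
  have hinv1 : T * X1 * T⁻¹ = X1⁻¹ := by
    calc T * X1 * T⁻¹ = T * (X0⁻¹ * z) * T⁻¹ * (T * X0 * T⁻¹)⁻¹ := by rw [hX1]; group
      _ = X0 * (z⁻¹ * X0) := by rw [e2, e]; group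
      _ = _ := by rw [hX1]; group
  have hσ1 : σ X1 = (σ X0)⁻¹ * (σ X0)⁻¹ := by rw [hX1, map_mul, map_mul, map_inv, hz, mul_one]
  have hw : σ (X1 ^ 9) = 1 := by
    rw [map_pow, hσ1, (Commute.refl _).mul_pow, inv_pow, h9, inv_one, one_mul]
  have hw2 : (X1 ^ 9) * (X1 ^ 9) = 1 := by
    have h := conj_pow (i := 9) (a := T) (b := X1)
    rw [hinv1, inv_pow, (central hc hw T).eq, mul_inv_cancel_right] at h
    exact inv_eq_iff_mul_eq_one.1 h
  refine ⟨X1 ^ 4, ?_, ?_, ?_⟩
  · rw [map_pow, hσ1, ← pow_two, ← pow_mul, inv_pow, inv_eq_iff_mul_eq_one, ← pow_succ, h9]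
  · rw [← pow_mul, show 4 * 9 = 9 * 2 * 2 by norm_num, pow_mul, pow_mul, pow_two (X1 ^ 9), hw2, one_pow]
  · rw [← conj_pow, hinv1, inv_pow]

/-- Such a lift is unique. -/
theorem inverted_unique (hc : σ.ker ≤ Subgroup.center Γ) {T X X' : Γ} (e : σ X = σ X') (h : X ^ 9 = 1)
    (h' : X' ^ 9 = 1) (hi : T * X * T⁻¹ = X⁻¹) (hi' : T * X' * T⁻¹ = X'⁻¹) : X = X' := by
  obtain ⟨z, hz, rfl⟩ := exists_central hc e
  have hzz : z * z = 1 := by
    have : X⁻¹ * z = z⁻¹ * X⁻¹ := by
      calc X⁻¹ * z = T * X * T⁻¹ * z := by rw [hi]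
        _ = T * X * (z * T⁻¹) := by rw [← (central hc hz T⁻¹).eq]; group
        _ = T * (X * z) * T⁻¹ := by group
        _ = _ := by rw [hi', mul_inv_rev]
    rw [(central hc hz X⁻¹).eq, mul_left_inj] at this
    exact mul_eq_one_iff_eq_inv.2 this
  have hz9 : z ^ 9 = 1 := by rwa [(central hc hz X).mul_pow, h, one_mul] at h'
  have : z = 1 := by
    calc z = z ^ 9 * ((z * z) ^ 4)⁻¹ := by rw [← pow_two, ← pow_mul]; group
      _ = 1 := by rw [hzz, hz9, one_pow, inv_one, mul_one]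
  rw [this, mul_one]

/-- An inverted lift commutes with the lifts of what commutes with it and with the inverting element. -/
theorem commute_fixed (hc : σ.ker ≤ Subgroup.center Γ) {T X Y : Γ} (h : X ^ 9 = 1)
    (hi : T * X * T⁻¹ = X⁻¹) (hty : Commute (σ T) (σ Y)) (hxy : Commute (σ X) (σ Y)) : Commute X Y := by
  obtain ⟨z, hz, ez⟩ := exists_central hc (X := Y) (Y := X * Y * X⁻¹)
    (by rw [map_mul, map_mul, map_inv, hxy.eq, mul_inv_cancel_right])
  obtain ⟨m, hm, em⟩ := exists_central hc (X := Y) (Y := T * Y * T⁻¹)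
    (by rw [map_mul, map_mul, map_inv, hty.eq, mul_inv_cancel_right])
  have hz2 : z * z = 1 := by
    have e1 : X⁻¹ * (Y * m) * X = Y * m * z := by
      calc X⁻¹ * (Y * m) * X = T * X * T⁻¹ * (T * Y * T⁻¹) * (T * X * T⁻¹)⁻¹ := by rw [hi, em, inv_inv]
        _ = T * (X * Y * X⁻¹) * T⁻¹ := by group
        _ = T * Y * (z * T⁻¹) := by rw [ez]; group
        _ = T * Y * T⁻¹ * z := by rw [← (central hc hz T⁻¹).eq]; group
        _ = _ := by rw [em]
    have e2 : X⁻¹ * Y * X = Y * z := by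
      apply mul_right_cancel (b := m)
      calc X⁻¹ * Y * X * m = X⁻¹ * Y * (X * m) := by group
        _ = X⁻¹ * (Y * m) * X := by rw [(central hc hm X).eq]; group
        _ = Y * m * z := e1
        _ = Y * z * m := by rw [mul_assoc, ← (central hc hz m).symm.eq, ← mul_assoc]
    have e3 : Y * (z * z) = Y := by
      calc Y * (z * z) = X⁻¹ * Y * X * z := by rw [e2, mul_assoc]
        _ = X⁻¹ * (Y * z) * X := by
          rw [mul_assoc (X⁻¹ * Y) X z, (central hc hz X).eq]; group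
        _ = Y := by rw [← ez]; group
    exact mul_eq_left.1 e3
  have hpow : ∀ n : ℕ, X ^ n * Y * (X ^ n)⁻¹ = Y * z ^ n := by
    intro n
    induction n with
    | zero => simp
    | succ n ih =>
      calc X ^ (n + 1) * Y * (X ^ (n + 1))⁻¹ = X * (X ^ n * Y * (X ^ n)⁻¹) * X⁻¹ := by
            rw [pow_succ']; group
        _ = X * Y * (z ^ n * X⁻¹) := by rw [ih]; group
        _ = X * Y * X⁻¹ * z ^ n := by rw [← ((central hc hz X⁻¹).pow_right n).eq]; group
        _ = _ := by rw [ez, pow_succ', mul_assoc]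
  have hz9 : z ^ 9 = 1 := by
    have := hpow 9
    rwa [h, one_mul, inv_one, mul_one, left_eq_mul] at this
  have : z = 1 := by
    calc z = z ^ 9 * ((z * z) ^ 4)⁻¹ := by rw [← pow_two, ← pow_mul]; group
      _ = 1 := by rw [hz2, hz9, one_pow, inv_one, mul_one]
  rw [this, mul_one] at ez
  exact (mul_inv_eq_iff_eq_mul.1 ez)

/-- A lift of order three is fixed by elements of order prime to three fixing its image. -/
theorem fixed_lift (hc : σ.ker ≤ Subgroup.center Γ) {T C : Γ} {m : ℕ} (hm : ¬ 3 ∣ m) (hT : σ T ^ m = 1)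
    (hC : C ^ 3 = 1) (hfix : Commute (σ T) (σ C)) : T * C * T⁻¹ = C := by
  obtain ⟨k, hk, e⟩ := exists_central hc (X := C) (Y := T * C * T⁻¹)
    (by rw [map_mul, map_mul, map_inv, hfix.eq, mul_inv_cancel_right])
  have h3 : k ^ 3 = 1 := by
    have := conj_pow (i := 3) (a := T) (b := C)
    rwa [e, (central hc hk C).mul_pow, hC, one_mul, mul_one, mul_inv_cancel] at this
  have hpow : ∀ n : ℕ, T ^ n * C * (T ^ n)⁻¹ = C * k ^ n := by
    intro n
    induction n with
    | zero => simp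
    | succ n ih =>
      calc T ^ (n + 1) * C * (T ^ (n + 1))⁻¹ = T * (T ^ n * C * (T ^ n)⁻¹) * T⁻¹ := by rw [pow_succ']; group
        _ = T * C * (k ^ n * T⁻¹) := by rw [ih]; group
        _ = T * C * T⁻¹ * k ^ n := by rw [← ((central hc hk T⁻¹).pow_right n).eq]; group
        _ = _ := by rw [e, pow_succ', mul_assoc]
  have hkm : k ^ m = 1 := by
    have := hpow m
    rw [← (central hc (show σ (T ^ m) = 1 by rw [map_pow, hT]) C).eq, mul_inv_cancel_right,
      left_eq_mul] at this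
    exact this
  have : k = 1 := by
    have hd := Nat.dvd_gcd (orderOf_dvd_of_pow_eq_one h3) (orderOf_dvd_of_pow_eq_one hkm)
    rw [(Nat.prime_three.coprime_iff_not_dvd.2 hm).gcd_eq_one, Nat.dvd_one, orderOf_eq_one_iff] at hd
    exact hd
  rw [e, this, mul_one]

/-- The relations of a Sylow subgroup of order 729 and of three of the elements normalising it. -/
structure Rel (c a1 a2 e d1 d2 t r f : G) : Prop where
  hc3 : c ^ 3 = 1
  a1_3 : a1 ^ 3 = 1
  a2_3 : a2 ^ 3 = 1
  e3 : e ^ 3 = 1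
  d1_3 : d1 ^ 3 = a2
  t2 : t ^ 2 = 1
  r4 : r ^ 4 = 1
  f8 : f ^ 8 = 1
  ta1 : t * a1 * t⁻¹ = a1⁻¹
  ta2 : t * a2 * t⁻¹ = a2⁻¹
  td1 : t * d1 * t⁻¹ = d1⁻¹
  te : Commute t e
  cc : ∀ x : G, Commute x c
  tr : Commute t r
  tf : Commute t f
  ra1 : r * a1 = a2 * r
  ra2 : r * a2 = a1⁻¹ * r
  rd1 : r * d1 = d2 * r
  re : Commute r e
  fe : f * e * f⁻¹ = e⁻¹
  fa1 : f * a1 = a1 * a1 * (a2 * a2) * f
  fa2 : f * a2 = a1 * (a2 * a2) * f
  fd1 : f * d1 = d1 * d2 * (e * e * a2) * f
  fd2 : f * d2 = d1 * d1 * d2 * (e * a2 * (c * c)) * f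
  ea1 : Commute e a1
  ea2 : Commute e a2
  a1d1 : ⁅a1, d1⁆ = c
  d1e : d1 * e = e * a1 * c * d1
  d1d2 : d1 * d2 = e * e * a1 * a2 * (d2 * d1)

theorem comm_mul_central {H : Type*} [Group H] {a b p q : H} (hpa : Commute p a) (hpb : Commute p b)
    (hqa : Commute q a) (hqb : Commute q b) (hpq : Commute p q) : ⁅a * p, b * q⁆ = ⁅a, b⁆ := by
  rw [commutatorElement_def, commutatorElement_def]
  calc a * p * (b * q) * (a * p)⁻¹ * (b * q)⁻¹ = a * (p * b) * (q * p⁻¹) * a⁻¹ * (q⁻¹ * b⁻¹) := by group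
    _ = a * b * (p * (p⁻¹ * q)) * a⁻¹ * (q⁻¹ * b⁻¹) := by rw [hpb.eq, hpq.inv_left.eq.symm]; group
    _ = a * b * (q * a⁻¹) * (q⁻¹ * b⁻¹) := by group
    _ = _ := by rw [hqa.inv_right.eq]; group

/-- The key identity in a quotient. -/
theorem quot_identity {H : Type*} [Group H] {a b e k φ p q : H} (ha : a ^ 3 = 1) (he : e ^ 3 = 1)
    (hea : Commute e a) (heb : Commute e b) (hk : ∀ x, Commute x k) (hw : ⁅a, b⁆ = e * e * k)
    (hφe : φ * e * φ⁻¹ = e⁻¹) (hφa : φ * a * φ⁻¹ = a * b * p) (hφb : φ * b * φ⁻¹ = a * a * b * q)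
    (hpa : Commute p a) (hpb : Commute p b) (hqa : Commute q a) (hqb : Commute q b) (hpq : Commute p q) :
    k = 1 := by
  set w := ⁅a, b⁆ with hwdef
  have hwa : Commute w a := by
    rw [hw]; exact (hea.mul_left hea).mul_left (hk a).symm
  have hbab : b * a * b⁻¹ = w⁻¹ * a := by rw [hwdef, commutatorElement_def]; group
  have hw3 : w ^ 3 = 1 := by
    have := conj_pow (i := 3) (a := b) (b := a)
    rw [hbab, hwa.inv_left.mul_pow, ha, mul_one, mul_one, mul_inv_cancel, inv_pow, inv_eq_one] at this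
    exact this
  have hconj : φ * w * φ⁻¹ = w⁻¹ := by
    calc φ * w * φ⁻¹ = ⁅φ * a * φ⁻¹, φ * b * φ⁻¹⁆ := by
          rw [hwdef, commutatorElement_def, commutatorElement_def]; group
      _ = ⁅a * b, a * a * b⁆ := by
          rw [hφa, hφb]
          exact comm_mul_central (hpa.mul_right hpb) ((hpa.mul_right hpa).mul_right hpb)
            (hqa.mul_right hqb) ((hqa.mul_right hqa).mul_right hqb) hpq
      _ = a * (b * a * b⁻¹) * (a⁻¹ * a⁻¹) := by rw [commutatorElement_def]; group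
      _ = a * w⁻¹ * a⁻¹ := by rw [hbab]; group
      _ = w⁻¹ := by rw [← hwa.inv_left.eq, mul_inv_cancel_right]
  have hφw : φ * w * φ⁻¹ = e⁻¹ * e⁻¹ * k := by
    rw [hw, show φ * (e * e * k) * φ⁻¹ = φ * e * φ⁻¹ * (φ * e * φ⁻¹) * (φ * k * φ⁻¹) by group, hφe,
      (hk φ).eq, mul_inv_cancel_right]
  have hk2 : k * k = 1 := by
    have h := hconj.symm.trans hφw
    rw [hw, mul_inv_rev, mul_inv_rev, ← (hk (e⁻¹ * e⁻¹)).inv_right.eq, mul_right_inj] at h
    exact inv_eq_iff_mul_eq_one.1 h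
  have hk3 : k ^ 3 = 1 := by
    have h := hw3
    rw [hw, (hk (e * e)).mul_pow, (Commute.refl e).mul_pow, he, one_mul, one_mul] at h
    exact h
  calc k = k ^ 3 * (k * k)⁻¹ := by group
    _ = 1 := by rw [hk2, hk3, inv_one, mul_one]

theorem three_rel [Finite Γ] [Finite G] (hc : σ.ker ≤ Subgroup.center Γ) (hσ : Function.Surjective σ)
    {c a1 a2 e d1 d2 t r f : G} (R0 : Rel c a1 a2 e d1 d2 t r f)
    (hge : 3 ^ 6 ≤ Nat.card (Subgroup.closure ({c, a1, a2, e, d1, d2} : Set G)))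
    (hN : (Nat.card G).factorization 3 = 6) (P : Sylow 3 Γ) :
    ⁅(P : Subgroup Γ), (P : Subgroup Γ)⁆ ⊓ σ.ker = ⊥ := by
  obtain ⟨T, rfl⟩ := hσ t
  obtain ⟨R, rfl⟩ := hσ r
  obtain ⟨F, rfl⟩ := hσ f
  have nine : ∀ {x : G}, x ^ 3 = 1 → x ^ 9 = 1 := fun {x} h => by
    rw [show 9 = 3 * 3 by norm_num, pow_mul, h, one_pow]
  have d19 : d1 ^ 9 = 1 := by rw [show 9 = 3 * 3 by norm_num, pow_mul, R0.d1_3, R0.a2_3]
  obtain ⟨A1, rfl, hA1, iA1⟩ := inverted_lift hc hσ T (nine R0.a1_3) R0.ta1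
  obtain ⟨A2, rfl, hA2, iA2⟩ := inverted_lift hc hσ T (nine R0.a2_3) R0.ta2
  obtain ⟨D1, rfl, hD1, iD1⟩ := inverted_lift hc hσ T d19 R0.td1
  obtain ⟨E, rfl, hE, iE⟩ := inverted_lift hc hσ F (nine R0.e3) R0.fe
  have cube : ∀ {T' X : Γ}, σ X ^ 3 = 1 → X ^ 9 = 1 → T' * X * T'⁻¹ = X⁻¹ → X ^ 3 = 1 := by
    intro T' X h h9 hi
    refine inverted_unique hc (T := T') (X' := 1) (by rw [map_pow, h, map_one]) ?_ (one_pow _) ?_ (by simp)
    · rw [← pow_mul, show 3 * 9 = 9 * 3 by norm_num, pow_mul, h9, one_pow]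
    · rw [← conj_pow, hi, inv_pow]
  have hA1' : A1 ^ 3 = 1 := cube R0.a1_3 hA1 iA1
  have hA2' : A2 ^ 3 = 1 := cube R0.a2_3 hA2 iA2
  have hE' : E ^ 3 = 1 := cube R0.e3 hE iE
  have swap : ∀ {X B : Γ}, Commute (σ T) (σ B) → T * X * T⁻¹ = X⁻¹ →
      T * (B * X * B⁻¹) * T⁻¹ = (B * X * B⁻¹)⁻¹ := by
    intro X B h hi
    have e : σ (T * B) = σ (B * T) := by rw [map_mul, map_mul, h.eq]
    calc T * (B * X * B⁻¹) * T⁻¹ = T * B * X * (T * B)⁻¹ := by group
      _ = B * T * X * (B * T)⁻¹ := conj_congr hc e X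
      _ = B * (T * X * T⁻¹) * B⁻¹ := by group
      _ = _ := by rw [hi]; group
  have nine' : ∀ {X B : Γ}, X ^ 9 = 1 → (B * X * B⁻¹) ^ 9 = 1 := fun {X B} h => by
    rw [conj_pow, h, mul_one, mul_inv_cancel]
  set D2 := R * D1 * R⁻¹ with hD2def
  have hσD2 : σ D2 = d2 := by rw [hD2def, map_mul, map_mul, map_inv, R0.rd1, mul_inv_cancel_right]
  have hD2 : D2 ^ 9 = 1 := nine' hD1
  have iD2 : T * D2 * T⁻¹ = D2⁻¹ := swap R0.tr iD1
  have hRA1 : R * A1 * R⁻¹ = A2 := inverted_unique hc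
    (by rw [map_mul, map_mul, map_inv, R0.ra1, mul_inv_cancel_right]) (nine' hA1) hA2 (swap R0.tr iA1) iA2
  have hRA2 : R * A2 * R⁻¹ = A1⁻¹ := inverted_unique hc
    (by rw [map_mul, map_mul, map_inv, map_inv, R0.ra2, mul_inv_cancel_right]) (nine' hA2)
    (by rw [inv_pow, hA1, inv_one]) (swap R0.tr iA2) (by rw [← conj_inv, iA1])
  have hD13 : D1 ^ 3 = A2 := inverted_unique hc (T := T) (by rw [map_pow, R0.d1_3])
    (by rw [← pow_mul, show 3 * 9 = 9 * 3 by norm_num, pow_mul, hD1, one_pow]) hA2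
    (by rw [← conj_pow, iD1, inv_pow]) iA2
  have hD23 : D2 ^ 3 = A1⁻¹ := by rw [hD2def, conj_pow, hD13, hRA2]
  have cA2D1 : Commute A2 D1 := hD13 ▸ (Commute.refl D1).pow_left 3
  have cA1D2 : Commute A1 D2 := by
    have := ((Commute.refl D2).pow_left 3)
    rw [hD23] at this
    simpa using this.inv_left
  -- the scalar
  set C := ⁅A1, D1⁆ with hCdef
  have hσC : σ C = c := by rw [hCdef, map_commutatorElement, R0.a1d1]
  have cA1C : Commute A1 C := commute_fixed hc hA1 iA1 (by rw [hσC]; exact R0.cc _) (by rw [hσC]; exact R0.cc _)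
  have hC3 : C ^ 3 = 1 := by
    have hx : D1 * A1 * D1⁻¹ = C⁻¹ * A1 := by rw [hCdef, commutatorElement_def]; group
    have h := conj_pow (i := 3) (a := D1) (b := A1)
    rw [hx, cA1C.symm.inv_left.mul_pow, hA1', mul_one, mul_one, mul_inv_cancel, inv_pow, inv_eq_one] at h
    exact h
  have cC : ∀ {X : Γ}, X ^ 9 = 1 → T * X * T⁻¹ = X⁻¹ → Commute X C := fun {X} h hi =>
    commute_fixed hc h hi (by rw [hσC]; exact R0.cc _) (by rw [hσC]; exact R0.cc _)
  have cA2C := cC hA2 iA2
  have cD1C := cC hD1 iD1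
  have cD2C := cC hD2 iD2
  have cEC : Commute E C := commute_fixed hc hE iE (by rw [hσC]; exact R0.cc _) (by rw [hσC]; exact R0.cc _)
  have cEA1 : Commute A1 E := commute_fixed hc hA1 iA1 R0.te R0.ea1.symm
  have cEA2 : Commute A2 E := commute_fixed hc hA2 iA2 R0.te R0.ea2.symm
  have hTC : T * C * T⁻¹ = C := fixed_lift hc (m := 2) (by norm_num) R0.t2 hC3 (by rw [hσC]; exact R0.cc _)
  have hRC : R * C * R⁻¹ = C := fixed_lift hc (m := 4) (by norm_num) R0.r4 hC3 (by rw [hσC]; exact R0.cc _)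
  have hFC : F * C * F⁻¹ = C := fixed_lift hc (m := 8) (by norm_num) R0.f8 hC3 (by rw [hσC]; exact R0.cc _)
  have dA1 : D1 * A1 * D1⁻¹ = C⁻¹ * A1 := by rw [hCdef, commutatorElement_def]; group
  have dA2 : D2 * A2 * D2⁻¹ = C⁻¹ * A2 := by
    calc D2 * A2 * D2⁻¹ = R * (D1 * A1 * D1⁻¹) * R⁻¹ := by rw [← hRA1, hD2def]; group
      _ = R * C⁻¹ * R⁻¹ * (R * A1 * R⁻¹) := by rw [dA1]; group
      _ = _ := by rw [hRA1, conj_inv.symm, hRC]
  -- conjugating the quadratic element
  obtain ⟨k, hk, ek⟩ := exists_central hc (X := E * A1 * C) (Y := D1 * E * D1⁻¹)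
    (by rw [map_mul, map_mul, hσC, map_mul, map_mul, map_inv, R0.d1e, mul_inv_cancel_right])
  obtain ⟨m, hm, em⟩ := exists_central hc (X := E) (Y := T * E * T⁻¹)
    (by rw [map_mul, map_mul, map_inv, R0.te.eq, mul_inv_cancel_right])
  have hk1 : k = 1 := by
    have hA1inv : D1 * A1⁻¹ * D1⁻¹ = A1⁻¹ * C := by rw [← conj_inv, dA1]; group
    have e1 : D1⁻¹ * E * D1 = E * A1⁻¹ * C * k := by
      apply mul_right_cancel (b := m)
      calc D1⁻¹ * E * D1 * m = D1⁻¹ * E * (D1 * m) := by group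
        _ = D1⁻¹ * (E * m) * D1 := by rw [(central hc hm D1).eq]; group
        _ = T * D1 * T⁻¹ * (T * E * T⁻¹) * (T * D1 * T⁻¹)⁻¹ := by rw [iD1, em, inv_inv]
        _ = T * (D1 * E * D1⁻¹) * T⁻¹ := by group
        _ = T * E * T⁻¹ * (T * A1 * T⁻¹) * (T * C * T⁻¹) * (T * k * T⁻¹) := by rw [ek]; group
        _ = E * m * A1⁻¹ * C * k := by rw [em, iA1, hTC, (central hc hk T).eq, mul_inv_cancel_right]
        _ = E * (m * (A1⁻¹ * C * k)) := by group
        _ = _ := by rw [← (central hc hm (A1⁻¹ * C * k)).eq]; group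
    have hkk : k * k = 1 := by
      have h : E = E * (k * k) := by
        calc E = D1 * (D1⁻¹ * E * D1) * D1⁻¹ := by group
          _ = D1 * E * D1⁻¹ * (D1 * A1⁻¹ * D1⁻¹) * (D1 * C * D1⁻¹) * (D1 * k * D1⁻¹) := by rw [e1]; group
          _ = E * A1 * C * k * (A1⁻¹ * C) * C * k := by
            rw [ek, hA1inv, cD1C.eq, mul_inv_cancel_right, (central hc hk D1).eq, mul_inv_cancel_right]
          _ = E * A1 * C * (A1⁻¹ * C * C) * (k * k) := by
            rw [mul_assoc (E * A1 * C * k) (A1⁻¹ * C) C,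
              mul_assoc (E * A1 * C) k (A1⁻¹ * C * C), ← (central hc hk (A1⁻¹ * C * C)).eq]
            group
          _ = E * A1 * (C * A1⁻¹) * C * C * (k * k) := by group
          _ = E * (C * C * C) * (k * k) := by rw [← cA1C.inv_left.eq]; group
          _ = _ := by rw [← pow_three', hC3, mul_one]
      exact left_eq_mul.1 h
    have hk3 : k ^ 3 = 1 := by
      have hcomm : Commute E (D1 * E * D1⁻¹) := by
        rw [ek]
        exact (((Commute.refl E).mul_right cEA1.symm).mul_right cEC).mul_right (central hc hk E)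
      have h : E⁻¹ * (D1 * E * D1⁻¹) = A1 * C * k := by rw [ek]; group
      have h3 := congrArg (· ^ 3) h
      rw [hcomm.inv_left.mul_pow, conj_pow, inv_pow, hE', (central hc hk (A1 * C)).mul_pow, cA1C.mul_pow,
        hA1', hC3] at h3
      simpa using h3.symm
    calc k = k ^ 3 * (k * k)⁻¹ := by group
      _ = 1 := by rw [hkk, hk3, inv_one, mul_one]
  rw [hk1, mul_one] at ek
  have cA12 : Commute A1 A2 := by
    have hA1eq : A1 = E⁻¹ * (D1 * E * D1⁻¹) * C⁻¹ := by rw [ek]; group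
    rw [hA1eq]
    exact ((cEA2.symm.inv_left.mul_left
      ((cA2D1.symm.mul_left cEA2.symm).mul_left cA2D1.symm.inv_left)).mul_left cA2C.symm.inv_left)
  have dE2 : D2 * E * D2⁻¹ = E * A2 * C := by
    obtain ⟨n, hn, en⟩ := exists_central hc (X := E) (Y := R * E * R⁻¹)
      (by rw [map_mul, map_mul, map_inv, R0.re.eq, mul_inv_cancel_right])
    apply mul_right_cancel (b := n)
    calc D2 * E * D2⁻¹ * n = D2 * E * (D2⁻¹ * n) := by group
      _ = D2 * (E * n) * D2⁻¹ := by rw [(central hc hn D2⁻¹).eq]; group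
      _ = R * (D1 * E * D1⁻¹) * R⁻¹ := by rw [← en, hD2def]; group
      _ = R * E * R⁻¹ * (R * A1 * R⁻¹) * (R * C * R⁻¹) := by rw [ek]; group
      _ = E * (n * (A2 * C)) := by rw [en, hRA1, hRC]; group
      _ = _ := by rw [← (central hc hn (A2 * C)).eq]; group
  -- the bottom layer and its normaliser
  set N0 := Subgroup.closure ({A2, A1, C} : Set Γ) with hN0
  have mA1 : A1 ∈ N0 := Subgroup.subset_closure (by simp)
  have mA2 : A2 ∈ N0 := Subgroup.subset_closure (by simp)
  have mC : C ∈ N0 := Subgroup.subset_closure (by simp)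
  have fixes : ∀ {A B : Γ}, Commute A B → B * A * B⁻¹ = A := fun {A B} h => by
    rw [← h.eq, mul_inv_cancel_right]
  have nD1 : D1 ∈ Subgroup.normalizer (N0 : Set Γ) := by
    refine mem_normalizer ?_
    rintro s (e | e | e)
    · rw [show s = _ from e]; rw [fixes cA2D1]; exact mA2
    · rw [show s = _ from e]; rw [dA1]; exact mul_mem (inv_mem mC) mA1
    · rw [show s = _ from e]; rw [fixes cD1C.symm]; exact mC
  have nD2 : D2 ∈ Subgroup.normalizer (N0 : Set Γ) := by
    refine mem_normalizer ?_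
    rintro s (e | e | e)
    · rw [show s = _ from e]; rw [dA2]; exact mul_mem (inv_mem mC) mA2
    · rw [show s = _ from e]; rw [fixes cA1D2]; exact mA1
    · rw [show s = _ from e]; rw [fixes cD2C.symm]; exact mC
  have nE : E ∈ Subgroup.normalizer (N0 : Set Γ) := by
    refine mem_normalizer ?_
    rintro s (e | e | e)
    · rw [show s = _ from e]; rw [fixes cEA2]; exact mA2
    · rw [show s = _ from e]; rw [fixes cEA1]; exact mA1
    · rw [show s = _ from e]; rw [fixes cEC.symm]; exact mC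
  have nF : F ∈ Subgroup.normalizer (N0 : Set Γ) := by
    have inv2 : ∀ {X Y : Γ}, Commute X Y → T * X * T⁻¹ = X⁻¹ → T * Y * T⁻¹ = Y⁻¹ →
        T * (X * Y) * T⁻¹ = (X * Y)⁻¹ := fun {X Y} h hX hY => by
      rw [show T * (X * Y) * T⁻¹ = T * X * T⁻¹ * (T * Y * T⁻¹) by group, hX, hY, h.eq, mul_inv_rev]
    refine mem_normalizer ?_
    rintro s (e | e | e)
    · rw [show s = _ from e]; have : F * A2 * F⁻¹ = A1 * (A2 * A2) := inverted_unique hc
        (by rw [map_mul, map_mul, map_inv, R0.fa2, mul_inv_cancel_right, map_mul, map_mul])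
        (nine' hA2) (by rw [(cA12.mul_right cA12).mul_pow, (Commute.refl A2).mul_pow, hA1, hA2]; simp)
        (swap R0.tf iA2) (inv2 (cA12.mul_right cA12) iA1 (inv2 (Commute.refl A2) iA2 iA2))
      rw [this]; exact mul_mem mA1 (mul_mem mA2 mA2)
    · rw [show s = _ from e]; have : F * A1 * F⁻¹ = A1 * A1 * (A2 * A2) := inverted_unique hc
        (by rw [map_mul, map_mul, map_inv, R0.fa1, mul_inv_cancel_right, map_mul, map_mul, map_mul])
        (nine' hA1) (by
          rw [((cA12.mul_left cA12).mul_right (cA12.mul_left cA12)).mul_pow, (Commute.refl A1).mul_pow,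
            (Commute.refl A2).mul_pow, hA1, hA2]; simp)
        (swap R0.tf iA1)
        (inv2 ((cA12.mul_left cA12).mul_right (cA12.mul_left cA12)) (inv2 (Commute.refl A1) iA1 iA1)
          (inv2 (Commute.refl A2) iA2 iA2))
      rw [this]; exact mul_mem (mul_mem mA1 mA1) (mul_mem mA2 mA2)
    · rw [show s = _ from e]; rw [hFC]; exact mC
  -- the commutator of the top generators, modulo the bottom layer
  obtain ⟨k2, hk2, ew⟩ := exists_central hc (X := E * E * A1 * A2) (Y := ⁅D1, D2⁆)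
    (by
      rw [map_commutatorElement, map_mul, map_mul, map_mul, commutatorElement_def, hσD2, R0.d1d2]
      group)
  obtain ⟨p, hp, ep⟩ := exists_central hc (X := D1 * D2 * (E * E * A2)) (Y := F * D1 * F⁻¹)
    (by
      rw [map_mul (f := σ) (F * D1), map_mul (f := σ) F, map_inv, R0.fd1, mul_inv_cancel_right]
      simp only [map_mul, hσD2])
  obtain ⟨q, hq, eq⟩ := exists_central hc (X := D1 * D1 * D2 * (E * A2 * (C * C))) (Y := F * D2 * F⁻¹)
    (by
      rw [map_mul (f := σ) (F * D2), map_mul (f := σ) F, map_inv, hσD2, R0.fd2, mul_inv_cancel_right]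
      simp only [map_mul, hσC, hσD2])
  set H := Subgroup.normalizer (N0 : Set Γ) with hH
  have hNH : N0 ≤ H := Subgroup.le_normalizer
  have hZH : ∀ {z : Γ}, σ z = 1 → z ∈ H := fun {z} hz => by
    rw [hH, Subgroup.mem_normalizer_iff]
    intro x
    rw [← (central hc hz x).eq, mul_inv_cancel_right]
  let N' := N0.subgroupOf H
  haveI : N'.Normal := Subgroup.normal_in_normalizer
  let π := QuotientGroup.mk' N'
  have hπ : ∀ {x : H}, (x : Γ) ∈ N0 → π x = 1 := fun {x} hx =>
    (QuotientGroup.eq_one_iff x).2 (Subgroup.mem_subgroupOf.2 hx)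
  have hπeq : ∀ {x y : H} {n : Γ}, n ∈ N0 → (x : Γ) = y * n → π x = π y := fun {x y n} hn e => by
    rw [show x = y * ⟨n, hNH hn⟩ from Subtype.ext e, map_mul, hπ (x := ⟨n, hNH hn⟩) hn, mul_one]
  let a' : H := ⟨D1, nD1⟩
  let b' : H := ⟨D2, nD2⟩
  let e' : H := ⟨E, nE⟩
  let φ' : H := ⟨F, nF⟩
  let k' : H := ⟨k2, hZH hk2⟩
  let p' : H := ⟨p, hZH hp⟩
  let q' : H := ⟨q, hZH hq⟩
  have hcen : ∀ {z : H}, σ (z : Γ) = 1 → ∀ x : H, Commute x z := fun {z} hz x =>
    Subtype.ext (central hc hz (x : Γ)).eq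
  have hceq : ∀ {z : H}, σ (z : Γ) = 1 → ∀ y, Commute y (π z) := fun {z} hz y => by
    obtain ⟨x, rfl⟩ := QuotientGroup.mk'_surjective N' y
    exact (hcen hz x).map π
  have hea : Commute (π e') (π a') := by
    rw [commute_iff_eq, ← map_mul, ← map_mul]
    refine (hπeq (n := D1⁻¹ * (A1 * C) * D1) ?_ ?_).symm
    · have := (Subgroup.mem_normalizer_iff.1 (inv_mem nD1) (A1 * C)).1 (mul_mem mA1 mC)
      simpa using this
    · show D1 * E = E * D1 * _
      rw [mul_inv_eq_iff_eq_mul.1 ek]; group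
  have heb : Commute (π e') (π b') := by
    rw [commute_iff_eq, ← map_mul, ← map_mul]
    refine (hπeq (n := D2⁻¹ * (A2 * C) * D2) ?_ ?_).symm
    · have := (Subgroup.mem_normalizer_iff.1 (inv_mem nD2) (A2 * C)).1 (mul_mem mA2 mC)
      simpa using this
    · show D2 * E = E * D2 * _
      rw [mul_inv_eq_iff_eq_mul.1 dE2]; group
  have hk2N : k2 ∈ N0 := by
    have h1 : π k' = 1 := by
      refine quot_identity (a := π a') (b := π b') (e := π e') (φ := π φ')
        (p := π (e' * e' * p')) (q := π (e' * q')) ?_ ?_ hea heb (hceq hk2) ?_ ?_ ?_ ?_ ?_ ?_ ?_ ?_ ?_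
      · rw [← map_pow]; exact hπ (by show D1 ^ 3 ∈ N0; rw [hD13]; exact mA2)
      · rw [← map_pow]; exact hπ (by show E ^ 3 ∈ N0; rw [hE']; exact one_mem _)
      · rw [← map_commutatorElement, ← map_mul, ← map_mul]
        refine hπeq (n := A1 * A2) (mul_mem mA1 mA2) ?_
        show ⁅D1, D2⁆ = E * E * k2 * (A1 * A2)
        rw [ew, mul_assoc (E * E) k2, ← (central hc hk2 (A1 * A2)).eq]; group
      · rw [← map_inv, ← map_inv, ← map_mul, ← map_mul]
        exact congrArg π (Subtype.ext iE)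
      · rw [← map_inv, ← map_mul, ← map_mul, ← map_mul, ← map_mul]
        refine hπeq (n := A2) mA2 ?_
        show F * D1 * F⁻¹ = D1 * D2 * (E * E * p) * A2
        rw [ep, mul_assoc (D1 * D2) (E * E * p) A2, mul_assoc (E * E) p A2, ← (central hc hp A2).eq]; group
      · rw [← map_inv, ← map_mul, ← map_mul, ← map_mul, ← map_mul, ← map_mul]
        refine hπeq (n := A2 * (C * C)) (mul_mem mA2 (mul_mem mC mC)) ?_
        show F * D2 * F⁻¹ = D1 * D1 * D2 * (E * q) * (A2 * (C * C))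
        rw [eq, mul_assoc (D1 * D1 * D2) (E * q), mul_assoc E q, ← (central hc hq (A2 * (C * C))).eq]; group
      all_goals simp only [map_mul]
      · exact (hea.mul_left hea).mul_left (hceq hp _).symm
      · exact (heb.mul_left heb).mul_left (hceq hp _).symm
      · exact hea.mul_left (hceq hq _).symm
      · exact heb.mul_left (hceq hq _).symm
      · exact (((Commute.refl _).mul_left (Commute.refl _)).mul_left (hceq hp _).symm).mul_right
          (hceq hq _)
    exact Subgroup.mem_subgroupOf.1 ((QuotientGroup.eq_one_iff k').1 h1)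
  -- the subgroup
  have g1 : Nat.card (Subgroup.closure ({C} : Set Γ)) ≤ 3 * 1 := by
    rw [← insert_empty_eq]
    exact grow (by norm_num) (by rw [hC3]; exact one_mem _) (by simp) card_closure_empty
  have g2 : Nat.card (Subgroup.closure ({A1, C} : Set Γ)) ≤ 3 * (3 * 1) := by
    refine grow (by norm_num) (by rw [hA1']; exact one_mem _) ?_ g1
    intro s e
    rw [show s = _ from e]
    rw [fixes cA1C.symm]; exact Subgroup.subset_closure rfl
  have g3 : Nat.card N0 ≤ 3 * (3 * (3 * 1)) := by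
    refine grow (by norm_num) (by rw [hA2']; exact one_mem _) ?_ g2
    rintro s (e | e)
    · rw [show s = _ from e]; rw [fixes cA12]; exact Subgroup.subset_closure (by simp)
    · rw [show s = _ from e]; rw [fixes cA2C.symm]; exact Subgroup.subset_closure (by simp)
  have g4 : Nat.card (Subgroup.closure ({E, A2, A1, C} : Set Γ)) ≤ 3 * (3 * (3 * (3 * 1))) := by
    refine grow (by norm_num) (by rw [hE']; exact one_mem _) ?_ g3
    exact fun s hs => (Subgroup.mem_normalizer_iff.1 nE s).1 (Subgroup.subset_closure hs)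
  set N1 := Subgroup.closure ({E, A2, A1, C} : Set Γ) with hN1
  have h01 : N0 ≤ N1 := Subgroup.closure_mono (fun s hs => Or.inr hs)
  have mE : E ∈ N1 := Subgroup.subset_closure (by simp)
  have g5 : Nat.card (Subgroup.closure ({D1, E, A2, A1, C} : Set Γ)) ≤ 3 * (3 * (3 * (3 * (3 * 1)))) := by
    refine grow (by norm_num) (by rw [hD13]; exact h01 mA2) ?_ g4
    rintro s (e | hs)
    · rw [show s = _ from e]; rw [ek]; exact mul_mem (mul_mem mE (h01 mA1)) (h01 mC)
    · exact h01 ((Subgroup.mem_normalizer_iff.1 nD1 s).1 (Subgroup.subset_closure hs))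
  have h12 : N1 ≤ Subgroup.closure ({D1, E, A2, A1, C} : Set Γ) :=
    Subgroup.closure_mono (fun s hs => Or.inr hs)
  have g6 : Nat.card (Subgroup.closure ({D2, D1, E, A2, A1, C} : Set Γ)) ≤
      3 * (3 * (3 * (3 * (3 * (3 * 1))))) := by
    refine grow (by norm_num) (by rw [hD23]; exact h12 (h01 (inv_mem mA1))) ?_ g5
    rintro s (e | e | hs)
    · rw [show s = _ from e]; have hW : ⁅D1, D2⁆ ∈ Subgroup.closure ({D1, E, A2, A1, C} : Set Γ) := by
        rw [ew]
        exact h12 (mul_mem (mul_mem (mul_mem (mul_mem mE mE) (h01 mA1)) (h01 mA2)) (h01 hk2N))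
      rw [show D2 * D1 * D2⁻¹ = ⁅D1, D2⁆⁻¹ * D1 by rw [commutatorElement_def]; group]
      exact mul_mem (inv_mem hW) (Subgroup.subset_closure (by simp))
    · rw [show s = _ from e]; rw [dE2]; exact h12 (mul_mem (mul_mem mE (h01 mA2)) (h01 mC))
    · exact h12 (h01 ((Subgroup.mem_normalizer_iff.1 nD2 s).1 (Subgroup.subset_closure hs)))
  refine split_of_card σ hc hσ _ g6 (hge.trans ?_) hN P
  apply Subgroup.card_le_of_le
  rw [Subgroup.closure_le]
  rintro _ (rfl | rfl | rfl | rfl | rfl | rfl)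
  · exact ⟨C, Subgroup.subset_closure (by simp), hσC⟩
  · exact Subgroup.mem_map_of_mem σ (Subgroup.subset_closure (by simp))
  · exact Subgroup.mem_map_of_mem σ (Subgroup.subset_closure (by simp))
  · exact Subgroup.mem_map_of_mem σ (Subgroup.subset_closure (by simp))
  · exact Subgroup.mem_map_of_mem σ (Subgroup.subset_closure (by simp))
  · exact ⟨D2, Subgroup.subset_closure (by simp), hσD2⟩

end Cfsg.Agent.Lib.J3.Lift
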