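import Cfsg.Agent.Lib.J3.Simple
import Cfsg.Agent.Lib.J3.Iso

/-!
Orbits of the triple cover of the third Janko group on lines.
-/

set_option autoImplicit false
set_option linter.unusedSectionVars false

namespace Cfsg.Agent.Lib.J3

open Cfsg.Spor Matrix
open scoped MatrixGroups

variable {F : Type*} [Field F] [Finite F] {ω : F}

theorem lineFix_mul {g g' : threeJ3 F ω} (hg : LineFix g) (hg' : LineFix g') : LineFix (g * g') :=
  fun w hw => by rw [val_mul_col hg', hg w hw, zero_mul]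

theorem tr_moves : ∀ i < 28, i ≠ 0 → ∃ w : F9, w ≠ 0 ∧ dig (row (tr i) (pos w)) 0 ≠ 0 := by
  decide +kernel

theorem Fld.lineFix_iff (h : Fld F ω) (k : threeJ3 F ω) : LineFix k ↔ k ∈ lineGp ω := by
  refine ⟨fun hk => ?_, h.lineFix⟩
  obtain ⟨u, hu, i, hi, v, hv, rfl⟩ := h.mem_dset k
  by_cases hi0 : i = 0
  · subst hi0; rw [h.rep_zero, mul_one]; exact mul_mem hu hv
  exfalso
  have ht : LineFix (rep ω i) := by
    rw [show rep ω i = u⁻¹ * (u * rep ω i * v) * v⁻¹ by group]
    exact lineFix_mul (lineFix_mul (h.lineFix (inv_mem hu)) hk) (h.lineFix (inv_mem hv))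
  obtain ⟨w, hw, hd⟩ := tr_moves i hi hi0
  have := ht w hw
  rw [rep, el_val (h.inG_tr hi), toMat_apply] at this
  exact h.phi_ne_zero (dig_lt _ _) hd this

/-- The first basis vector. -/
abbrev e0 (F : Type*) [Field F] : F9 → F := Pi.single 0 1

/-- The image of the first line. -/
def lineOf (g : threeJ3 F ω) : Submodule F (F9 → F) := F ∙ ((g : GL F9 F).val *ᵥ e0 F)

theorem Fld.lineOf_eq_iff (h : Fld F ω) (g g' : threeJ3 F ω) :
    lineOf g = lineOf g' ↔ g⁻¹ * g' ∈ lineGp ω := by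
  rw [← h.lineFix_iff]
  constructor
  · intro e w hw
    obtain ⟨c, hc⟩ := Submodule.mem_span_singleton.1
      (e.symm ▸ Submodule.mem_span_singleton_self _ : ((g' : GL F9 F).val *ᵥ e0 F) ∈ lineOf g)
    have : ((g⁻¹ * g' : threeJ3 F ω) : GL F9 F).val *ᵥ e0 F = c • e0 F := by
      rw [val_mul, ← mulVec_mulVec, ← hc, mulVec_smul, mulVec_mulVec, ← val_mul, inv_mul_cancel]
      exact congrArg (c • ·) (one_mulVec _)
    have := congrFun this w
    rw [e0, mulVec_single_one] at this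
    simpa [hw, Matrix.col] using this
  · intro hk
    set k := g⁻¹ * g' with hkdef
    have hcol : (k : GL F9 F).val *ᵥ e0 F = (k : GL F9 F).val 0 0 • e0 F := by
      funext w
      rw [e0, mulVec_single_one]
      by_cases hw : w = 0
      · subst hw; simp [Matrix.col]
      · simp [Matrix.col, hw, hk w hw]
    have hg' : (g' : GL F9 F).val *ᵥ e0 F = (k : GL F9 F).val 0 0 • ((g : GL F9 F).val *ᵥ e0 F) := by
      rw [show g' = g * k by rw [hkdef]; group, val_mul, ← mulVec_mulVec, hcol, mulVec_smul]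
    have hne : (k : GL F9 F).val 0 0 ≠ 0 := by
      obtain ⟨s, -, hs'⟩ := h.diag_scal ((h.lineFix_iff k).1 hk)
      rw [hs']; exact pow_ne_zero _ h.omega_ne_zero
    rw [lineOf, lineOf, hg', Submodule.span_singleton_smul_eq (IsUnit.mk0 _ hne)]

theorem Fld.line_orbit (h : Fld F ω) : {L : Submodule F (F9 → F) | ∃ g ∈ threeJ3 F ω,
    L = F ∙ ((g : Matrix F9 F9 F) *ᵥ e0 F)}.ncard = 23256 := by
  rw [← h.index_eq.1, Subgroup.index_eq_card, ← Nat.card_coe_set_eq]
  let f : threeJ3 F ω ⧸ lineGp ω → {L : Submodule F (F9 → F) | ∃ g ∈ threeJ3 F ω,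
      L = F ∙ ((g : Matrix F9 F9 F) *ᵥ e0 F)} :=
    Quotient.lift (fun g => ⟨lineOf g, g.1, g.2, rfl⟩) fun g g' hgg => by
      apply Subtype.ext
      exact (h.lineOf_eq_iff g g').2 (QuotientGroup.leftRel_apply.1 hgg)
  refine (Nat.card_eq_of_bijective f ⟨?_, ?_⟩).symm
  · intro a b hab
    induction a using QuotientGroup.induction_on with | _ a =>
    induction b using QuotientGroup.induction_on with | _ b =>
    exact QuotientGroup.eq.2 ((h.lineOf_eq_iff a b).1 (congrArg Subtype.val hab))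
  · rintro ⟨L, g, hg, rfl⟩
    exact ⟨QuotientGroup.mk ⟨g, hg⟩, rfl⟩

/-- A column as a vector. -/
def vecOf (ω : F) (a : ℕ) : F9 → F := fun z => toMat ω a z 0

theorem Fld.vecOf_mul (h : Fld F ω) (a b : ℕ) : vecOf ω (mul a b) = toMat ω a *ᵥ vecOf ω b := by
  funext z
  rw [vecOf, h.toMat_mul, Matrix.mul_apply]
  rfl

/-- The vector is an image of the first class. -/
def Reach (ω : F) (v : F9 → F) : Prop := ∃ g : threeJ3 F ω, (g : GL F9 F).val *ᵥ vecOf ω (cls 0) = v

theorem Fld.reach_mul (h : Fld F ω) {a : ℕ} (ha : InG ω a) {v : F9 → F} (hv : Reach ω v) :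
    Reach ω (toMat ω a *ᵥ v) := by
  obtain ⟨g, rfl⟩ := hv
  exact ⟨el ω a * g, by rw [val_mul, el_val ha, mulVec_mulVec]⟩

theorem Fld.reach_of_mul (h : Fld F ω) {a : ℕ} (ha : InG ω a) {v : F9 → F}
    (hv : Reach ω (toMat ω a *ᵥ v)) : Reach ω v := by
  obtain ⟨g, hg⟩ := hv
  refine ⟨(el ω a)⁻¹ * g, ?_⟩
  rw [val_mul, ← mulVec_mulVec, hg, ← el_val ha, mulVec_mulVec, ← val_mul, inv_mul_cancel]
  exact one_mulVec _

/-- All letters of a word are in range. -/
def lettersOk : ℕ → ℕ → Bool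
  | 0, _ => true
  | n + 1, e => (Nat.beq e 0 || Nat.blt (e % 16 - 1) 8) && lettersOk n (e / 16)

theorem letters_eq :
    ((List.range isoCount).all fun c => lettersOk isoLen (tab isoWidth isoWord c)) = true := by
  decide +kernel

theorem Fld.reach_cls (h : Fld F ω) {c : ℕ} (hc : c < isoCount) : Reach ω (vecOf ω (cls c)) := by
  rw [← Nat.eq_of_beq_eq_true (all_range classOk_eq hc)]
  have hl := all_range letters_eq hc
  revert hl
  generalize tab isoWidth isoWord c = e
  generalize isoLen = n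
  intro hl
  induction n generalizing e with
  | zero => exact ⟨1, one_mulVec _⟩
  | succ n ih =>
    rw [lettersOk, Bool.and_eq_true, Bool.or_eq_true] at hl
    rw [wordImg]
    split_ifs with he0
    · exact ⟨1, one_mulVec _⟩
    · have h8 := blt_lt (hl.1.resolve_left fun e0 => he0 (Nat.eq_of_beq_eq_true e0))
      rw [h.vecOf_mul]
      refine h.reach_mul ?_ (ih _ hl.2)
      simp only [letter]
      split_ifs
      · exact h.inG_codeD _
      · exact h.inG_codeD _
      · exact h.inG_hg (by omega)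

theorem mem_phases {α : Type} (f : α → ℕ) (b : α → Bool) (l : List α)
    (hf : ∀ x ∈ l, f x < 4 ∧ b x = decide (f x ≠ 0)) : l.map f ∈ phases (l.map b) := by
  induction l with
  | nil => simp [phases]
  | cons a l ih =>
    obtain ⟨h4, hb⟩ := hf a List.mem_cons_self
    rw [List.map_cons, List.map_cons, phases, List.mem_flatMap]
    refine ⟨f a, ?_, List.mem_map_of_mem (ih fun x hx => hf x (List.mem_cons_of_mem _ hx))⟩
    rw [hb]
    generalize f a = d at h4
    interval_cases d <;> simp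

theorem allWit_mem {l : List (List ℕ)} : ∀ {k : ℕ}, allWit l k = true → ∀ L ∈ l,
    ∃ j, witOk (colCode L) j = true := by
  induction l with
  | nil => simp
  | cons a l ih =>
    intro k e L hL
    rw [allWit, Bool.and_eq_true] at e
    rcases List.mem_cons.1 hL with rfl | hL
    · exact ⟨k, e.1⟩
    · exact ih e.2 L hL

theorem dig_colDig : ∀ d < 4, colDig d < 2 ^ 18 ∧ dig (colDig d) 0 = d := by decide +kernel

theorem colDig_lt (d : ℕ) : colDig d < 2 ^ 18 := by
  unfold colDig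
  cases bit' d 0 <;> cases bit' d 1 <;> decide

theorem pos_idx9 : ∀ p < 9, pos (idx9 p) = p := by decide +kernel

theorem Fld.vecOf_colCode (h : Fld F ω) (δ : F9 → ℕ) (hδ : ∀ z, δ z < 4) :
    vecOf ω (colCode ((List.range 9).map fun p => δ (idx9 p))) = fun z => phi ω (δ z) := by
  funext z
  rw [vecOf, toMat_apply, colCode, row_join _ (fun _ => colDig_lt _) (pos_lt z),
    List.getD_eq_getElem?_getD, List.getElem?_map, List.getElem?_range (pos_lt z)]
  simp only [Option.map_some, Option.getD_some, idx9_spec]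
  rw [show pos (0 : F9) = 0 from rfl, (dig_colDig _ (hδ z)).2]

theorem Fld.exists_digit [Fintype F] (h : Fld F ω) (hF : Fintype.card F = 4) (x : F) :
    ∃ d < 4, phi ω d = x := by
  have h1 : (1 : F) + ω ≠ 0 := fun h0 => by
    have := h.omega
    rw [h0] at this
    exact h.omega_ne_zero (mul_self_eq_zero.1 this)
  have hinj : Function.Injective fun d : Fin 4 => phi ω d.val := by
    intro a b hab
    have hw := h.omega_ne_zero
    have hw1 : ω ≠ 1 := fun e => h1 (by rw [e]; exact h.two)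
    fin_cases a <;> fin_cases b <;>
      simp [phi_zero, phi_one, phi_two, h.phi_three, sq, h.omega] at hab ⊢ <;>
      first
      | exact hw hab
      | exact hw hab.symm
      | exact hw1 hab
      | exact hw1 hab.symm
      | exact h1 hab
      | exact h1 hab.symm
  have hb := (Fintype.bijective_iff_injective_and_card _).2 ⟨hinj, by rw [hF, Fintype.card_fin]⟩
  obtain ⟨d, hd⟩ := hb.2 x
  exact ⟨d, d.2, hd⟩

/-- A mask from nine Booleans. -/
def mkMask (b : ℕ → Bool) : ℕ :=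
  cond (b 0) 1 0 ||| cond (b 1) 2 0 ||| cond (b 2) 4 0 ||| cond (b 3) 8 0 ||| cond (b 4) 16 0 |||
    cond (b 5) 32 0 ||| cond (b 6) 64 0 ||| cond (b 7) 128 0 ||| cond (b 8) 256 0

theorem mkMask_spec (b : ℕ → Bool) : mkMask b < 512 ∧ ∀ p < 9, bit' (mkMask b) p = b p := by
  have key : ∀ x0 x1 x2 x3 x4 x5 x6 x7 x8 : Bool,
      let m := cond x0 1 0 ||| cond x1 2 0 ||| cond x2 4 0 ||| cond x3 8 0 ||| cond x4 16 0 |||
        cond x5 32 0 ||| cond x6 64 0 ||| cond x7 128 0 ||| cond x8 256 0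
      m < 512 ∧ bit' m 0 = x0 ∧ bit' m 1 = x1 ∧ bit' m 2 = x2 ∧ bit' m 3 = x3 ∧ bit' m 4 = x4 ∧
        bit' m 5 = x5 ∧ bit' m 6 = x6 ∧ bit' m 7 = x7 ∧ bit' m 8 = x8 := by decide +kernel
  obtain ⟨k, k0, k1, k2, k3, k4, k5, k6, k7, k8⟩ :=
    key (b 0) (b 1) (b 2) (b 3) (b 4) (b 5) (b 6) (b 7) (b 8)
  refine ⟨k, fun p hp => ?_⟩
  interval_cases p <;> assumption

theorem evenMask_spec : ∀ m < 512, (bit' m 0 ^^ bit' m 1 ^^ bit' m 2 ^^ bit' m 3 ^^ bit' m 4 ^^
    bit' m 5 ^^ bit' m 6 ^^ bit' m 7 ^^ bit' m 8) = false → evenMask m = true := by decide +kernel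

theorem mul_left_inj' : ∀ Y : F9, Y ≠ 0 → ∀ z z' : F9, F9.mul Y z = F9.mul Y z' → z = z' := by
  decide +kernel

theorem j3B_mulVec (Y : F9) (hY : Y ≠ 0) (v : F9 → F) (z : F9) :
    (j3B F Y *ᵥ v) (F9.mul Y z) = v z := by
  rw [mulVec_eq_sum, Finset.sum_apply, Finset.sum_eq_single z]
  · simp [j3B]
  · intro b _ hb
    simp [j3B]
    intro e
    exact absurd (mul_left_inj' Y hY _ _ e).symm hb
  · simp

theorem j3D_mulVec (Z : F9) (v : F9 → F) (z : F9) :
    (j3D F ω Z *ᵥ v) (z + Z) = j3Lam F ω Z z * v z := by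
  show ∑ b, j3D F ω Z (z + Z) b * v b = _
  rw [Finset.sum_eq_single z]
  · simp [j3D]
  · intro b _ hb; simp [j3D, Ne.symm hb]
  · simp

theorem Fld.reach_iso [Fintype F] (h : Fld F ω) (hF : Fintype.card F = 4) {v : F9 → F} (hv : v ≠ 0)
    (hs : ∑ z, (v z) ^ 3 = 0) : Reach ω v := by
  classical
  set nz : F9 → Bool := fun z => decide (v z ≠ 0) with hnz
  obtain ⟨hm, hbit⟩ := mkMask_spec (fun p => nz (idx9 p))
  set m := mkMask (fun p => nz (idx9 p))
  have hbz : ∀ z, bit' m (pos z) = nz z := fun z => by rw [hbit _ (pos_lt z), idx9_spec]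
  have hcube : ∀ z, (v z) ^ 3 = bv (bit' m (pos z)) := by
    intro z
    rw [hbz, hnz]
    by_cases hz : v z = 0
    · simp [hz, bv]
    · simp [hz, bv, ← hF ▸ FiniteField.pow_card_sub_one_eq_one (v z) hz]
  rw [sum_F9] at hs
  simp only [hcube, ← h.bv_xor] at hs
  have hev : evenMask m = true := evenMask_spec m hm (by
    revert hs
    simp only [show pos ((0 : ZMod 3), (0 : ZMod 3)) = 0 from rfl, show pos ((0 : ZMod 3), (1 : ZMod 3)) = 1 from rfl,
      show pos ((0 : ZMod 3), (2 : ZMod 3)) = 2 from rfl, show pos ((1 : ZMod 3), (0 : ZMod 3)) = 3 from rfl,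
      show pos ((1 : ZMod 3), (1 : ZMod 3)) = 4 from rfl, show pos ((1 : ZMod 3), (2 : ZMod 3)) = 5 from rfl,
      show pos ((2 : ZMod 3), (0 : ZMod 3)) = 6 from rfl, show pos ((2 : ZMod 3), (1 : ZMod 3)) = 7 from rfl,
      show pos ((2 : ZMod 3), (2 : ZMod 3)) = 8 from rfl]
    generalize (bit' m 0 ^^ bit' m 1 ^^ bit' m 2 ^^ bit' m 3 ^^ bit' m 4 ^^ bit' m 5 ^^ bit' m 6 ^^
      bit' m 7 ^^ bit' m 8) = x
    cases x <;> simp [bv])
  have hm0 : m ≠ 0 := by
    intro h0
    refine hv (funext fun z => ?_)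
    have := hbz z
    rw [h0] at this
    simpa [hnz, bit', show Nat.beq 0 1 = false from rfl] using this
  have e := all_range supTab_ok hm
  have hb0 : Nat.beq m 0 = false := by
    cases hb : Nat.beq m 0
    · rfl
    · exact absurd (Nat.eq_of_beq_eq_true hb) hm0
  rw [hb0, hev] at e
  simp only [Bool.not_true, Bool.false_or, supEntry, Bool.and_eq_true] at e
  obtain ⟨⟨⟨e1, e2⟩, e3⟩, e4⟩ := e
  set t := tab 16 supTab m
  have hY : idx9 (t % 16) ≠ 0 := idx9_ne_zero _ (blt_lt e2) fun h0 => by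
    rw [h0] at e1; exact Bool.false_ne_true e1
  have a1 := h.inG_codeB hY
  have a2 := h.inG_codeD (idx9 (t / 16 % 16))
  refine h.reach_of_mul a2 (h.reach_of_mul a1 ?_)
  rw [h.toMat_codeB hY, h.toMat_codeD]
  set w := j3B F (idx9 (t % 16)) *ᵥ (j3D F ω (idx9 (t / 16 % 16)) *ᵥ v) with hw
  choose δ hδ hδv using fun z => h.exists_digit hF (w z)
  have hR : ∀ z, bit' (supReps.getD (t / 256) 0) (pos z) = decide (δ z ≠ 0) := by
    have hinj : Function.Injective fun z : F9 => F9.mul (idx9 (t % 16)) (z + idx9 (t / 16 % 16)) :=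
      fun a b hab => add_right_cancel (mul_left_inj' _ hY _ _ hab)
    intro z'
    obtain ⟨z, rfl⟩ := (Finite.injective_iff_surjective.1 hinj) z'
    have e5 := all_range e4 (pos_lt z)
    rw [idx9_spec] at e5
    rw [beq_iff_eq.1 e5, hbz, hnz]
    apply decide_eq_decide.2
    have hwz : w (F9.mul (idx9 (t % 16)) (z + idx9 (t / 16 % 16))) =
        j3Lam F ω (idx9 (t / 16 % 16)) z * v z := by rw [hw, j3B_mulVec _ hY, j3D_mulVec]
    have hl : j3Lam F ω (idx9 (t / 16 % 16)) z ≠ 0 := by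
      rw [j3Lam]
      split_ifs <;> simp [h.omega_ne_zero]
    constructor
    · intro hvz hd
      have := hδv (F9.mul (idx9 (t % 16)) (z + idx9 (t / 16 % 16)))
      rw [hd, phi_zero, hwz] at this
      exact mul_ne_zero hl hvz this.symm
    · intro hd hvz
      have := hδv (F9.mul (idx9 (t % 16)) (z + idx9 (t / 16 % 16)))
      rw [hwz, hvz, mul_zero] at this
      exact h.phi_ne_zero (hδ _) hd this
  have hmem : (List.range 9).map (fun p => δ (idx9 p)) ∈ phases (maskBits (supReps.getD (t / 256) 0)) :=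
    mem_phases (fun p => δ (idx9 p)) (bit' (supReps.getD (t / 256) 0)) _ fun p hp => by
      refine ⟨hδ _, ?_⟩
      rw [← hR, pos_idx9 p (List.mem_range.1 hp)]
  have hok : supOk (t / 256) = true := by
    have hb := blt_lt e3
    interval_cases t / 256
    exacts [supOk_0, supOk_1, supOk_2, supOk_3, supOk_4, supOk_5, supOk_6]
  obtain ⟨j, hj⟩ := allWit_mem hok _ hmem
  simp only [witOk, Bool.and_eq_true] at hj
  obtain ⟨⟨j1, j2⟩, j3⟩ := hj
  have hdg : InG ω (getM diagTab (tab 20 isoWit j % 128)) := by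
    have : ∀ a, a < 81 → InG ω (getM diagTab a) := by
      obtain ⟨-, d0, -, hd, -⟩ := monoOk_spec
      intro a
      induction a using Nat.strong_induction_on with
      | _ a ih =>
        intro ha
        rcases a with _ | a
        · rw [d0]; exact h.inG_idM
        · obtain ⟨g, hg', b, hb, e⟩ := hd a (by omega)
          rw [e]
          exact h.inG_mul (h.inG_hg (by omega)) (ih b (by omega) (by omega))
    exact this _ (blt_lt j1)
  refine h.reach_of_mul hdg ?_
  have hcw : vecOf ω (colCode ((List.range 9).map fun p => δ (idx9 p))) = w := by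
    rw [h.vecOf_colCode δ hδ]
    exact funext hδv
  rw [← hcw, ← h.vecOf_mul, Nat.eq_of_beq_eq_true j3]
  exact h.reach_cls (blt_lt j2)

theorem Fld.iso_transitive [Fintype F] (h : Fld F ω) (hF : Fintype.card F = 4) {v w : F9 → F}
    (hv : v ≠ 0) (hw : w ≠ 0) (hsv : ∑ z, (v z) ^ 3 = 0) (hsw : ∑ z, (w z) ^ 3 = 0) :
    ∃ g ∈ threeJ3 F ω, ∃ c : F, c ≠ 0 ∧ (g : Matrix F9 F9 F) *ᵥ v = c • w := by
  obtain ⟨g, rfl⟩ := h.reach_iso hF hv hsv
  obtain ⟨g', rfl⟩ := h.reach_iso hF hw hsw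
  refine ⟨(g' * g⁻¹ : threeJ3 F ω), Subtype.prop _, 1, one_ne_zero, ?_⟩
  rw [one_smul, mulVec_mulVec, ← val_mul, mul_assoc, inv_mul_cancel, mul_one]

end Cfsg.Agent.Lib.J3
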