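import Cfsg.Agent.Lib.J3.CentCompChecks

/-!
Computations for the multiplier of the third Janko group.
-/

set_option autoImplicit false
set_option maxRecDepth 100000
set_option maxHeartbeats 4000000

namespace Cfsg.Agent.Lib.J3.Mult

open Cfsg.Agent.Lib.J3 Cfsg.Agent.Lib.J3.Cent

/-- The relations at the prime two. -/
def twoOk : Bool :=
  let x := qc 2
  let t := hc 1
  let g := hc 28
  let u := hc 59
  let y := mul (mul t x) t
  let w := mul x y
  let z := qc 1
  Nat.beq (mul x x) idM && Nat.beq (mul t t) idM && Nat.beq (mul u u) idM &&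
    Nat.beq (mul t u) (hc 58) && Nat.beq (mul u t) (hc 58) && Nat.beq (mul (mul g g) g) idM &&
    Nat.beq (mul g x) (mul x g) && Nat.beq (mul g t) (mul u g) && Nat.beq (mul g u) (mul (mul t u) g) &&
    Nat.beq (mul w w) z && Nat.beq (mul z z) idM && Nat.beq (mul z x) (mul x z) &&
    Nat.beq (mul g z) (mul z g) && Nat.beq y (qc 9) && Nat.beq (mul (mul u x) u) (qc 7) &&
    Nat.beq (mul (mul (hc 58) x) (hc 58)) (qc 4) && Nat.beq (mul z t) (mul t z) && Nat.beq (mul z u) (mul u z) &&
    [z, t, u, mul z t, mul z u, mul t u, mul (mul z t) u].all (fun m => !Nat.beq m idM)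

theorem twoOk_eq : twoOk = true := by decide +kernel

/-- The code of the first diagonal element. -/
def cA1 : ℕ := codeA (1, 0)
/-- The code of the second diagonal element. -/
def cA2 : ℕ := codeA (0, 1)
/-- The code of the quadratic diagonal element. -/
def cE : ℕ := codeE (0, 0)
/-- The code of the first translation. -/
def cD1 : ℕ := codeD (1, 0)
/-- The code of the second translation. -/
def cD2 : ℕ := codeD (0, 1)
/-- The code of the negation. -/
def cT' : ℕ := codeB (2, 0)
/-- The code of the rotation. -/
def cR : ℕ := codeB (0, 1)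
/-- The code of the generator of the multiplications. -/
def cF : ℕ := codeB (1, 1)

/-- The relations at the prime three. -/
def threeOk : Bool :=
  let c := hg 0
  let a := cA1
  let b := cA2
  let e := cE
  let d := cD1
  let d' := cD2
  let t := cT'
  let r := cR
  let f := cF
  let ee := mul e e
  let aa := mul a a
  let bb := mul b b
  let f4 := mul (mul f f) (mul f f)
  Nat.beq (mul aa a) idM && Nat.beq (mul bb b) idM && Nat.beq (mul ee e) idM &&
    Nat.beq (mul (mul d d) d) b && Nat.beq (mul t t) idM && Nat.beq (mul (mul r r) (mul r r)) idM &&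
    Nat.beq (mul f4 f4) idM &&
    Nat.beq (mul (mul (mul t a) t) a) idM && Nat.beq (mul (mul (mul t b) t) b) idM &&
    Nat.beq (mul (mul (mul t d) t) d) idM && Nat.beq (mul t e) (mul e t) &&
    Nat.beq (mul t r) (mul r t) && Nat.beq (mul t f) (mul f t) &&
    Nat.beq (mul r a) (mul b r) && Nat.beq (mul r b) (mul aa r) && Nat.beq (mul r d) (mul d' r) &&
    Nat.beq (mul r e) (mul e r) && Nat.beq (mul f e) (mul ee f) &&
    Nat.beq (mul f a) (mul (mul aa bb) f) && Nat.beq (mul f b) (mul (mul a bb) f) &&
    Nat.beq (mul f d) (mul (mul (mul d d') (mul ee b)) f) &&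
    Nat.beq (mul f d') (mul (mul (mul (mul d d) d') (mul (mul e b) (mul c c))) f) &&
    Nat.beq (mul e a) (mul a e) && Nat.beq (mul e b) (mul b e) &&
    Nat.beq (mul a d) (mul (mul c d) a) && Nat.beq (mul d e) (mul (mul (mul e a) c) d) &&
    Nat.beq (mul d d') (mul (mul (mul ee a) b) (mul d' d)) &&
    (List.range 6).all (fun g => Nat.beq (dval (tab 31 threeGens g)) ([c, a, b, e, d, d'].getD g 0))

theorem threeOk_eq : threeOk = true := by decide +kernel

end Cfsg.Agent.Lib.J3.Mult
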