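import Cfsg.Agent.Lib.J3.CentComp
import Cfsg.Agent.Lib.J3.Lift
import Cfsg.Agent.Lib.J3.MultChecks
import Cfsg.Agent.SimpleFacts.SchurFromCover

/-!
The multiplier of the triple cover of the third Janko group is trivial.
-/

set_option autoImplicit false
set_option linter.unusedSectionVars false

namespace Cfsg.Agent.Lib.J3.Mult

open Cfsg.Spor Cfsg.Agent.Lib.J3 Cfsg.Agent.Lib.J3.Cent Cfsg.Agent.Transfer.SplitLifts
open scoped MatrixGroups commutatorElement

variable {F : Type*} [Field F] [Finite F] {ω : F}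

theorem inG_hc (h : Fld F ω) {n : ℕ} (hn : n < 60) : InG ω (hc n) := (hc_spec h n hn).1

/-- The relations at the prime two in the group. -/
theorem twoRel (h : Fld F ω) :
    let x := qT ω 2
    let t := el ω (hc 1)
    let u := el ω (hc 59)
    let g := el ω (hc 28)
    let z := qT ω 1
    x * x = 1 ∧ t * t = 1 ∧ u * u = 1 ∧ Commute t u ∧ g ^ 3 = 1 ∧ g * x = x * g ∧ g * t = u * g ∧
      g * u = t * u * g ∧ x * (t * x * t) * (x * (t * x * t)) = z ∧ z * z = 1 ∧ Commute z x ∧ Commute g z ∧
      t * x * t = qT ω 9 ∧ u * x * u = qT ω 7 ∧ t * u * x * (t * u) = qT ω 4 ∧ Commute z t ∧ Commute z u ∧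
      ∀ y ∈ [z, t, u, z * t, z * u, t * u, z * t * u], y ≠ 1 := by
  intro x t u g z
  have ix := Fld.inG_qc h (show 2 < 32 by norm_num)
  have iz := Fld.inG_qc h (show 1 < 32 by norm_num)
  have it := inG_hc h (show 1 < 60 by norm_num)
  have iu := inG_hc h (show 59 < 60 by norm_num)
  have ig := inG_hc h (show 28 < 60 by norm_num)
  have c := twoOk_eq
  simp only [twoOk, Bool.and_eq_true] at c
  obtain ⟨⟨⟨⟨⟨⟨⟨⟨⟨⟨⟨⟨⟨⟨⟨⟨⟨⟨c1, c2⟩, c3⟩, c4⟩, c5⟩, c6⟩, c7⟩, c8⟩, c9⟩, c10⟩, c11⟩, c12⟩, c13⟩, c14⟩,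
    c15⟩, c16⟩, c17⟩, c18⟩, c19⟩ := c
  have ev : ∀ {a b : ℕ}, Nat.beq a b = true → el ω a = el ω b := fun e => congrArg (el ω) (Nat.eq_of_beq_eq_true e)
  have itx := h.inG_mul it ix
  have iy := h.inG_mul itx it
  have iw := h.inG_mul ix iy
  have itu := h.inG_mul it iu
  have hsub : el ω (hc 58) = t * u := by rw [← ev c4, h.el_mul it iu]
  refine ⟨?_, ?_, ?_, ?_, ?_, ?_, ?_, ?_, ?_, ?_, ?_, ?_, ?_, ?_, ?_, ?_, ?_, ?_⟩
  · have := ev c1; rwa [h.el_mul ix ix, h.el_idM] at this
  · have := ev c2; rwa [h.el_mul it it, h.el_idM] at this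
  · have := ev c3; rwa [h.el_mul iu iu, h.el_idM] at this
  · have := (ev c4).trans (ev c5).symm; rwa [h.el_mul it iu, h.el_mul iu it] at this
  · have := ev c6
    rwa [h.el_mul (h.inG_mul ig ig) ig, h.el_mul ig ig, h.el_idM, ← pow_three'] at this
  · have := ev c7; rwa [h.el_mul ig ix, h.el_mul ix ig] at this
  · have := ev c8; rwa [h.el_mul ig it, h.el_mul iu ig] at this
  · have := ev c9; rwa [h.el_mul ig iu, h.el_mul itu ig, h.el_mul it iu] at this
  · have := ev c10; rwa [h.el_mul iw iw, h.el_mul ix iy, h.el_mul itx it, h.el_mul it ix] at this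
  · have := ev c11; rwa [h.el_mul iz iz, h.el_idM] at this
  · have := ev c12; rwa [h.el_mul iz ix, h.el_mul ix iz] at this
  · have := ev c13; rwa [h.el_mul ig iz, h.el_mul iz ig] at this
  · have := ev c14; rwa [h.el_mul itx it, h.el_mul it ix] at this
  · have := ev c15; rwa [h.el_mul (h.inG_mul iu ix) iu, h.el_mul iu ix] at this
  · have := ev c16
    have i8 := inG_hc h (show 58 < 60 by norm_num)
    rwa [h.el_mul (h.inG_mul i8 ix) i8, h.el_mul i8 ix, hsub] at this
  · have := ev c17; rwa [h.el_mul iz it, h.el_mul it iz] at this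
  · have := ev c18; rwa [h.el_mul iz iu, h.el_mul iu iz] at this
  · simp only [List.all_cons, List.all_nil, Bool.and_true, Bool.and_eq_true, Bool.not_eq_true'] at c19
    obtain ⟨d1, d2, d3, d4, d5, d6, d7⟩ := c19
    have ne : ∀ {a : ℕ}, InG ω a → a < 2 ^ 162 → Nat.beq a idM = false → el ω a ≠ 1 := fun ha hlt hb =>
      h.el_ne_one ha hlt fun e => by rw [e, Nat.beq_refl] at hb; exact Bool.false_ne_true hb.symm
    simp only [List.mem_cons, List.mem_singleton, List.not_mem_nil, or_false]
    rintro y (rfl | rfl | rfl | rfl | rfl | rfl | rfl)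
    · exact ne iz (getM_lt _ _) d1
    · exact ne it (getM_lt _ _) d2
    · exact ne iu (getM_lt _ _) d3
    · have := ne (h.inG_mul iz it) (mul_lt _ _) d4; rwa [h.el_mul iz it] at this
    · have := ne (h.inG_mul iz iu) (mul_lt _ _) d5; rwa [h.el_mul iz iu] at this
    · have := ne (h.inG_mul it iu) (mul_lt _ _) d6; rwa [h.el_mul it iu] at this
    · have := ne (h.inG_mul (h.inG_mul iz it) iu) (mul_lt _ _) d7
      rwa [h.el_mul (h.inG_mul iz it) iu, h.el_mul iz it] at this

theorem qWords : ∀ i < 32, ∃ a < 2, ∃ b < 2, ∃ c < 2, ∃ d < 2, ∃ e < 2,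
    i = (List.replicate a 1 ++ List.replicate b 2 ++ List.replicate c 9 ++ List.replicate d 7 ++
      List.replicate e 4).foldl qm 0 := by decide +kernel

theorem foldl_mem (h : Fld F ω) (S : Subgroup (threeJ3 F ω)) : ∀ (l : List ℕ) (i : ℕ), i < 32 → qT ω i ∈ S →
    (∀ j ∈ l, j < 32 ∧ qT ω j ∈ S) → qT ω (l.foldl qm i) ∈ S := by
  intro l
  induction l with
  | nil => intro i _ hi _; exact hi
  | cons j l ih =>
    intro i hi hiS hl
    obtain ⟨hj, hjS⟩ := hl j List.mem_cons_self
    rw [List.foldl_cons]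
    exact ih _ ((qOk_spec.1 i hi).2.2.2 j hj).1 (by rw [← Fld.qT_mul h hi hj]; exact mul_mem hiS hjS)
      fun k hk => hl k (List.mem_cons_of_mem _ hk)

theorem card_two (h : Fld F ω) :
    2 ^ 7 ≤ Nat.card (Subgroup.closure ({qT ω 2, el ω (hc 1), el ω (hc 59)} : Set (threeJ3 F ω))) := by
  obtain ⟨-, t2, u2, tu, -, -, -, -, hz, -, -, -, hy2, hy3, hy4, -, -, hne⟩ := twoRel h
  set S := Subgroup.closure ({qT ω 2, el ω (hc 1), el ω (hc 59)} : Set (threeJ3 F ω))
  have mx : qT ω 2 ∈ S := Subgroup.subset_closure (by simp)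
  have mt : el ω (hc 1) ∈ S := Subgroup.subset_closure (by simp)
  have mu : el ω (hc 59) ∈ S := Subgroup.subset_closure (by simp)
  have hgen : ∀ j ∈ ([1, 2, 9, 7, 4] : List ℕ), j < 32 ∧ qT ω j ∈ S := by
    intro j hj
    simp only [List.mem_cons, List.not_mem_nil, or_false] at hj
    rcases hj with rfl | rfl | rfl | rfl | rfl
    · refine ⟨by norm_num, ?_⟩
      rw [← hz]
      exact mul_mem (mul_mem mx (mul_mem (mul_mem mt mx) mt)) (mul_mem mx (mul_mem (mul_mem mt mx) mt))
    · exact ⟨by norm_num, mx⟩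
    · exact ⟨by norm_num, hy2 ▸ mul_mem (mul_mem mt mx) mt⟩
    · exact ⟨by norm_num, hy3 ▸ mul_mem (mul_mem mu mx) mu⟩
    · exact ⟨by norm_num, hy4 ▸ mul_mem (mul_mem (mul_mem mt mu) mx) (mul_mem mt mu)⟩
  have hq : QT h ≤ S := by
    rintro _ ⟨i, hi, rfl⟩
    obtain ⟨a, ha, b, hb, c, hc', d, hd, e, he, rfl⟩ := qWords i hi
    refine foldl_mem h S _ 0 (by norm_num) (by rw [Fld.qT_zero h]; exact one_mem _) fun j hj => hgen j ?_
    simp only [List.mem_append, List.mem_replicate] at hj
    simp only [List.mem_cons, List.not_mem_nil, or_false]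
    omega
  let four : Bool × Bool → threeJ3 F ω := fun p =>
    (if p.1 then el ω (hc 1) else 1) * (if p.2 then el ω (hc 59) else 1)
  have hfH : ∀ p, four p ∈ HT h := fun p => by
    refine mul_mem ?_ ?_ <;> split_ifs <;>
      first | exact one_mem _ | exact (hc_spec h _ (by norm_num)).2
  have hfS : ∀ p, four p ∈ S := fun p => by
    refine mul_mem ?_ ?_ <;> split_ifs <;> first | exact one_mem _ | exact mt | exact mu
  have hinj : Function.Injective fun p : QT h × (Bool × Bool) =>
      (⟨p.1 * four p.2, mul_mem (hq p.1.2) (hfS p.2)⟩ : S) := by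
    rintro ⟨q, p⟩ ⟨q', p'⟩ e
    have e' : (q : threeJ3 F ω) * four p = q' * four p' := congrArg Subtype.val e
    have h1 : four p * (four p')⁻¹ = 1 :=
      HT_meet h (mul_mem (hfH p) (inv_mem (hfH p'))) (mul_mem (inv_mem q.2) q'.2) (one_mem _)
        (by rw [mul_one, mul_inv_eq_iff_eq_mul, mul_assoc, ← e', inv_mul_cancel_left])
    rw [mul_inv_eq_one] at h1
    rw [h1, mul_left_inj] at e'
    obtain rfl : q = q' := Subtype.ext e'
    have n1 := hne _ (List.mem_cons_of_mem _ List.mem_cons_self)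
    have n2 := hne (el ω (hc 59)) (by simp)
    have n3 := hne (el ω (hc 1) * el ω (hc 59)) (by simp)
    have n4 : el ω (hc 1) ≠ el ω (hc 59) := fun e => n3 (by rw [← e, t2])
    obtain ⟨a, b⟩ := p
    obtain ⟨a', b'⟩ := p'
    simp only [four] at h1
    cases a <;> cases b <;> cases a' <;> cases b' <;>
      simp only [if_true, if_false, one_mul, mul_one, Bool.false_eq_true] at h1 <;>
      first
      | rfl
      | exact absurd h1 n1
      | exact absurd h1.symm n1
      | exact absurd h1 n2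
      | exact absurd h1.symm n2
      | exact absurd h1 n3
      | exact absurd h1.symm n3
      | exact absurd h1 n4
      | exact absurd h1.symm n4
      | exact absurd (mul_eq_left.1 h1) n2
      | exact absurd (mul_eq_right.1 h1) n1
      | exact absurd (left_eq_mul.1 h1) n2
      | exact absurd (right_eq_mul.1 h1) n1
  have := Nat.card_le_card_of_injective _ hinj
  rw [Nat.card_prod, card_QT h] at this
  simpa using this

/-- The relations at the prime three in the group. -/
theorem threeRel (h : Fld F ω) : Lift.Rel (scalGen ω) (el ω cA1) (el ω cA2) (el ω cE) (el ω cD1) (el ω cD2)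
    (el ω cT') (el ω cR) (el ω cF) := by
  have ia : InG ω cA1 := h.inG_codeA _
  have ib : InG ω cA2 := h.inG_codeA _
  have ie : InG ω cE := h.inG_codeE _
  have id' : InG ω cD1 := h.inG_codeD _
  have id2 : InG ω cD2 := h.inG_codeD _
  have it : InG ω cT' := h.inG_codeB (by decide)
  have ir : InG ω cR := h.inG_codeB (by decide)
  have if' : InG ω cF := h.inG_codeB (by decide)
  have ic := h.inG_omega
  have c := threeOk_eq
  simp only [threeOk, Bool.and_eq_true] at c
  obtain ⟨⟨⟨⟨⟨⟨⟨⟨⟨⟨⟨⟨⟨⟨⟨⟨⟨⟨⟨⟨⟨⟨⟨⟨⟨⟨⟨c1, c2⟩, c3⟩, c4⟩, c5⟩, c6⟩, c7⟩, c8⟩, c9⟩, c10⟩, c11⟩, c12⟩,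
    c13⟩, c14⟩, c15⟩, c16⟩, c17⟩, c18⟩, c19⟩, c20⟩, c21⟩, c22⟩, c23⟩, c24⟩, c25⟩, c26⟩, c27⟩, -⟩ := c
  have ev : ∀ {a b : ℕ}, Nat.beq a b = true → el ω a = el ω b := fun e => congrArg (el ω) (Nat.eq_of_beq_eq_true e)
  have iee := h.inG_mul ie ie
  have iaa := h.inG_mul ia ia
  have ibb := h.inG_mul ib ib
  have iff2 := h.inG_mul if' if'
  have irr := h.inG_mul ir ir
  have idd := h.inG_mul id' id'
  have idd2 := h.inG_mul id' id2
  have hta : ∀ {x : ℕ}, InG ω x → el ω cT' * el ω cT' = 1 →
      Nat.beq (mul (mul (mul cT' x) cT') x) idM = true → el ω cT' * el ω x * (el ω cT')⁻¹ = (el ω x)⁻¹ := by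
    intro x ix ht hx
    have := ev hx
    rw [h.el_mul (h.inG_mul (h.inG_mul it ix) it) ix, h.el_mul (h.inG_mul it ix) it, h.el_mul it ix,
      h.el_idM] at this
    rw [inv_eq_of_mul_eq_one_right ht]
    exact eq_inv_of_mul_eq_one_left this
  have ht : el ω cT' * el ω cT' = 1 := by have := ev c5; rwa [h.el_mul it it, h.el_idM] at this
  have ha3 : el ω cA1 ^ 3 = 1 := by
    have := ev c1; rwa [h.el_mul iaa ia, h.el_mul ia ia, h.el_idM, ← pow_three'] at this
  have he3 : el ω cE ^ 3 = 1 := by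
    have := ev c3; rwa [h.el_mul iee ie, h.el_mul ie ie, h.el_idM, ← pow_three'] at this
  refine ⟨h.scalGen_cube, ha3, ?_, he3, ?_, by rw [pow_two]; exact ht, ?_, ?_, hta ia ht c8, hta ib ht c9,
    hta id' ht c10, ?_, fun y => Subgroup.mem_center_iff.1 h.scalGen_central y, ?_, ?_, ?_, ?_, ?_, ?_, ?_,
    ?_, ?_, ?_, ?_, ?_, ?_, ?_, ?_, ?_⟩
  · have := ev c2; rwa [h.el_mul ibb ib, h.el_mul ib ib, h.el_idM, ← pow_three'] at this
  · have := ev c4; rwa [h.el_mul idd id', h.el_mul id' id', ← pow_three'] at this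
  · have := ev c6
    rw [h.el_mul irr irr, h.el_mul ir ir, h.el_idM] at this
    rw [show 4 = 2 * 2 by norm_num, pow_mul, pow_two, pow_two]; exact this
  · have := ev c7
    rw [h.el_mul (h.inG_mul iff2 iff2) (h.inG_mul iff2 iff2), h.el_mul iff2 iff2, h.el_mul if' if',
      h.el_idM] at this
    rw [show 8 = 2 * 2 * 2 by norm_num, pow_mul, pow_mul, pow_two, pow_two, pow_two]; exact this
  · have := ev c11; rwa [h.el_mul it ie, h.el_mul ie it] at this
  · have := ev c12; rwa [h.el_mul it ir, h.el_mul ir it] at this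
  · have := ev c13; rwa [h.el_mul it if', h.el_mul if' it] at this
  · have := ev c14; rwa [h.el_mul ir ia, h.el_mul ib ir] at this
  · have := ev c15
    rw [h.el_mul ir ib, h.el_mul iaa ir, h.el_mul ia ia] at this
    rwa [inv_eq_of_mul_eq_one_left (show el ω cA1 * el ω cA1 * el ω cA1 = 1 by rw [← pow_three', ha3])]
  · have := ev c16; rwa [h.el_mul ir id', h.el_mul id2 ir] at this
  · have := ev c17; rwa [h.el_mul ir ie, h.el_mul ie ir] at this
  · have := ev c18
    rw [h.el_mul if' ie, h.el_mul iee if', h.el_mul ie ie] at this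
    rw [mul_inv_eq_iff_eq_mul,
      inv_eq_of_mul_eq_one_left (show el ω cE * el ω cE * el ω cE = 1 by rw [← pow_three', he3])]
    exact this
  · have := ev c19
    rwa [h.el_mul if' ia, h.el_mul (h.inG_mul iaa ibb) if', h.el_mul iaa ibb, h.el_mul ia ia,
      h.el_mul ib ib] at this
  · have := ev c20
    rwa [h.el_mul if' ib, h.el_mul (h.inG_mul ia ibb) if', h.el_mul ia ibb, h.el_mul ib ib] at this
  · have := ev c21
    rwa [h.el_mul if' id', h.el_mul (h.inG_mul idd2 (h.inG_mul iee ib)) if',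
      h.el_mul idd2 (h.inG_mul iee ib), h.el_mul id' id2, h.el_mul iee ib, h.el_mul ie ie] at this
  · have := ev c22
    have i1 := h.inG_mul idd id2
    have i2 := h.inG_mul (h.inG_mul ie ib) (h.inG_mul ic ic)
    rw [h.el_mul if' id2, h.el_mul (h.inG_mul i1 i2) if', h.el_mul i1 i2, h.el_mul idd id2,
      h.el_mul id' id', h.el_mul (h.inG_mul ie ib) (h.inG_mul ic ic), h.el_mul ie ib, h.el_mul ic ic] at this
    exact this
  · have := ev c23; rwa [h.el_mul ie ia, h.el_mul ia ie] at this
  · have := ev c24; rwa [h.el_mul ie ib, h.el_mul ib ie] at this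
  · have := ev c25
    rw [h.el_mul ia id', h.el_mul (h.inG_mul ic id') ia, h.el_mul ic id'] at this
    rw [commutatorElement_def, this]
    simp only [scalGen]
    group
  · have := ev c26
    rwa [h.el_mul id' ie, h.el_mul (h.inG_mul (h.inG_mul ie ia) ic) id',
      h.el_mul (h.inG_mul ie ia) ic, h.el_mul ie ia] at this
  · have := ev c27
    have i1 := h.inG_mul (h.inG_mul iee ia) ib
    have i2 := h.inG_mul id2 id'
    rwa [h.el_mul id' id2, h.el_mul i1 i2, h.el_mul (h.inG_mul iee ia) ib, h.el_mul iee ia, h.el_mul ie ie,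
      h.el_mul id2 id'] at this

theorem card_three (h : Fld F ω) : 3 ^ 6 ≤ Nat.card (Subgroup.closure
    ({scalGen ω, el ω cA1, el ω cA2, el ω cE, el ω cD1, el ω cD2} : Set (threeJ3 F ω))) := by
  have e := sylowThree_eq
  simp only [sylowOk, Bool.and_eq_true] at e
  obtain ⟨⟨⟨⟨⟨e0, eg⟩, ep⟩, -⟩, es⟩, ei⟩ := e
  have c := threeOk_eq
  simp only [threeOk, Bool.and_eq_true] at c
  have hg6 := c.2
  set K := Subgroup.closure
    ({scalGen ω, el ω cA1, el ω cA2, el ω cE, el ω cD1, el ω cD2} : Set (threeJ3 F ω))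
  have hK : ∀ g < 6, InSub K (dval (tab 31 threeGens g)) := by
    intro g hg'
    have := Nat.eq_of_beq_eq_true (all_range hg6 hg')
    refine ⟨(h.dval_spec (all_range eg hg')).1, ?_⟩
    rw [this]
    apply Subgroup.subset_closure
    interval_cases g <;> simp [scalGen]
  have hl : ∀ i, i < 729 → InSub K (getM threeList i) := by
    intro i
    induction i using Nat.strong_induction_on with
    | _ i ih =>
      intro hi
      rcases i with _ | i
      · rw [Nat.eq_of_beq_eq_true e0]; exact h.inSub_idM _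
      · have c := all_range ep (show i < 729 - 1 by omega)
        simp only [Bool.and_eq_true] at c
        obtain ⟨⟨c1, c2⟩, c3⟩ := c
        rw [Nat.eq_of_beq_eq_true c3]
        exact h.inSub_mul (hK _ (blt_lt c2)) (ih _ (blt_lt c1) ((blt_lt c1).trans_le hi.le))
  have hmono : ∀ b, b < 729 → ∀ a < b,
      getM threeList (tab 10 threeSort a) < getM threeList (tab 10 threeSort b) := by
    intro b
    induction b with
    | zero => intro _ a ha; omega
    | succ b ih =>
      intro hb a ha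
      have c : getM threeList (tab 10 threeSort b) < getM threeList (tab 10 threeSort (b + 1)) :=
        blt_lt (all_range ei (show b < 729 - 1 by omega))
      rcases Nat.lt_succ_iff_lt_or_eq.1 ha with ha | rfl
      · exact (ih (by omega) a ha).trans c
      · exact c
  have hs : ∀ a : Fin 729, tab 10 threeSort a < 729 := fun a => blt_lt (all_range es a.2)
  have hinj : Function.Injective fun a : Fin 729 =>
      (⟨el ω (getM threeList (tab 10 threeSort a)), (hl _ (hs a)).2⟩ : K) := by
    intro a b hab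
    have e := h.el_inj (hl _ (hs a)).1 (hl _ (hs b)).1 (getM_lt _ _) (getM_lt _ _)
      (congrArg Subtype.val hab)
    rcases lt_trichotomy a.val b.val with hlt | heq | hlt
    · exact absurd e (hmono _ b.2 _ hlt).ne
    · exact Fin.ext heq
    · exact absurd e (hmono _ a.2 _ hlt).ne'
  simpa using Nat.card_le_card_of_injective _ hinj

theorem conj_zT (h : Fld F ω) {x : threeJ3 F ω} (hx : x * x = 1) (hne : x ≠ 1) : IsConj (zT ω) x := by
  have hord : orderOf (QuotientGroup.mk' (Subgroup.center (threeJ3 F ω)) x) = 2 := by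
    haveI := Fact.mk Nat.prime_two
    refine orderOf_eq_prime (by rw [pow_two, ← map_mul, hx, map_one]) fun e => hne ?_
    rw [QuotientGroup.mk'_apply, QuotientGroup.eq_one_iff] at e
    have h3 : x ^ 3 = 1 := by
      have := pow_card_eq_one' (x := (⟨x, e⟩ : Subgroup.center (threeJ3 F ω)))
      rw [h.card_center] at this
      exact congrArg Subtype.val this
    rwa [pow_three', hx, one_mul] at h3
  obtain ⟨g, hg⟩ := isConj_iff.1 (conj_zJ h _ hord)
  obtain ⟨g, rfl⟩ := QuotientGroup.mk'_surjective _ g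
  rw [zJ, ← map_inv, ← map_mul, ← map_mul] at hg
  obtain ⟨s, hs, e⟩ := (QuotientGroup.mk'_eq_mk' _).1 hg
  refine isConj_iff.2 ⟨g, ?_⟩
  have hv : g * zT ω * g⁻¹ * (g * zT ω * g⁻¹) = 1 := by
    rw [show g * zT ω * g⁻¹ * (g * zT ω * g⁻¹) = g * (zT ω * zT ω) * g⁻¹ by group, zT_sq h, mul_one,
      mul_inv_cancel]
  have hs2 : s * s = 1 := by
    have h2 := hx
    rw [← e, Commute.mul_mul_mul_comm (Subgroup.mem_center_iff.1 hs (g * zT ω * g⁻¹)).symm, hv, one_mul] at h2
    exact h2
  have hs3 : s ^ 3 = 1 := by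
    have := pow_card_eq_one' (x := (⟨s, hs⟩ : Subgroup.center (threeJ3 F ω)))
    rw [h.card_center] at this
    exact congrArg Subtype.val this
  have : s = 1 := by rwa [pow_three', hs2, one_mul] at hs3
  rw [← e, this, mul_one]

theorem rel_map {G G' : Type*} [Group G] [Group G'] (e : G ≃* G') {c a1 a2 q d1 d2 t r f : G}
    (R : Lift.Rel c a1 a2 q d1 d2 t r f) :
    Lift.Rel (e c) (e a1) (e a2) (e q) (e d1) (e d2) (e t) (e r) (e f) where
  hc3 := by rw [← map_pow, R.hc3, map_one]
  a1_3 := by rw [← map_pow, R.a1_3, map_one]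
  a2_3 := by rw [← map_pow, R.a2_3, map_one]
  e3 := by rw [← map_pow, R.e3, map_one]
  d1_3 := by rw [← map_pow, R.d1_3]
  t2 := by rw [← map_pow, R.t2, map_one]
  r4 := by rw [← map_pow, R.r4, map_one]
  f8 := by rw [← map_pow, R.f8, map_one]
  ta1 := by simpa using congrArg e R.ta1
  ta2 := by simpa using congrArg e R.ta2
  td1 := by simpa using congrArg e R.td1
  te := R.te.map e
  cc := fun x => by simpa using (R.cc (e.symm x)).map e
  tr := R.tr.map e
  tf := R.tf.map e
  ra1 := by simpa using congrArg e R.ra1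
  ra2 := by simpa using congrArg e R.ra2
  rd1 := by simpa using congrArg e R.rd1
  re := R.re.map e
  fe := by simpa using congrArg e R.fe
  fa1 := by simpa using congrArg e R.fa1
  fa2 := by simpa using congrArg e R.fa2
  fd1 := by simpa using congrArg e R.fd1
  fd2 := by simpa using congrArg e R.fd2
  ea1 := R.ea1.map e
  ea2 := R.ea2.map e
  a1d1 := by rw [← map_commutatorElement, R.a1d1]
  d1e := by simpa using congrArg e R.d1e
  d1d2 := by simpa using congrArg e R.d1d2

theorem card_closure_map {G G' : Type*} [Group G] [Group G'] (e : G ≃* G') (S : Set G) :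
    Nat.card (Subgroup.closure S) = Nat.card (Subgroup.closure (e '' S)) := by
  have h : (Subgroup.closure S).map e.toMonoidHom = Subgroup.closure (e '' S) := MonoidHom.map_closure _ _
  rw [← h, Subgroup.card_map_of_injective e.injective]

/-- Every small model of the triple cover has trivial multiplier. -/
theorem trivial_multiplier (h : Fld F ω) (G : Type) [Group G] [Finite G] (e : threeJ3 F ω ≃* G) :
    Cfsg.HasCyclicSchurMultiplier G 1 := by
  have hcard : Nat.card G = 150698880 := by rw [← Nat.card_congr e.toEquiv, h.card_threeJ3]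
  have hfac : (Nat.card G).factorization 2 = 7 ∧ (Nat.card G).factorization 3 = 6 := by
    rw [hcard, show (150698880 : ℕ) = 2 ^ 7 * 1177335 by norm_num]
    refine ⟨?_, ?_⟩
    · rw [Nat.factorization_mul (by norm_num) (by norm_num), Finsupp.add_apply,
        Nat.Prime.factorization_pow Nat.prime_two,
        Nat.factorization_eq_zero_of_not_dvd (show ¬ 2 ∣ 1177335 by norm_num)]
      simp
    · rw [show 2 ^ 7 * 1177335 = 3 ^ 6 * 206720 by norm_num,
        Nat.factorization_mul (by norm_num) (by norm_num), Finsupp.add_apply,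
        Nat.Prime.factorization_pow Nat.prime_three,
        Nat.factorization_eq_zero_of_not_dvd (show ¬ 3 ∣ 206720 by norm_num)]
      simp
  refine trivial_of_criteria (fun Γ _ _ σ hc hσ hex P => ?_) (fun p hp hp2 hpG Γ _ _ σ hc hσ P => ?_)
  · obtain ⟨x2, t2, u2, tu, g3, gx, gt, gu, hz, z2, zx, gz, -, -, -, zt, zu, hne⟩ := twoRel h
    set v := e (zT ω) with hv
    have conjv : ∀ y : threeJ3 F ω, y * y = 1 → y ≠ 1 → IsConj v (e y) := fun y h2 hne' =>
      MonoidHom.map_isConj e.toMonoidHom (conj_zT h h2 hne')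
    have hv2 : v * v = 1 := by rw [hv, ← map_mul, zT_sq h, map_one]
    have sq : ∀ {a b : threeJ3 F ω}, Commute a b → a * a = 1 → b * b = 1 → a * b * (a * b) = 1 :=
      fun hab ha hb => by rw [hab.symm.mul_mul_mul_comm, ha, hb, one_mul]
    have hgood : Good σ v := by
      refine good_of_class hc hσ hex hv2 (x := e (qT ω 1)) (y := e (el ω (Cent.hc 1))) (w := e (el ω (Cent.hc 59)))
        (conjv _ z2 (hne _ (by simp))) (conjv _ t2 (hne _ (by simp))) (conjv _ u2 (hne _ (by simp))) ?_ ?_ ?_ ?_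
      all_goals simp only [← map_mul]
      · exact conjv _ (sq zt z2 t2) (hne _ (by simp))
      · exact conjv _ (sq zu z2 u2) (hne _ (by simp))
      · exact conjv _ (sq tu t2 u2) (hne _ (by simp))
      · exact conjv _ (sq (zu.mul_left tu) (sq zt z2 t2) u2) (hne _ (by simp))
    have hall : ∀ y : G, y * y = 1 → Good σ y := by
      intro y hy
      by_cases h1 : y = 1
      · subst h1; exact fun Y hY => hex Y hY
      · obtain ⟨y, rfl⟩ := e.surjective y
        have hy' : y * y = 1 := e.injective (by rw [map_mul, map_one, hy])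
        obtain ⟨g, hg⟩ := isConj_iff.1 (conjv y hy' fun hh => h1 (by rw [hh, map_one]))
        exact hg ▸ good_conj hc hσ hgood g
    refine Lift.two_pairwise hc hσ hex hall (x := e (qT ω 2)) (t := e (el ω (Cent.hc 1)))
      (u := e (el ω (Cent.hc 59))) (g := e (el ω (Cent.hc 28))) (z := e (qT ω 1))
      (by rw [← map_mul, x2, map_one]) (by rw [← map_mul, t2, map_one]) (by rw [← map_mul, u2, map_one])
      (tu.map e) (by rw [← map_pow, g3, map_one]) (by rw [← map_mul, gx, map_mul])
      (by rw [← map_mul, gt, map_mul]) (by rw [← map_mul, gu, map_mul, map_mul])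
      (by simp only [← map_mul]; rw [hz]) (by rw [← map_mul, z2, map_one]) (zx.map e) (gz.map e) ?_ hfac.1 P
    refine (card_two h).trans (le_of_eq ?_)
    rw [card_closure_map e, Set.image_insert_eq, Set.image_pair]
  · by_cases h3 : p = 3
    · subst h3
      refine Lift.three_rel hc hσ (rel_map e (threeRel h)) ?_ hfac.2 P
      refine (card_three h).trans (le_of_eq ?_)
      rw [card_closure_map e]
      simp only [Set.image_insert_eq, Set.image_singleton]
    · refine cyclic_criterion hc hσ (fun hp' => ?_) P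
      rw [hcard, show (150698880 : ℕ) = 2 ^ 7 * 3 ^ 6 * (5 * 17 * 19) by norm_num] at hp'
      have hpp := hp.out
      have co : ∀ {q k : ℕ}, q.Prime → p ≠ q → Nat.Coprime (p ^ 2) (q ^ k) := fun hq hne' =>
        Nat.Coprime.pow _ _ ((Nat.coprime_primes hpp hq).2 hne')
      have h2 : p ^ 2 ∣ 5 * 17 * 19 :=
        (Nat.Coprime.mul_right (co Nat.prime_two hp2) (co Nat.prime_three h3)).dvd_of_dvd_mul_left hp'
      have hle : p ^ 2 ≤ 5 * 17 * 19 := Nat.le_of_dvd (by norm_num) h2
      have : p ≤ 40 := by nlinarith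
      interval_cases p <;> first
        | (norm_num at h2; done)
        | (norm_num at hpp; done)

theorem scalGen_mem_commutator (h : Fld F ω) : scalGen ω ∈ commutator (threeJ3 F ω) := by
  rw [← (threeRel h).a1d1, commutator_def]
  exact Subgroup.commutator_mem_commutator (Subgroup.mem_top _) (Subgroup.mem_top _)

end Cfsg.Agent.Lib.J3.Mult
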