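import Cfsg.Agent.Lib.J3.Cosets

/-!
The order of the triple cover of the third Janko group.
-/

set_option autoImplicit false
set_option linter.unusedSectionVars false

namespace Cfsg.Agent.Lib.J3

open Cfsg.Spor
open scoped MatrixGroups

variable {F : Type*} [Field F] [Finite F] {ω : F}

theorem Fld.el_inj (h : Fld F ω) {a b : ℕ} (ha : InG ω a) (hb : InG ω b) (ha' : a < 2 ^ 162)
    (hb' : b < 2 ^ 162) (e : el ω a = el ω b) : a = b :=
  toMat_inj h ha' hb' (by rw [← el_val ha, ← el_val hb, e])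

theorem Fld.el_ne_one (h : Fld F ω) {a : ℕ} (ha : InG ω a) (ha' : a < 2 ^ 162) (hne : a ≠ idM) :
    el ω a ≠ 1 := fun e =>
  hne (h.el_inj ha h.inG_idM ha' (by decide +kernel) (e.trans h.el_idM.symm))

theorem getM_lt (P i : ℕ) : getM P i < 2 ^ 162 :=
  lt_of_le_of_lt Nat.and_le_right (Nat.sub_lt (Nat.two_pow_pos _) Nat.one_pos)

theorem Fld.stab_spec (h : Fld F ω) {i t : ℕ} (hi : i < 27) (ht : t < stabCount.getD (i + 1) 0) :
    stabCount.getD (i + 1) 0 * orbitSize.getD (i + 1) 0 = 6480 ∧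
    ∃ u v, u = tab 26 stabTab (stabOff (i + 1) + t) / 8192 ∧ u < 6480 ∧ v < 6480 ∧
      el ω (he u) * rep ω (i + 1) = rep ω (i + 1) * el ω (he v) ∧
      (t = 0 ∨ he (tab 26 stabTab (stabOff (i + 1) + t - 1) / 8192) < he u) := by
  have e := all_range stabOk_eq hi
  rw [Bool.and_eq_true] at e
  refine ⟨Nat.eq_of_beq_eq_true e.1, ?_⟩
  have e' := all_range e.2 ht
  simp only [Bool.and_eq_true, Bool.or_eq_true] at e'
  obtain ⟨⟨⟨e1, e2⟩, e3⟩, e4⟩ := e'
  refine ⟨_, _, rfl, blt_lt e1, blt_lt e2, ?_, e4.imp Nat.eq_of_beq_eq_true blt_lt⟩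
  have a := h.inG_he (blt_lt e1)
  have b := h.inG_tr (show i + 1 < 28 by omega)
  have c := h.inG_he (blt_lt e2)
  rw [rep, ← h.el_mul a b, ← h.el_mul b c, Nat.eq_of_beq_eq_true e3]

theorem Fld.card_orbit_le (h : Fld F ω) {i : ℕ} (hi : i < 28) :
    Nat.card (MulAction.orbit (lineGp ω) (rep ω i : threeJ3 F ω ⧸ lineGp ω)) ≤ orbitSize.getD i 0 := by
  rcases i with _ | i
  · rw [orbitSize_sum.1]
    have hsub : MulAction.orbit (lineGp ω) (rep ω 0 : threeJ3 F ω ⧸ lineGp ω) ⊆
        {((1 : threeJ3 F ω) : threeJ3 F ω ⧸ lineGp ω)} := by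
      rintro _ ⟨u, rfl⟩
      rw [h.rep_zero]
      exact QuotientGroup.eq.2 (by simpa using inv_mem u.2)
    calc _ ≤ Nat.card ({((1 : threeJ3 F ω) : threeJ3 F ω ⧸ lineGp ω)} :
          Set (threeJ3 F ω ⧸ lineGp ω)) := Nat.card_mono (Set.finite_singleton _) hsub
      _ = 1 := by simp
  · set n := stabCount.getD (i + 1) 0 with hn
    have hi' : i < 27 := by omega
    have hn0 : 0 < n := by
      rcases Nat.eq_zero_or_pos n with h0 | h0
      · have e := all_range stabOk_eq hi'
        rw [Bool.and_eq_true] at e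
        have := Nat.eq_of_beq_eq_true e.1
        rw [← hn, h0, zero_mul] at this
        norm_num at this
      · exact h0
    have hmul := (h.stab_spec hi' hn0).1
    set z : threeJ3 F ω ⧸ lineGp ω := QuotientGroup.mk (rep ω (i + 1)) with hz
    choose u v hu hu' hv' heq hlt using fun t : Fin n => (h.stab_spec hi' t.2).2
    have hmem : ∀ t, (⟨el ω (he (u t)), h.el_he_mem (hu' t)⟩ : lineGp ω) ∈
        MulAction.stabilizer (lineGp ω) z := fun t => by
      rw [MulAction.mem_stabilizer_iff, hz]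
      show ((el ω (he (u t)) * rep ω (i + 1) : threeJ3 F ω) : threeJ3 F ω ⧸ lineGp ω) = _
      rw [heq t, QuotientGroup.eq]
      simpa using inv_mem (h.el_he_mem (hv' t))
    have hmono : StrictMono fun t : Fin n => he (u t) := by
      obtain ⟨m, hm⟩ : ∃ m, n = m + 1 := ⟨n - 1, by omega⟩
      have hstep : ∀ (a : ℕ) (ha : a + 1 < n), he (u ⟨a, by omega⟩) < he (u ⟨a + 1, ha⟩) := fun a ha => by
        have := (hlt ⟨a + 1, ha⟩).resolve_left (by simp)
        rw [hu ⟨a, _⟩]
        simpa using this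
      intro a b hab
      obtain ⟨a, ha⟩ := a
      obtain ⟨b, hb⟩ := b
      have hab' : a < b := hab
      clear hab
      induction b, hab' using Nat.le_induction with
      | base => exact hstep a hb
      | succ b _ ih => exact (ih (by omega)).trans (hstep b hb)
    have hlt2 : ∀ t, he (u t) < 2 ^ 162 := fun t => mul_lt _ _
    have hinj : Function.Injective fun t => (⟨_, hmem t⟩ : MulAction.stabilizer (lineGp ω) z) :=
      fun s t est => hmono.injective (h.el_inj (h.inG_he (hu' s)) (h.inG_he (hu' t)) (hlt2 s) (hlt2 t)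
        (congrArg (fun x : MulAction.stabilizer (lineGp ω) z => ((x : lineGp ω) : threeJ3 F ω)) est))
    have h1 : n ≤ Nat.card (MulAction.stabilizer (lineGp ω) z) := by
      simpa using Nat.card_le_card_of_injective _ hinj
    have h2 : Nat.card (MulAction.orbit (lineGp ω) z) * n ≤ 6480 := by
      refine le_trans ?_ h.card_lineGp_le
      rw [← Subgroup.index_mul_card (MulAction.stabilizer (lineGp ω) z), MulAction.index_stabilizer,
        Nat.card_coe_set_eq]
      exact Nat.mul_le_mul_left _ h1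
    rw [← hmul, mul_comm n] at h2
    exact Nat.le_of_mul_le_mul_right h2 hn0

theorem Fld.index_le (h : Fld F ω) : (lineGp ω).index ≤ 23256 := by
  haveI : Fintype F := Fintype.ofFinite F
  let f : (Σ i : Fin 28, MulAction.orbit (lineGp ω) (rep ω i.val : threeJ3 F ω ⧸ lineGp ω)) →
      threeJ3 F ω ⧸ lineGp ω := fun x => x.2.1
  have hf : Function.Surjective f := by
    intro q
    obtain ⟨g, rfl⟩ := QuotientGroup.mk_surjective q
    obtain ⟨u, hu, i, hi, v, hv, rfl⟩ := h.mem_dset g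
    refine ⟨⟨⟨i, hi⟩, _, ⟨⟨u, hu⟩, rfl⟩⟩, ?_⟩
    show ((u * rep ω i : threeJ3 F ω) : threeJ3 F ω ⧸ lineGp ω) = _
    rw [QuotientGroup.eq]
    simpa [mul_assoc] using hv
  rw [Subgroup.index_eq_card, ← orbitSize_sum.2]
  refine (Nat.card_le_card_of_surjective f hf).trans ?_
  rw [Nat.card_sigma]
  exact Finset.sum_le_sum fun i _ => h.card_orbit_le i.2

theorem Fld.card_le (h : Fld F ω) : Nat.card (threeJ3 F ω) ≤ 150698880 := by
  rw [← Subgroup.index_mul_card (lineGp ω)]
  exact Nat.mul_le_mul h.index_le h.card_lineGp_le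

theorem Fld.sylow_card (h : Fld F ω) {k n gens lst par act srt : ℕ} (hn : 0 < n)
    (e : sylowOk k n gens lst par act srt = true) : n ∣ Nat.card (threeJ3 F ω) := by
  simp only [sylowOk, Bool.and_eq_true] at e
  obtain ⟨⟨⟨⟨⟨e0, eg⟩, ep⟩, ea⟩, es⟩, ei⟩ := e
  have hg' : ∀ g < k, InG ω (dval (tab 31 gens g)) := fun g hg' => (h.dval_spec (all_range eg hg')).1
  set K := Subgroup.closure (Set.range fun g : Fin k => el ω (dval (tab 31 gens g))) with hK
  have hl : ∀ i, i < n → InSub K (getM lst i) := by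
    intro i
    induction i using Nat.strong_induction_on with
    | _ i ih =>
      intro hi
      rcases i with _ | i
      · rw [Nat.eq_of_beq_eq_true e0]; exact h.inSub_idM _
      · have c := all_range ep (show i < n - 1 by omega)
        simp only [Bool.and_eq_true] at c
        obtain ⟨⟨c1, c2⟩, c3⟩ := c
        rw [Nat.eq_of_beq_eq_true c3]
        exact h.inSub_mul ⟨hg' _ (blt_lt c2), Subgroup.subset_closure ⟨⟨_, blt_lt c2⟩, rfl⟩⟩
          (ih _ (blt_lt c1) ((blt_lt c1).trans_le hi.le))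
  have hsurj : ∀ x ∈ K, ∃ i < n, x = el ω (getM lst i) := by
    refine closure_subset_left (S := {x | ∃ i < n, x = el ω (getM lst i)})
      ⟨0, hn, by rw [Nat.eq_of_beq_eq_true e0, h.el_idM]⟩ ?_
    rintro _ ⟨g, rfl⟩ _ ⟨i, hi, rfl⟩
    have c := all_range (all_range ea g.2) hi
    rw [Bool.and_eq_true] at c
    exact ⟨_, blt_lt c.1, by rw [← Nat.eq_of_beq_eq_true c.2, h.el_mul (hg' _ g.2) (hl i hi).1]⟩
  have hmono : ∀ b, b < n → ∀ a < b, getM lst (tab 10 srt a) < getM lst (tab 10 srt b) := by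
    intro b
    induction b with
    | zero => intro _ a ha; omega
    | succ b ih =>
      intro hb a ha
      have c : getM lst (tab 10 srt b) < getM lst (tab 10 srt (b + 1)) :=
        blt_lt (all_range ei (show b < n - 1 by omega))
      rcases Nat.lt_succ_iff_lt_or_eq.1 ha with ha | rfl
      · exact (ih (by omega) a ha).trans c
      · exact c
  have hs : ∀ a : Fin n, tab 10 srt a < n := fun a => blt_lt (all_range es a.2)
  have hge : n ≤ Nat.card K := by
    have hinj : Function.Injective fun a : Fin n =>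
        (⟨el ω (getM lst (tab 10 srt a)), (hl _ (hs a)).2⟩ : K) := by
      intro a b hab
      have e := h.el_inj (hl _ (hs a)).1 (hl _ (hs b)).1 (getM_lt _ _) (getM_lt _ _)
        (congrArg Subtype.val hab)
      rcases lt_trichotomy a.val b.val with hlt | heq | hlt
      · exact absurd e (hmono _ b.2 _ hlt).ne
      · exact Fin.ext heq
      · exact absurd e (hmono _ a.2 _ hlt).ne'
    simpa using Nat.card_le_card_of_injective _ hinj
  have hle : Nat.card K ≤ n := by
    choose f hf hf' using fun x : K => hsurj x x.2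
    simpa using Nat.card_le_card_of_injective (fun x => (⟨f x, hf x⟩ : Fin n)) fun x y hxy =>
      Subtype.ext (by rw [hf' x, hf' y, show f x = f y from congrArg Fin.val hxy])
  rw [← le_antisymm hle hge]
  exact Subgroup.card_subgroup_dvd_card K

theorem Fld.inG_scal (h : Fld F ω) (s : ℕ) : InG ω (scal s) := by
  unfold scal
  split_ifs
  · exact h.inG_idM
  · exact h.inG_omega
  · exact h.inG_mul h.inG_omega h.inG_omega

/-- The scalar of order three. -/
noncomputable def scalGen (ω : F) : threeJ3 F ω := el ω (hg 0)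

theorem Fld.scalGen_cube (h : Fld F ω) : scalGen ω ^ 3 = 1 := by
  have e := elems_eq.2.2.2.2.2.2.2.2.2.2
  rw [cube] at e
  have := congrArg (el ω) e
  rwa [h.el_mul (h.inG_mul h.inG_omega h.inG_omega) h.inG_omega, h.el_mul h.inG_omega h.inG_omega,
    h.el_idM, ← pow_two, ← pow_succ] at this

theorem Fld.el_scal (h : Fld F ω) (s : ℕ) : ∃ m : ℕ, el ω (scal s) = scalGen ω ^ m := by
  unfold scal
  split_ifs
  · exact ⟨0, by rw [h.el_idM, pow_zero]⟩
  · exact ⟨1, (pow_one _).symm⟩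
  · exact ⟨2, by rw [h.el_mul h.inG_omega h.inG_omega, pow_two]; rfl⟩

theorem Fld.el_cube (h : Fld F ω) {m : ℕ} (hm : InG ω m) : el ω (cube m) = el ω m ^ 3 := by
  rw [cube, h.el_mul (h.inG_mul hm hm) hm, h.el_mul hm hm, ← pow_two, ← pow_succ]

theorem Fld.el_pow19 (h : Fld F ω) {m : ℕ} (hm : InG ω m) : el ω (pow19 m) = el ω m ^ 19 := by
  have h2 := h.inG_mul hm hm
  have h4 := h.inG_mul h2 h2
  have h8 := h.inG_mul h4 h4
  have h16 := h.inG_mul h8 h8
  simp only [pow19, h.el_mul (h.inG_mul h16 h2) hm, h.el_mul h16 h2, h.el_mul h8 h8, h.el_mul h4 h4,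
    h.el_mul h2 h2, h.el_mul hm hm]
  simp only [pow_succ, pow_zero, one_mul, mul_assoc]

theorem Fld.el_pow17 (h : Fld F ω) {m : ℕ} (hm : InG ω m) : el ω (pow17 m) = el ω m ^ 17 := by
  have h2 := h.inG_mul hm hm
  have h4 := h.inG_mul h2 h2
  have h8 := h.inG_mul h4 h4
  have h16 := h.inG_mul h8 h8
  simp only [pow17, h.el_mul h16 hm, h.el_mul h8 h8, h.el_mul h4 h4, h.el_mul h2 h2, h.el_mul hm hm]
  simp only [pow_succ, pow_zero, one_mul, mul_assoc]

theorem Fld.el_pow5 (h : Fld F ω) {m : ℕ} (hm : InG ω m) : el ω (pow5 m) = el ω m ^ 5 := by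
  have h2 := h.inG_mul hm hm
  have h4 := h.inG_mul h2 h2
  simp only [pow5, h.el_mul h4 hm, h.el_mul h2 h2, h.el_mul hm hm]
  simp only [pow_succ, pow_zero, one_mul, mul_assoc]

theorem Fld.inG_hxh (h : Fld F ω) {l : List ℕ} (hl : ∀ k < 3, l.getD k 0 < 6480) : InG ω (hxh l) := by
  have t1 := h.inG_tr (show 1 < 28 by norm_num)
  exact h.inG_mul (h.inG_mul (h.inG_mul (h.inG_mul (h.inG_he (hl 0 (by norm_num))) t1)
    (h.inG_he (hl 1 (by norm_num)))) t1) (h.inG_he (hl 2 (by norm_num)))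

theorem dvd_orderOf {G : Type*} [Group G] {u c : G} {p m : ℕ} (hp : p.Prime) (hc : c ^ 3 = 1)
    (hu : u ^ p = c ^ m) (h3 : u ^ 3 ≠ 1) : p ∣ orderOf u := by
  by_contra hn
  have h1 : orderOf u ∣ p * 3 := orderOf_dvd_of_pow_eq_one (by
    rw [pow_mul, hu, ← pow_mul, mul_comm, pow_mul, hc, one_pow])
  exact h3 (orderOf_dvd_iff_pow_eq_one.1
    (((hp.coprime_iff_not_dvd.2 hn).symm).dvd_of_dvd_mul_left h1))

theorem split_spec {g : ℕ} (hg' : g < 7) :
    let e := splitTab.getD g ([], 0, 0, 0)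
    (∀ k < 3, e.1.getD k 0 < 6480) ∧ mul (hxh e.1) e.2.1 = genElem g ∧
      pow19 (hxh e.1) = scal e.2.2.1 ∧ pow19 e.2.1 = scal e.2.2.2 := by
  intro e
  have c := all_range splitOk_eq hg'
  simp only [Bool.and_eq_true] at c
  obtain ⟨⟨⟨⟨⟨c1, c2⟩, -⟩, -⟩, c3⟩, c4⟩ := c
  refine ⟨fun k _ => ?_, Nat.eq_of_beq_eq_true c2, Nat.eq_of_beq_eq_true c3, Nat.eq_of_beq_eq_true c4⟩
  rw [List.getD_eq_getElem?_getD]
  cases hk : e.1[k]? with
  | none => simp
  | some v => exact blt_lt (List.all_eq_true.1 c1 v (List.mem_of_getElem? hk))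

theorem Fld.card_threeJ3 (h : Fld F ω) : Nat.card (threeJ3 F ω) = 150698880 := by
  refine le_antisymm h.card_le (Nat.le_of_dvd Nat.card_pos ?_)
  obtain ⟨c17l, -, c17, c17', c19', c5, c5', c5'', -⟩ := elems_eq
  have h128 : 128 ∣ Nat.card (threeJ3 F ω) := h.sylow_card (by norm_num) sylowTwo_eq
  have h729 : 729 ∣ Nat.card (threeJ3 F ω) := h.sylow_card (by norm_num) sylowThree_eq
  have h5 : 5 ∣ Nat.card (threeJ3 F ω) := by
    haveI := Fact.mk Nat.prime_five
    rw [← orderOf_eq_prime (x := el ω (he five)) (p := 5)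
      (by rw [← h.el_pow5 (h.inG_he c5), c5', h.el_idM])
      (h.el_ne_one (h.inG_he c5) (mul_lt _ _) c5'')]
    exact orderOf_dvd_natCard _
  have h17 : 17 ∣ Nat.card (threeJ3 F ω) := by
    have hm := h.inG_hxh c17l
    obtain ⟨m, em⟩ := h.el_scal (seventeen.getD 3 0)
    refine (dvd_orderOf (m := m) (by norm_num) h.scalGen_cube ?_ ?_).trans (orderOf_dvd_natCard (el ω (hxh seventeen)))
    · rw [← h.el_pow17 hm, c17, em]
    · rw [← h.el_cube hm]
      exact h.el_ne_one (by rw [cube]; exact h.inG_mul (h.inG_mul hm hm) hm) (mul_lt _ _) c17'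
  have h19 : 19 ∣ Nat.card (threeJ3 F ω) := by
    obtain ⟨sl, -, s19, -⟩ := split_spec (g := 0) (by norm_num)
    have hm := h.inG_hxh sl
    obtain ⟨m, em⟩ := h.el_scal (splitTab.getD 0 ([], 0, 0, 0)).2.2.1
    refine (dvd_orderOf (m := m) (by norm_num) h.scalGen_cube ?_ ?_).trans
      (orderOf_dvd_natCard (el ω (hxh (splitTab.getD 0 ([], 0, 0, 0)).1)))
    · rw [← h.el_pow19 hm, s19, em]
    · rw [← h.el_cube hm]
      exact h.el_ne_one (by rw [cube]; exact h.inG_mul (h.inG_mul hm hm) hm) (mul_lt _ _) c19'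
  have a := Nat.Coprime.mul_dvd_of_dvd_of_dvd (by norm_num) h128 h729
  have b := Nat.Coprime.mul_dvd_of_dvd_of_dvd (by norm_num) a h5
  have c := Nat.Coprime.mul_dvd_of_dvd_of_dvd (by norm_num) b h17
  have d := Nat.Coprime.mul_dvd_of_dvd_of_dvd (by norm_num) c h19
  norm_num at d
  exact d

theorem Fld.index_eq (h : Fld F ω) : (lineGp ω).index = 23256 ∧ Nat.card (lineGp ω) = 6480 := by
  have e := Subgroup.index_mul_card (lineGp ω)
  rw [h.card_threeJ3] at e
  have a := h.index_le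
  have b := h.card_lineGp_le
  constructor <;> by_contra hne
  · exact absurd e (ne_of_lt (lt_of_le_of_lt (Nat.mul_le_mul_left _ b)
      (Nat.mul_lt_mul_of_pos_right (lt_of_le_of_ne a hne) (by norm_num))))
  · exact absurd e (ne_of_lt (lt_of_le_of_lt (Nat.mul_le_mul_right _ a)
      (Nat.mul_lt_mul_of_pos_left (lt_of_le_of_ne b hne) (by norm_num))))

end Cfsg.Agent.Lib.J3
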