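import Cfsg.Agent.Lib.J3.Simple
import Cfsg.Prelude.Def_Classical
import Cfsg.Prelude.Def_Sporadic

/-!
The triple cover of the third Janko group inside the special unitary group of dimension nine.
-/

set_option autoImplicit false
set_option linter.unusedSectionVars false

namespace Cfsg.Agent.Lib.J3

open Cfsg.Spor Matrix
open scoped MatrixGroups

/-- The conjugate of a digit. -/
def conjD (d : ℕ) : ℕ := if d = 2 then 3 else if d = 3 then 2 else d

/-- One row of the conjugate transpose. -/
def ctRow (a i : ℕ) : ℕ :=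
  (List.range 9).foldr (fun j acc =>
    acc ||| cond (bit' (conjD (dig (row a j) i)) 0) (1 <<< j) 0 |||
      cond (bit' (conjD (dig (row a j) i)) 1) (1 <<< (9 + j)) 0) 0

/-- The conjugate transpose. -/
def ctp (a : ℕ) : ℕ := force a fun a => join (ctRow a)

/-- The matrix is unitary. -/
def unitaryOk (a : ℕ) : Bool :=
  force (ctp a) fun b =>
    (List.range 9).all (fun i => (List.range 9).all fun j =>
      Nat.beq (dig (row b i) j) (conjD (dig (row a j) i))) &&
    Nat.beq (mul b a) idM

theorem unitary_codes : (∀ Z, unitaryOk (codeA Z) = true) ∧ (∀ Z, unitaryOk (codeE Z) = true) ∧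
    (∀ Z, unitaryOk (codeD Z) = true) ∧ (∀ Z : F9, Z ≠ 0 → unitaryOk (codeB Z) = true) ∧
    (∀ Z : F9, Z ≠ 0 → unitaryOk (codeC Z) = true) := by decide +kernel

variable {F : Type*} [Field F] {ω : F}

theorem Fld.sq_add (h : Fld F ω) (a b : F) : (a + b) ^ 2 = a ^ 2 + b ^ 2 := by
  linear_combination (a * b) * h.two

/-- Squaring as a ring homomorphism. -/
def Fld.frob (h : Fld F ω) : F →+* F where
  toFun x := x ^ 2
  map_one' := one_pow 2
  map_mul' a b := mul_pow a b 2
  map_zero' := zero_pow two_ne_zero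
  map_add' := h.sq_add

theorem Fld.phi_conjD (h : Fld F ω) {d : ℕ} (hd : d < 4) : phi ω (conjD d) = phi ω d ^ 2 := by
  interval_cases d <;> simp [conjD, phi_zero, phi_one, phi_two, h.phi_three]
  rw [← pow_mul]
  linear_combination -ω * h.omega_cube

theorem Fld.unitary (h : Fld F ω) {a : ℕ} (ha : unitaryOk a = true) :
    ((toMat ω a).map h.frob)ᵀ * toMat ω a = 1 := by
  rw [unitaryOk, force_eq, Bool.and_eq_true] at ha
  obtain ⟨h1, h2⟩ := ha
  have e : ((toMat ω a).map h.frob)ᵀ = toMat ω (ctp a) := by
    ext i j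
    rw [transpose_apply, map_apply, toMat_apply, toMat_apply,
      Nat.eq_of_beq_eq_true (all_range (all_range h1 (pos_lt i)) (pos_lt j)),
      h.phi_conjD (dig_lt _ _)]
    rfl
  rw [e, ← h.toMat_mul, Nat.eq_of_beq_eq_true h2, h.toMat_idM]

theorem Fld.unitary_gens (h : Fld F ω) {m : Matrix F9 F9 F} (hm : m ∈ j3Gens F ω) :
    (m.map h.frob)ᵀ * m = 1 := by
  obtain ⟨u1, u2, u3, u4, u5⟩ := unitary_codes
  rcases hm with ((((⟨Z, rfl⟩ | ⟨Z, rfl⟩) | ⟨Z, rfl⟩) | ⟨Z, hn, rfl⟩) | ⟨Z, hn, rfl⟩)
  · rw [← h.toMat_codeA]; exact h.unitary (u1 Z)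
  · rw [← h.toMat_codeE]; exact h.unitary (u2 Z)
  · rw [← h.toMat_codeD]; exact h.unitary (u3 Z)
  · rw [← h.toMat_codeB hn]; exact h.unitary (u4 Z hn)
  · rw [← h.toMat_codeC hn]; exact h.unitary (u5 Z hn)

theorem Fld.unitary_mem (h : Fld F ω) {g : GL F9 F} (hg : g ∈ threeJ3 F ω) :
    (g.val.map h.frob)ᵀ * g.val = 1 := by
  induction hg using Subgroup.closure_induction with
  | mem x hx => exact h.unitary_gens hx
  | one =>
    simp [Matrix.map_one]
  | mul x y _ _ hx hy =>
    rw [Units.val_mul, Matrix.map_mul, transpose_mul, Matrix.mul_assoc,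
      ← Matrix.mul_assoc (x.val.map h.frob)ᵀ, hx, Matrix.one_mul, hy]
  | inv x _ hx =>
    have e : (x.val.map h.frob)ᵀ = (x⁻¹ : GL F9 F).val := by
      calc (x.val.map h.frob)ᵀ = (x.val.map h.frob)ᵀ * (x.val * (x⁻¹ : GL F9 F).val) := by
            rw [← Units.val_mul, mul_inv_cancel, Units.val_one, Matrix.mul_one]
        _ = _ := by rw [← Matrix.mul_assoc, hx, Matrix.one_mul]
    calc ((x⁻¹ : GL F9 F).val.map h.frob)ᵀ * (x⁻¹ : GL F9 F).val
        = ((x⁻¹ : GL F9 F).val.map h.frob)ᵀ * (x.val.map h.frob)ᵀ := by rw [e]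
      _ = 1 := by
        rw [← transpose_mul, ← Matrix.map_mul, ← Units.val_mul, mul_inv_cancel, Units.val_one,
          Matrix.map_one _ (map_zero h.frob) (map_one h.frob), transpose_one]

/-- The determinant on the group. -/
def detHom (F : Type*) [Field F] (ω : F) : threeJ3 F ω →* F :=
  Matrix.detMonoidHom.comp ((Units.coeHom _).comp (threeJ3 F ω).subtype)

theorem detHom_apply (g : threeJ3 F ω) : detHom F ω g = (g : GL F9 F).val.det := by
  simp [detHom]

theorem Fld.det_eq_one [Fintype F] (h : Fld F ω) (hF : Fintype.card F = 4) (g : threeJ3 F ω) :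
    (g : GL F9 F).val.det = 1 := by
  have hk : Subgroup.center (threeJ3 F ω) ≤ (detHom F ω).ker := by
    rw [h.center_eq, Subgroup.zpowers_le, MonoidHom.mem_ker]
    rw [detHom_apply]
    rw [scalGen, el_val h.inG_omega, h.toMat_omega, det_smul, det_one, mul_one, Fintype.card_prod,
      ZMod.card, show 3 * 3 = 3 * 3 from rfl, pow_mul, h.omega_cube, one_pow]
  rcases h.normal_cases _ hk with e | e
  · exfalso
    have hinj : Function.Injective fun q : J3 F ω => Quotient.liftOn' q (fun g => detHom F ω g)
        (fun a b hab => by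
          rw [QuotientGroup.leftRel_apply, ← e, MonoidHom.mem_ker] at hab
          have : detHom F ω b = detHom F ω a := by
            have := congrArg (detHom F ω a * ·) hab
            simpa only [← map_mul, mul_inv_cancel_left, mul_one] using this
          exact this.symm) := by
      intro p q
      induction p using QuotientGroup.induction_on with | _ a =>
      induction q using QuotientGroup.induction_on with | _ b =>
      intro hab
      refine QuotientGroup.eq.2 ?_
      rw [← e, MonoidHom.mem_ker]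
      have hab' : detHom F ω a = detHom F ω b := hab
      rw [map_mul, ← hab', ← map_mul, inv_mul_cancel, map_one]
    have := Nat.card_le_card_of_injective _ hinj
    rw [h.card_J3, Nat.card_eq_fintype_card, hF] at this
    norm_num at this
  · have := MonoidHom.mem_ker.1 (e ▸ Subgroup.mem_top g : g ∈ (detHom F ω).ker)
    rw [detHom_apply] at this
    exact this

/-- Positions as an equivalence. -/
def posEquiv : F9 ≃ Fin 9 where
  toFun z := ⟨pos z, pos_lt z⟩
  invFun i := ((i.val / 3 : ℕ), (i.val % 3 : ℕ))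
  left_inv := by intro z; revert z; decide +kernel
  right_inv := by intro i; revert i; decide +kernel

/-- The map to the special linear group. -/
noncomputable def Fld.toSL [Fintype F] (h : Fld F ω) (hF : Fintype.card F = 4) :
    threeJ3 F ω →* Matrix.SpecialLinearGroup (Fin 9) F where
  toFun g := ⟨reindex posEquiv posEquiv (g : GL F9 F).val, by
    rw [det_reindex_self]; exact h.det_eq_one hF g⟩
  map_one' := Subtype.ext (by simp)
  map_mul' a b := Subtype.ext (by
    show reindex posEquiv posEquiv _ = reindex posEquiv posEquiv _ * reindex posEquiv posEquiv _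
    simp [reindex_apply, submatrix_mul_equiv, val_mul])

theorem Fld.toSL_mem [Fintype F] (h : Fld F ω) (hF : Fintype.card F = 4) (g : threeJ3 F ω) :
    h.toSL hF g ∈ Cfsg.SU 9 F 2 := by
  intro u v
  set m := (g : GL F9 F).val with hm
  set M := reindex posEquiv posEquiv m with hM
  show Cfsg.hermForm 9 F 2 (M *ᵥ u) (M *ᵥ v) = _
  have hu : Mᵀ * M.map h.frob = 1 := by
    have := congrArg transpose (h.unitary_mem g.2)
    rw [transpose_mul, transpose_transpose, transpose_one] at this
    rw [hM, reindex_apply, transpose_submatrix, ← submatrix_map, submatrix_mul_equiv, this,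
      submatrix_one_equiv]
  have hf : ∀ x y : Fin 9 → F, Cfsg.hermForm 9 F 2 x y = x ⬝ᵥ (fun i => h.frob (y i)) := fun x y => rfl
  rw [hf, hf]
  have hv : (fun i => h.frob ((M *ᵥ v) i)) = M.map h.frob *ᵥ fun i => h.frob (v i) :=
    funext fun i => RingHom.map_mulVec h.frob M v i
  rw [hv, dotProduct_mulVec, ← mulVec_transpose, mulVec_mulVec]
  have hu' : (M.map h.frob)ᵀ * M = 1 := by
    have := congrArg transpose hu
    rwa [transpose_mul, transpose_transpose, transpose_one] at this
  rw [hu', one_mulVec]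

theorem exists_fld : ∃ (F : Type) (_ : Field F) (_ : Fintype F) (ω : F),
    Fintype.card F = 4 ∧ ω ^ 2 + ω + 1 = 0 := by
  classical
  haveI : Fintype (GaloisField 2 2) := Fintype.ofFinite _
  have hF : Fintype.card (GaloisField 2 2) = 4 := by
    rw [← Nat.card_eq_fintype_card, GaloisField.card 2 2 two_ne_zero]; norm_num
  obtain ⟨x, hx⟩ : ∃ x : GaloisField 2 2, x ∉ ({0, 1} : Finset (GaloisField 2 2)) := by
    by_contra hno
    have := Finset.card_le_card (fun x _ => not_not.1 fun hx => hno ⟨x, hx⟩ :
      (Finset.univ : Finset (GaloisField 2 2)) ⊆ {0, 1})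
    rw [Finset.card_univ, hF] at this
    exact absurd (this.trans Finset.card_le_two) (by norm_num)
  simp only [Finset.mem_insert, Finset.mem_singleton, not_or] at hx
  refine ⟨_, inferInstance, inferInstance, x, hF, ?_⟩
  have h3 : x ^ 3 = 1 := by
    have := FiniteField.pow_card_sub_one_eq_one x hx.1
    rwa [hF] at this
  have : (x - 1) * (x ^ 2 + x + 1) = 0 := by linear_combination h3
  exact (mul_eq_zero.1 this).resolve_left (sub_ne_zero.2 hx.2)

theorem exists_unitary : ∃ (F : Type) (_ : Field F) (_ : Fintype F), Fintype.card F = 4 ∧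
    ∃ H : Subgroup (Cfsg.SU 9 F 2), Nat.card (Subgroup.center H) = 3 ∧
      Cfsg.IsJ3 (H ⧸ Subgroup.center H) := by
  obtain ⟨F, _, _, ω, hF, hω⟩ := exists_fld
  refine ⟨F, inferInstance, inferInstance, hF, ?_⟩
  have h := Fld.of_card hF hω
  let φ : threeJ3 F ω →* Cfsg.SU 9 F 2 := (h.toSL hF).codRestrict _ (h.toSL_mem hF)
  have hinj : Function.Injective φ := fun a b hab => val_inj <|
    (reindex posEquiv posEquiv).injective (congrArg (fun x => ((x : Cfsg.SU 9 F 2).1).1) hab)
  let e : threeJ3 F ω ≃* φ.range := MonoidHom.ofInjective hinj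
  have hc : (Subgroup.center (threeJ3 F ω)).map e.toMonoidHom = Subgroup.center φ.range := by
    ext x
    obtain ⟨g, rfl⟩ := e.surjective x
    simp only [Subgroup.mem_map, Subgroup.mem_center_iff, MulEquiv.coe_toMonoidHom]
    constructor
    · rintro ⟨z, hz, hzg⟩ y
      obtain ⟨y, rfl⟩ := e.surjective y
      rw [← hzg, ← map_mul, hz, map_mul]
    · exact fun hg' => ⟨g, fun y => e.injective (by simp only [map_mul]; exact hg' (e y)), rfl⟩
  refine ⟨φ.range, ?_, ?_, ?_⟩
  · rw [← hc]
    exact (Subgroup.card_map_of_injective e.injective).trans h.card_center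
  · exact (QuotientGroup.congr _ _ e hc).isSimpleGroup_congr.1 h.isSimple
  · rw [← Nat.card_congr (QuotientGroup.congr _ _ e hc).toEquiv]
    exact h.card_J3

end Cfsg.Agent.Lib.J3
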