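import Cfsg.Agent.Lib.J3.MultChecks
import Cfsg.Agent.Lib.J3.Unitary

/-!
Computations for the automorphisms of the third Janko group.
-/

set_option autoImplicit false
set_option maxRecDepth 100000
set_option maxHeartbeats 4000000

namespace Cfsg.Agent.Lib.J3.Outer

open Cfsg.Spor Cfsg.Agent.Lib.J3 Cfsg.Agent.Lib.J3.Cent Cfsg.Agent.Lib.J3.Mult

/-- A power of a code. -/
def pc (a : ℕ) : ℕ → ℕ
  | 0 => idM
  | n + 1 => mul (pc a n) a

/-- An element of the Sylow subgroup. -/
def tl (i : ℕ) : ℕ := getM threeList i

/-- The code of the involutory generator. -/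
def cC : ℕ := codeC (1, 0)

/-- An element carrying the fourth power of the multiplication to the involution of the tables. -/
def cH : ℕ := dval 1263737312

/-- Its inverse. -/
def cH' : ℕ := pc cH 23

/-- A translation carrying the first index to a given one. -/
def trans' (z : F9) : ℕ := mul (pc cD1 z.1.val) (pc cD2 z.2.val)

/-- A row of a matrix has a single nonzero entry. -/
def rowsMono (a : ℕ) : Bool :=
  (List.range 9).all fun i => (List.range 9).all fun j => (List.range 9).all fun k =>
    Nat.beq j k || Nat.beq (dig (row a i) j) 0 || Nat.beq (dig (row a i) k) 0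

/-- Small identities. -/
def relOk : Bool :=
  Nat.beq cR (pc cF 6) && Nat.beq cT' (pc cF 4) && Nat.beq (hg 4) cF && Nat.beq (hg 5) cC &&
    Nat.beq (tr 1) cD1 && Nat.beq (mul cC cC) idM && Nat.beq (mul (mul cC cF) cC) (pc cF 7) &&
    Nat.beq (pc (mul cC cA1) 4) idM && !Nat.beq (pc cF 4) idM && Nat.beq (pc cF 8) idM &&
    dok 1263737312 && Nat.beq (mul cH cH') idM && Nat.beq (mul cH' cH) idM &&
    Nat.beq (mul (pc cF 4) cH) (mul cH zc) &&
    Nat.beq (mul (mul (mul (mul cF cD1) (pc cF 7)) cA1) (mul cD2 cD1)) (mul (mul cD1 cD2) (mul cD1 cD2)) && !Nat.beq (hg 0) (mul (hg 0) (hg 0))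

theorem relOk_eq : relOk = true := by decide +kernel

/-- The elements of order dividing three of the Sylow subgroup are diagonal. -/
def diagOk : Bool :=
  (List.range 729).all fun i => !Nat.beq (cube (tl i)) idM ||
    (List.range 9).all fun a => (List.range 9).all fun b => Nat.beq a b || Nat.beq (dig (row (tl i) a) b) 0

theorem diagOk_eq : diagOk = true := by decide +kernel

/-- Only the first coset representative of the monomial subgroup is monomial. -/
def cosMonoOk : Bool := (List.range 9).all fun j => !rowsMono (getM cosReps (j + 1))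

theorem cosMonoOk_eq : cosMonoOk = true := by decide +kernel

/-- Only the first double coset fixes the first line. -/
def trFixOk : Bool :=
  (List.range 27).all fun i => (List.range 8).any fun w => !Nat.beq (dig (row (tr (i + 1)) (w + 1)) 0) 0

theorem trFixOk_eq : trFixOk = true := by decide +kernel

theorem trans'_col : ∀ z w : F9, dig (row (trans' z) (pos w)) 0 ≠ 0 ↔ w = z := by decide +kernel

/-- The conditions on the image of a translation, the multiplication going to a power of itself. -/
def imgCond (f4 fk r r' f' c x : ℕ) : Bool :=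
  let d := mul (mul r x) r'
  let a := mul (cube d) (cube d)
  Nat.beq (mul (mul (mul f4 x) f4) x) idM &&
    (Nat.beq (mul a x) (mul (mul c x) a) &&
      Nat.beq (mul (mul (mul (mul fk x) f') a) (mul d x)) (mul (mul x d) (mul x d)))

/-- The solutions of the conditions. -/
def imgOk : Bool :=
  force cF fun f => force cD1 fun d => force (hg 0) fun c => force (pc f 4) fun f4 =>
    ([1, 3, 5, 7] : List ℕ).all fun k =>
      force (pc f k) fun fk => force (pc fk 6) fun r => force (pc fk 2) fun r' => force (pc fk 7) fun f' =>
        (List.range 729).all fun i => force (tl i) fun x =>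
          !imgCond f4 fk r r' f' c x ||
            (Nat.beq k 1 && (List.range 8).any fun j => Nat.beq (mul x (pc f j)) (mul (pc f j) d))

theorem imgOk_eq : imgOk = true := by decide +kernel

/-- The multiplication carried into the centraliser of the involution of the tables. -/
def cF' : ℕ := mul (mul cH' cF) cH

/-- The centraliser of the multiplication. -/
def centOk : Bool :=
  force cF' fun f' =>
    (List.range 32).all fun i => force (qc i) fun q => force (mulRow (row f' 1) q) fun a => force (row q 1) fun b =>
      (List.range 60).all fun n => force (hc n) fun h =>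
        !Nat.beq (mulRow (mulRow b h) f') (mulRow a h) ||
          force cH fun g => force cH' fun g' => force cF fun f =>
            force (mul (mul g (mul q h)) g') fun x =>
              (List.range 8).any fun j => (List.range 3).any fun s => Nat.beq x (mul (pc f j) (scal s))

theorem centOk_eq : centOk = true := by decide +kernel

/-- Only the generator itself satisfies its relations in its coset. -/
def candOk : Bool :=
  (List.range 8).all fun j => (List.range 3).all fun s =>
    force (mul cC (mul (pc cF j) (scal s))) fun x =>
    (Nat.beq j 0 && Nat.beq s 0) || !Nat.beq (mul x x) idM || !Nat.beq (pc (mul x cA1) 4) idM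

theorem candOk_eq : candOk = true := by decide +kernel

/-- Complex conjugation on the index set. -/
def cj (w : F9) : F9 := (w.1, -w.2)

/-- The second code is the conjugate of the first. -/
def IsConjCode (a b : ℕ) : Prop :=
  ∀ w z : F9, dig (row b (pos w)) (pos z) = conjD (dig (row a (pos (cj w))) (pos (cj z)))

instance (a b : ℕ) : Decidable (IsConjCode a b) :=
  inferInstanceAs (Decidable (∀ w z : F9, dig (row b (pos w)) (pos z) = conjD (dig (row a (pos (cj w))) (pos (cj z)))))

theorem conj_codes : (∀ Z, ∃ W, IsConjCode (codeA Z) (codeA W)) ∧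
    (∀ Z, ∃ W, IsConjCode (codeE Z) (mul (codeE W) (codeE W))) ∧
    (∀ Z, ∃ W, IsConjCode (codeD Z) (codeD W)) ∧
    (∀ Z : F9, Z ≠ 0 → ∃ W : F9, W ≠ 0 ∧ IsConjCode (codeB Z) (codeB W)) ∧
    (∀ Z : F9, Z ≠ 0 → ∃ W : F9, W ≠ 0 ∧ IsConjCode (codeC Z) (codeC W)) ∧
    IsConjCode (hg 0) (mul (hg 0) (hg 0)) := by decide +kernel

end Cfsg.Agent.Lib.J3.Outer
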