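import Cfsg.Agent.Lib.J3.Mult
import Cfsg.Agent.Lib.J3.OutChecks

/-!
Automorphisms of the triple cover of the third Janko group which fix the scalar are inner, and complex
conjugation inverts it, so that the outer automorphism group of the simple group has order two.
-/

set_option autoImplicit false
set_option linter.unusedSectionVars false

namespace Cfsg.Agent.Lib.J3.Outer

open Cfsg.Spor Cfsg.Agent.Lib.J3 Cfsg.Agent.Lib.J3.Cent Cfsg.Agent.Lib.J3.Mult Matrix
open scoped MatrixGroups commutatorElement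

variable {F : Type*} [Field F] [Finite F] {ω : F}

theorem ev {a b : ℕ} (e : Nat.beq a b = true) : el ω a = el ω b := congrArg (el ω) (Nat.eq_of_beq_eq_true e)

/-- The multiplication. -/
noncomputable def fT (ω : F) : threeJ3 F ω := el ω cF

/-- The involutory generator. -/
noncomputable def cCT (ω : F) : threeJ3 F ω := el ω cC

theorem inG_cF (h : Fld F ω) : InG ω cF := h.inG_codeB (by decide)

theorem inG_cC (h : Fld F ω) : InG ω cC := h.inG_codeC (by decide)

theorem inG_pc (h : Fld F ω) {a : ℕ} (ha : InG ω a) : ∀ n, InG ω (pc a n)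
  | 0 => h.inG_idM
  | n + 1 => h.inG_mul (inG_pc h ha n) ha

theorem el_pc (h : Fld F ω) {a : ℕ} (ha : InG ω a) : ∀ n, el ω (pc a n) = el ω a ^ n
  | 0 => by rw [pow_zero, pc, h.el_idM]
  | n + 1 => by rw [pow_succ, pc, h.el_mul (inG_pc h ha n) ha, el_pc h ha n]

/-- The small identities. -/
theorem rel (h : Fld F ω) :
    el ω cR = fT ω ^ 6 ∧ el ω cT' = fT ω ^ 4 ∧ el ω (hg 4) = fT ω ∧ el ω (hg 5) = cCT ω ∧
      rep ω 1 = el ω cD1 ∧ cCT ω * cCT ω = 1 ∧ cCT ω * fT ω * cCT ω = fT ω ^ 7 ∧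
      (cCT ω * el ω cA1) ^ 4 = 1 ∧ orderOf (fT ω) = 8 ∧ dok 1263737312 = true ∧
      el ω cH * el ω cH' = 1 ∧ fT ω ^ 4 * el ω cH = el ω cH * zT ω ∧
      fT ω * el ω cD1 * fT ω ^ 7 * el ω cA1 * (el ω cD2 * el ω cD1) =
        el ω cD1 * el ω cD2 * (el ω cD1 * el ω cD2) ∧
      hg 0 ≠ mul (hg 0) (hg 0) := by
  have c := relOk_eq
  simp only [relOk, Bool.and_eq_true] at c
  obtain ⟨⟨⟨⟨⟨⟨⟨⟨⟨⟨⟨⟨⟨⟨⟨c1, c2⟩, c3⟩, c4⟩, c5⟩, c6⟩, c7⟩, c8⟩, c9⟩, c10⟩, c11⟩, c12⟩, c13⟩, c14⟩, c15⟩, c16⟩ := c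
  have iF := inG_cF h
  have iC := inG_cC h
  have iA : InG ω cA1 := h.inG_codeA _
  have i1 : InG ω cD1 := h.inG_codeD _
  have i2 : InG ω cD2 := h.inG_codeD _
  have iH : InG ω cH := (h.dval_spec c11).1
  refine ⟨?_, ?_, ev c3, ev c4, ev c5, ?_, ?_, ?_, ?_, c11, ?_, ?_, ?_, ?_⟩
  · rw [ev c1, el_pc h iF]; rfl
  · rw [ev c2, el_pc h iF]; rfl
  · have := ev (ω := ω) c6; rwa [h.el_mul iC iC, h.el_idM] at this
  · have := ev (ω := ω) c7; rwa [h.el_mul (h.inG_mul iC iF) iC, h.el_mul iC iF, el_pc h iF] at this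
  · have := ev (ω := ω) c8; rwa [el_pc h (h.inG_mul iC iA), h.el_mul iC iA, h.el_idM] at this
  · haveI := Fact.mk Nat.prime_two
    refine orderOf_eq_prime_pow (p := 2) (n := 2) ?_ ?_
    · show ¬ fT ω ^ 4 = 1
      intro e
      rw [fT, ← el_pc h iF, ← h.el_idM] at e
      have hlt : pc cF 4 < 2 ^ 162 := mul_lt _ _
      have := h.el_inj (inG_pc h iF 4) h.inG_idM hlt (by decide +kernel) e
      rw [this, Nat.beq_refl] at c9
      exact Bool.false_ne_true c9
    · show fT ω ^ 8 = 1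
      have := ev (ω := ω) c10; rwa [el_pc h iF, h.el_idM] at this
  · have := ev (ω := ω) c12; rwa [h.el_mul iH (show InG ω cH' from inG_pc h iH _), h.el_idM] at this
  · have := ev (ω := ω) c14
    rwa [h.el_mul (inG_pc h iF 4) iH, h.el_mul iH (Fld.inSub_zc h).1, el_pc h iF] at this
  · have := ev (ω := ω) c15
    rwa [h.el_mul (h.inG_mul (h.inG_mul (h.inG_mul iF i1) (inG_pc h iF 7)) iA) (h.inG_mul i2 i1),
      h.el_mul (h.inG_mul (h.inG_mul iF i1) (inG_pc h iF 7)) iA,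
      h.el_mul (h.inG_mul iF i1) (inG_pc h iF 7), h.el_mul iF i1, h.el_mul i2 i1,
      h.el_mul (h.inG_mul i1 i2) (h.inG_mul i1 i2), h.el_mul i1 i2, el_pc h iF] at this
  · intro e
    rw [← e, Nat.beq_refl] at c16
    exact Bool.false_ne_true c16

/-- The six generators of the Sylow subgroup. -/
def sGens (ω : F) : Set (threeJ3 F ω) :=
  {scalGen ω, el ω cA1, el ω cA2, el ω cE, el ω cD1, el ω cD2}

/-- The Sylow subgroup. -/
noncomputable def TT (ω : F) : Subgroup (threeJ3 F ω) := Subgroup.closure (sGens ω)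

/-- Its extension by the multiplication. -/
noncomputable def KK (ω : F) : Subgroup (threeJ3 F ω) := Subgroup.closure (insert (fT ω) (sGens ω))

theorem tl_spec (h : Fld F ω) : ∀ i < 729, InSub (TT ω) (tl i) := by
  have e := sylowThree_eq
  simp only [sylowOk, Bool.and_eq_true] at e
  obtain ⟨⟨⟨⟨⟨e0, eg⟩, ep⟩, -⟩, -⟩, -⟩ := e
  have c := threeOk_eq
  simp only [threeOk, Bool.and_eq_true] at c
  have hg6 := c.2
  have hK : ∀ g < 6, InSub (TT ω) (dval (tab 31 threeGens g)) := by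
    intro g hg'
    refine ⟨(h.dval_spec (all_range eg hg')).1, Subgroup.subset_closure ?_⟩
    rw [Nat.eq_of_beq_eq_true (all_range hg6 hg')]
    interval_cases g <;> simp [sGens, scalGen]
  intro i
  induction i using Nat.strong_induction_on with
  | _ i ih =>
    intro hi
    rcases i with _ | i
    · rw [tl, Nat.eq_of_beq_eq_true e0]; exact h.inSub_idM _
    · have c := all_range ep (show i < 729 - 1 by omega)
      simp only [Bool.and_eq_true] at c
      obtain ⟨⟨c1, c2⟩, c3⟩ := c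
      rw [tl, Nat.eq_of_beq_eq_true c3]
      exact h.inSub_mul (hK _ (blt_lt c2)) (ih _ (blt_lt c1) ((blt_lt c1).trans_le hi.le))

theorem TT_eq (h : Fld F ω) {x : threeJ3 F ω} (hx : x ∈ TT ω) : ∃ i < 729, x = el ω (tl i) := by
  have e := sylowThree_eq
  simp only [sylowOk, Bool.and_eq_true] at e
  obtain ⟨⟨⟨⟨⟨e0, eg⟩, -⟩, ea⟩, -⟩, -⟩ := e
  have c := threeOk_eq
  simp only [threeOk, Bool.and_eq_true] at c
  have hg6 := c.2
  refine closure_subset_left (S := {x | ∃ i < 729, x = el ω (tl i)})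
    ⟨0, by norm_num, by rw [tl, Nat.eq_of_beq_eq_true e0, h.el_idM]⟩ ?_ x hx
  intro s hs y hy
  obtain ⟨g, hg', rfl⟩ : ∃ g < 6, s = el ω (dval (tab 31 threeGens g)) := by
    rcases hs with rfl | rfl | rfl | rfl | rfl | rfl
    · exact ⟨0, by norm_num, by rw [Nat.eq_of_beq_eq_true (all_range hg6 (show 0 < 6 by norm_num))]; rfl⟩
    · exact ⟨1, by norm_num, by rw [Nat.eq_of_beq_eq_true (all_range hg6 (show 1 < 6 by norm_num))]; rfl⟩
    · exact ⟨2, by norm_num, by rw [Nat.eq_of_beq_eq_true (all_range hg6 (show 2 < 6 by norm_num))]; rfl⟩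
    · exact ⟨3, by norm_num, by rw [Nat.eq_of_beq_eq_true (all_range hg6 (show 3 < 6 by norm_num))]; rfl⟩
    · exact ⟨4, by norm_num, by rw [Nat.eq_of_beq_eq_true (all_range hg6 (show 4 < 6 by norm_num))]; rfl⟩
    · exact ⟨5, by norm_num, by rw [Nat.eq_of_beq_eq_true (all_range hg6 (show 5 < 6 by norm_num))]; rfl⟩
  obtain ⟨i, hi, rfl⟩ := hy
  have c := all_range (all_range ea hg') hi
  rw [Bool.and_eq_true] at c
  exact ⟨_, blt_lt c.1, by
    rw [tl, tl, ← Nat.eq_of_beq_eq_true c.2, h.el_mul (b := getM threeList i) (h.dval_spec (all_range eg hg')).1 (tl_spec h i hi).1]⟩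

theorem card_TT (h : Fld F ω) : Nat.card (TT ω) = 729 := by
  refine le_antisymm ?_ (card_three h)
  choose f hf hf' using fun x : TT ω => TT_eq h x.2
  simpa using Nat.card_le_card_of_injective (fun x => (⟨f x, hf x⟩ : Fin 729)) fun x y e =>
    Subtype.ext (by rw [hf' x, hf' y, show f x = f y from congrArg Fin.val e])

theorem gen_mem (ω : F) :
    scalGen ω ∈ TT ω ∧ el ω cA1 ∈ TT ω ∧ el ω cA2 ∈ TT ω ∧ el ω cE ∈ TT ω ∧ el ω cD1 ∈ TT ω ∧ el ω cD2 ∈ TT ω := by
  refine ⟨?_, ?_, ?_, ?_, ?_, ?_⟩ <;> exact Subgroup.subset_closure (by simp [sGens])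

theorem f_conj (h : Fld F ω) : ∀ s ∈ sGens ω, fT ω * s * (fT ω)⁻¹ ∈ TT ω := by
  have R := threeRel h
  obtain ⟨mc, ma, mb, me, md, md'⟩ := gen_mem ω
  rintro s (rfl | rfl | rfl | rfl | rfl | rfl)
  · rw [(R.cc (fT ω)).eq, mul_inv_cancel_right]; exact mc
  · rw [show fT ω * el ω cA1 = _ from R.fa1, fT, mul_inv_cancel_right]
    exact mul_mem (mul_mem ma ma) (mul_mem mb mb)
  · rw [show fT ω * el ω cA2 = _ from R.fa2, fT, mul_inv_cancel_right]
    exact mul_mem ma (mul_mem mb mb)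
  · rw [show fT ω * el ω cE * (fT ω)⁻¹ = _ from R.fe]; exact inv_mem me
  · rw [show fT ω * el ω cD1 = _ from R.fd1, fT, mul_inv_cancel_right]
    exact mul_mem (mul_mem md md') (mul_mem (mul_mem me me) mb)
  · rw [show fT ω * el ω cD2 = _ from R.fd2, fT, mul_inv_cancel_right]
    exact mul_mem (mul_mem (mul_mem md md) md') (mul_mem (mul_mem me mb) (mul_mem mc mc))

theorem TT_le (ω : F) : TT ω ≤ KK ω := Subgroup.closure_mono (Set.subset_insert _ _)

theorem KK_le (h : Fld F ω) : KK ω ≤ Subgroup.normalizer (TT ω : Set (threeJ3 F ω)) := by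
  rw [KK, Subgroup.closure_le]
  rintro s (rfl | hs)
  · exact Lift.mem_normalizer (f_conj h)
  · exact Subgroup.le_normalizer (Subgroup.subset_closure hs)

theorem card_KK (h : Fld F ω) : Nat.card (KK ω) = 5832 := by
  refine le_antisymm ?_ (Nat.le_of_dvd Nat.card_pos ?_)
  · have := Lift.grow (k := 8) (by norm_num) (by
      rw [← (rel h).2.2.2.2.2.2.2.2.1, pow_orderOf_eq_one]; exact one_mem _) (f_conj h) (card_TT h).le
    exact le_trans this (by norm_num)
  · have h1 : 729 ∣ Nat.card (KK ω) := card_TT h ▸ Subgroup.card_dvd_of_le (TT_le ω)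
    have h2 : 8 ∣ Nat.card (KK ω) := by
      rw [← (rel h).2.2.2.2.2.2.2.2.1, ← Nat.card_zpowers]
      exact Subgroup.card_dvd_of_le (Subgroup.zpowers_le.2 (Subgroup.subset_closure (Set.mem_insert _ _)))
    simpa using Nat.Coprime.mul_dvd_of_dvd_of_dvd (by norm_num : Nat.Coprime 729 8) h1 h2

theorem diag_of_cube (h : Fld F ω) {x : threeJ3 F ω} (hx : x ∈ TT ω) (h3 : x ^ 3 = 1) {w z : F9} (hne : w ≠ z) :
    (x : GL F9 F).val w z = 0 := by
  obtain ⟨i, hi, rfl⟩ := TT_eq h hx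
  have iG := (tl_spec h i hi).1
  have hc3 : cube (tl i) = idM :=
    h.el_inj (by rw [cube]; exact h.inG_mul (h.inG_mul iG iG) iG) h.inG_idM (mul_lt _ _) (by decide +kernel)
      (by rw [h.el_cube iG, h3, h.el_idM])
  have c := all_range diagOk_eq hi
  rw [Bool.or_eq_true] at c
  rcases c with c | c
  · rw [hc3, Nat.beq_refl] at c; exact absurd c (by simp)
  have c' := all_range (all_range c (pos_lt w)) (pos_lt z)
  rw [Bool.or_eq_true] at c'
  rcases c' with c' | c'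
  · exact absurd (posEquiv.injective (Fin.ext (Nat.eq_of_beq_eq_true c'))) hne
  · rw [el_val iG, toMat_apply, Nat.eq_of_beq_eq_true c', phi_zero]

theorem omegaPow_inj (h : Fld F ω) {m n : ZMod 3} (e : omegaPow F ω m = omegaPow F ω n) : m = n := by
  have hne := h.omega_ne_zero
  have hone : ω ≠ 1 := fun h1 => by
    have := h.omega
    rw [h1, h.two, mul_one] at this
    exact one_ne_zero this
  have ho : orderOf ω = 3 := by
    haveI := Fact.mk Nat.prime_three
    exact orderOf_eq_prime h.omega_cube hone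
  have : m.val = n.val := pow_injOn_Iio_orderOf (by rw [Set.mem_Iio, ho]; exact ZMod.val_lt m)
    (by rw [Set.mem_Iio, ho]; exact ZMod.val_lt n) e
  exact ZMod.val_injective 3 this

theorem A_val (h : Fld F ω) (Z w z : F9) : (el ω (codeA Z) : GL F9 F).val w z =
    if w = z then omegaPow F ω (Z.1 * w.1 + Z.2 * w.2) else 0 := by
  rw [el_val (h.inG_codeA Z), h.toMat_codeA, j3A, diagonal_apply]

/-- The element has at most one nonzero entry in each row. -/
def RowsMono (x : threeJ3 F ω) : Prop :=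
  ∀ w z z' : F9, (x : GL F9 F).val w z ≠ 0 → (x : GL F9 F).val w z' ≠ 0 → z = z'

/-- The element has at most one nonzero entry in each column. -/
def ColsMono (x : threeJ3 F ω) : Prop :=
  ∀ w w' z : F9, (x : GL F9 F).val w z ≠ 0 → (x : GL F9 F).val w' z ≠ 0 → w = w'

theorem mono_of_normalizer (h : Fld F ω) {x : threeJ3 F ω}
    (hx : x ∈ Subgroup.normalizer (TT ω : Set (threeJ3 F ω))) : RowsMono x ∧ ColsMono x := by
  obtain ⟨-, ma, mb, -, -, -⟩ := gen_mem ω
  have hA : ∀ {A : threeJ3 F ω}, A ∈ TT ω → A ^ 3 = 1 → ∀ {w z : F9}, w ≠ z →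
      ((x * A * x⁻¹ : threeJ3 F ω) : GL F9 F).val w z = 0 ∧
        ((x⁻¹ * A * x : threeJ3 F ω) : GL F9 F).val w z = 0 := fun {A} hm h3 w z hne => by
    refine ⟨diag_of_cube h ((Subgroup.mem_normalizer_iff.1 hx A).1 hm) (by rw [conj_pow, h3, mul_one, mul_inv_cancel]) hne,
      diag_of_cube h ?_ ?_ hne⟩
    · have := (Subgroup.mem_normalizer_iff.1 (inv_mem hx) A).1 hm
      rwa [inv_inv] at this
    · calc (x⁻¹ * A * x) ^ 3 = x⁻¹ * A ^ 3 * x := by rw [pow_three', pow_three']; group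
        _ = 1 := by rw [h3, mul_one, inv_mul_cancel]
  have R := threeRel h
  constructor
  · intro w z z' hz hz'
    have key : ∀ Z : F9, el ω (codeA Z) ∈ TT ω → el ω (codeA Z) ^ 3 = 1 →
        Z.1 * z.1 + Z.2 * z.2 = Z.1 * z'.1 + Z.2 * z'.2 := by
      intro Z hm h3
      have e : ∀ y, (x : GL F9 F).val w y * omegaPow F ω (Z.1 * y.1 + Z.2 * y.2) =
          ((x * el ω (codeA Z) * x⁻¹ : threeJ3 F ω) : GL F9 F).val w w * (x : GL F9 F).val w y := by
        intro y
        have := congrArg (fun t : threeJ3 F ω => (t : GL F9 F).val w y)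
          (show x * el ω (codeA Z) = x * el ω (codeA Z) * x⁻¹ * x by group)
        simp only [val_mul (g := x) (g' := el ω (codeA Z)), val_mul (g' := x), mul_apply] at this
        rw [Finset.sum_eq_single y (fun b _ hb => by rw [A_val h, if_neg hb, mul_zero]) (by simp),
          Finset.sum_eq_single w (fun b _ hb => by rw [(hA hm h3 (Ne.symm hb)).1, zero_mul]) (by simp),
          A_val h, if_pos rfl] at this
        exact this
      have e1 := e z
      have e2 := e z'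
      rw [mul_comm (((x * el ω (codeA Z) * x⁻¹ : threeJ3 F ω) : GL F9 F).val w w)] at e1 e2
      exact omegaPow_inj h ((mul_left_cancel₀ hz e1).trans (mul_left_cancel₀ hz' e2).symm)
    have k1 := key (1, 0) ma R.a1_3
    have k2 := key (0, 1) mb R.a2_3
    simp only [one_mul, zero_mul, add_zero, zero_add] at k1 k2
    exact Prod.ext k1 k2
  · intro w w' z hw hw'
    have key : ∀ Z : F9, el ω (codeA Z) ∈ TT ω → el ω (codeA Z) ^ 3 = 1 →
        Z.1 * w.1 + Z.2 * w.2 = Z.1 * w'.1 + Z.2 * w'.2 := by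
      intro Z hm h3
      have e : ∀ y, omegaPow F ω (Z.1 * y.1 + Z.2 * y.2) * (x : GL F9 F).val y z =
          (x : GL F9 F).val y z * ((x⁻¹ * el ω (codeA Z) * x : threeJ3 F ω) : GL F9 F).val z z := by
        intro y
        have := congrArg (fun t : threeJ3 F ω => (t : GL F9 F).val y z)
          (show el ω (codeA Z) * x = x * (x⁻¹ * el ω (codeA Z) * x) by group)
        simp only [val_mul (g := el ω (codeA Z)) (g' := x), val_mul (g := x), mul_apply] at this
        rw [Finset.sum_eq_single y (fun b _ hb => by rw [A_val h, if_neg (Ne.symm hb), zero_mul]) (by simp),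
          Finset.sum_eq_single z (fun b _ hb => by rw [(hA hm h3 hb).2, mul_zero]) (by simp),
          A_val h, if_pos rfl] at this
        exact this
      have e1 := e w
      have e2 := e w'
      rw [mul_comm (omegaPow F ω _)] at e1 e2
      exact omegaPow_inj h ((mul_left_cancel₀ hw e1).trans (mul_left_cancel₀ hw' e2).symm)
    have k1 := key (1, 0) ma R.a1_3
    have k2 := key (0, 1) mb R.a2_3
    simp only [one_mul, zero_mul, add_zero, zero_add] at k1 k2
    exact Prod.ext k1 k2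

theorem lineFix_mul {g g' : threeJ3 F ω} (h1 : LineFix g) (h2 : LineFix g') : LineFix (g * g') := fun w hw => by
  rw [val_mul_col h2, h1 w hw, zero_mul]

theorem mem_lineGp (h : Fld F ω) {y : threeJ3 F ω} (hy : LineFix y) : y ∈ lineGp ω := by
  obtain ⟨u, hu, i, hi, v, hv, e⟩ := h.mem_dset y
  by_cases hi0 : i = 0
  · subst hi0
    rw [e, h.rep_zero, mul_one]; exact mul_mem hu hv
  exfalso
  have hfix : LineFix (rep ω i) := by
    rw [show rep ω i = u⁻¹ * y * v⁻¹ by rw [e]; group]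
    exact lineFix_mul (lineFix_mul (h.lineFix (inv_mem hu)) hy) (h.lineFix (inv_mem hv))
  obtain ⟨i, rfl⟩ : ∃ j, i = j + 1 := ⟨i - 1, by omega⟩
  obtain ⟨w, hw, c⟩ := List.any_eq_true.1 (all_range trFixOk_eq (show i < 27 by omega))
  rw [List.mem_range] at hw
  have hz : pos (posEquiv.symm ⟨w + 1, by omega⟩) = w + 1 :=
    congrArg Fin.val (posEquiv.apply_symm_apply ⟨w + 1, by omega⟩)
  have := hfix (posEquiv.symm ⟨w + 1, by omega⟩) (fun e0 => by rw [e0] at hz; simp [pos] at hz)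
  rw [rep, el_val (h.inG_tr hi), toMat_apply, hz] at this
  rw [Bool.not_eq_true'] at c
  refine h.phi_ne_zero (dig_lt _ _) (fun hd => ?_) this
  rw [show dig (row (tr (i + 1)) (w + 1)) 0 = 0 from hd, Nat.beq_refl] at c
  exact Bool.false_ne_true c.symm

theorem monoGp_le_KK (h : Fld F ω) : monoGp ω ≤ KK ω := by
  obtain ⟨mc, ma, mb, me, -, -⟩ := gen_mem ω
  obtain ⟨e1, e2, e3, -, -⟩ := hg_eq
  rw [monoGp, Subgroup.closure_le]
  rintro _ ⟨⟨g, hg'⟩, rfl⟩
  interval_cases g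
  · exact TT_le ω mc
  · show el ω (hg 1) ∈ KK ω; rw [e1]; exact TT_le ω ma
  · show el ω (hg 2) ∈ KK ω; rw [e2]; exact TT_le ω mb
  · show el ω (hg 3) ∈ KK ω; rw [e3]; exact TT_le ω me
  · show el ω (hg 4) ∈ KK ω; rw [(rel h).2.2.1]; exact Subgroup.subset_closure (Set.mem_insert _ _)

theorem normalizer_TT (h : Fld F ω) {x : threeJ3 F ω}
    (hx : x ∈ Subgroup.normalizer (TT ω : Set (threeJ3 F ω))) : x ∈ KK ω := by
  obtain ⟨-, hcol⟩ := mono_of_normalizer h hx
  obtain ⟨w0, hw0⟩ : ∃ w0, (x : GL F9 F).val w0 0 ≠ 0 := by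
    by_contra hno
    push Not at hno
    have hu : IsUnit ((x : GL F9 F).val) := Units.isUnit _
    exact ((isUnit_iff_isUnit_det _).1 hu).ne_zero (det_eq_zero_of_column_eq_zero 0 hno)
  have i1 : InG ω cD1 := h.inG_codeD _
  have i2 : InG ω cD2 := h.inG_codeD _
  have iτ : InG ω (trans' w0) := h.inG_mul (inG_pc h i1 _) (inG_pc h i2 _)
  set τ := el ω (trans' w0) with hτ
  have mτ : τ ∈ TT ω := by
    rw [hτ, trans', h.el_mul (inG_pc h i1 _) (inG_pc h i2 _), el_pc h i1, el_pc h i2]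
    exact mul_mem (pow_mem (gen_mem ω).2.2.2.2.1 _) (pow_mem (gen_mem ω).2.2.2.2.2 _)
  set y := τ⁻¹ * x
  have hy : y ∈ Subgroup.normalizer (TT ω : Set (threeJ3 F ω)) :=
    mul_mem (inv_mem (Subgroup.le_normalizer mτ)) hx
  obtain ⟨hτrow, -⟩ := mono_of_normalizer h (Subgroup.le_normalizer mτ)
  obtain ⟨-, hycol⟩ := mono_of_normalizer h hy
  have hfix : LineFix y := by
    obtain ⟨w1, hw1⟩ : ∃ w1, τ.1.val w0 w1 * (y : GL F9 F).val w1 0 ≠ 0 := by
      by_contra hno
      push Not at hno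
      refine hw0 ?_
      rw [show x = τ * y by simp [y], val_mul, mul_apply]
      exact Finset.sum_eq_zero fun b _ => hno b
    rw [mul_ne_zero_iff] at hw1
    have : w1 = 0 := by
      refine hτrow w0 w1 0 hw1.1 ?_
      rw [hτ, el_val iτ, toMat_apply]
      exact h.phi_ne_zero (dig_lt _ _) ((trans'_col w0 w0).2 rfl)
    intro w hw
    by_contra hne
    exact hw (hycol w w1 0 hne hw1.2 |>.trans this)
  obtain ⟨e, he', ey⟩ := h.lineGp_eq (mem_lineGp h hfix)
  have ey' := (h.el_he_spec he').2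
  have hm : el ω (mono (e % 648)) ∈ KK ω := monoGp_le_KK h (h.inSub_mono (Nat.mod_lt _ (by norm_num))).2
  have hj0 : e / 648 = 0 := by
    by_contra hj
    have hR : el ω (getM cosReps (e / 648)) ∈ Subgroup.normalizer (TT ω : Set (threeJ3 F ω)) := by
      rw [show el ω (getM cosReps (e / 648)) = y * (el ω (mono (e % 648)))⁻¹ by rw [ey, ey']; group]
      exact mul_mem hy (inv_mem (KK_le h hm))
    obtain ⟨hrow, -⟩ := mono_of_normalizer h hR
    obtain ⟨j, hj'⟩ : ∃ j, e / 648 = j + 1 := ⟨e / 648 - 1, by omega⟩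
    have c := all_range cosMonoOk_eq (show j < 9 by omega)
    rw [Bool.not_eq_true', ← hj'] at c
    suffices rowsMono (getM cosReps (e / 648)) = true by rw [c] at this; exact Bool.false_ne_true this
    simp only [rowsMono, List.all_eq_true, List.mem_range, Bool.or_eq_true]
    intro a ha b hb c' hc'
    by_cases h1 : dig (row (getM cosReps (e / 648)) a) b = 0
    · exact Or.inl (Or.inr (by rw [h1, Nat.beq_refl]))
    by_cases h2 : dig (row (getM cosReps (e / 648)) a) c' = 0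
    · exact Or.inr (by rw [h2, Nat.beq_refl])
    refine Or.inl (Or.inl ?_)
    have hp : ∀ {k} (hk : k < 9), pos (posEquiv.symm ⟨k, hk⟩) = k := fun {k} hk =>
      congrArg Fin.val (posEquiv.apply_symm_apply ⟨k, hk⟩)
    have hz := hrow (posEquiv.symm ⟨a, ha⟩) (posEquiv.symm ⟨b, hb⟩) (posEquiv.symm ⟨c', hc'⟩)
      (by rw [el_val (h.inSub_cosReps _ (by omega)).1, toMat_apply, hp, hp]; exact h.phi_ne_zero (dig_lt _ _) h1)
      (by rw [el_val (h.inSub_cosReps _ (by omega)).1, toMat_apply, hp, hp]; exact h.phi_ne_zero (dig_lt _ _) h2)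
    rw [Fin.mk.inj_iff.1 (posEquiv.symm.injective hz), Nat.beq_refl]
  have hyK : y ∈ KK ω := by
    rw [ey, ey', hj0, cosOk_spec.1, h.el_idM, one_mul]; exact hm
  rw [show x = τ * y by simp [y]]
  exact mul_mem (TT_le ω mτ) hyK

theorem CT_eq (h : Fld F ω) {x : threeJ3 F ω} (hx : x ∈ CT ω) :
    ∃ i < 32, ∃ n < 60, ∃ s ∈ Subgroup.center (threeJ3 F ω), x = qT ω i * el ω (hc n) * s := by
  have hNT := (card_facts h).2.2
  have hmem : ∀ p : QT h × HT h × Subgroup.center (threeJ3 F ω), (p.1 : threeJ3 F ω) * p.2.1 * p.2.2 ∈ CT ω :=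
    fun p => hNT ▸ mul_mem (mul_mem (QT_le h p.1.2) (HT_le h p.2.1.2)) (center_le_NT h p.2.2.2)
  have hinj : Function.Injective fun p => (⟨_, hmem p⟩ : CT ω) := by
    rintro ⟨q, a, s⟩ ⟨q', a', s'⟩ e
    have e' : (q : threeJ3 F ω) * a * s = q' * a' * s' := congrArg Subtype.val e
    have hs : ∀ g, g * (s : threeJ3 F ω) = s * g := Subgroup.mem_center_iff.1 s.2
    have ha : (a : threeJ3 F ω) * (a' : threeJ3 F ω)⁻¹ = (q : threeJ3 F ω)⁻¹ * q' * (s' * (s : threeJ3 F ω)⁻¹) := by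
      have hu : (s' : threeJ3 F ω) * (s : threeJ3 F ω)⁻¹ ∈ Subgroup.center (threeJ3 F ω) := mul_mem s'.2 (inv_mem s.2)
      calc (a : threeJ3 F ω) * (a' : threeJ3 F ω)⁻¹
          = (q : threeJ3 F ω)⁻¹ * (q * a * s) * (s : threeJ3 F ω)⁻¹ * (a' : threeJ3 F ω)⁻¹ := by group
        _ = (q : threeJ3 F ω)⁻¹ * q' * (a' * (s' * (s : threeJ3 F ω)⁻¹)) * (a' : threeJ3 F ω)⁻¹ := by rw [e']; group
        _ = _ := by rw [Subgroup.mem_center_iff.1 hu (a' : threeJ3 F ω)]; group
    have h1 := HT_meet h (mul_mem a.2 (inv_mem a'.2)) (mul_mem (inv_mem q.2) q'.2)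
      (mul_mem s'.2 (inv_mem s.2)) ha
    obtain rfl : a = a' := Subtype.ext (mul_inv_eq_one.1 h1)
    have hq : (q' : threeJ3 F ω)⁻¹ * q = s' * (s : threeJ3 F ω)⁻¹ := by
      calc (q' : threeJ3 F ω)⁻¹ * q
          = (q' : threeJ3 F ω)⁻¹ * (q * a * s) * (s : threeJ3 F ω)⁻¹ * (a : threeJ3 F ω)⁻¹ := by group
        _ = a * (s' * (s : threeJ3 F ω)⁻¹) * (a : threeJ3 F ω)⁻¹ := by rw [e']; group
        _ = _ := by rw [Subgroup.mem_center_iff.1 (mul_mem s'.2 (inv_mem s.2)) (a : threeJ3 F ω)]; group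
    have h2 : (q' : threeJ3 F ω)⁻¹ * q = 1 := by
      have : (q' : threeJ3 F ω)⁻¹ * q ∈ QT h ⊓ Subgroup.center (threeJ3 F ω) :=
        Subgroup.mem_inf.2 ⟨mul_mem (inv_mem q'.2) q.2, hq ▸ mul_mem s'.2 (inv_mem s.2)⟩
      rwa [(disjoint_center h).eq_bot, Subgroup.mem_bot] at this
    obtain rfl : q' = q := Subtype.ext (inv_mul_eq_one.1 h2)
    obtain rfl : s = s' := Subtype.ext (mul_left_cancel e')
    rfl
  have hcard : Nat.card (QT h × HT h × Subgroup.center (threeJ3 F ω)) = Nat.card (CT ω) := by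
    rw [Nat.card_prod, Nat.card_prod, card_QT h, card_HT h, h.card_center, card_CT h]
  obtain ⟨⟨⟨q, i, hi, rfl⟩, ⟨a, ha⟩, ⟨s, hs⟩⟩, e⟩ :=
    ((Nat.bijective_iff_injective_and_card _).2 ⟨hinj, hcard⟩).2 ⟨x, hx⟩
  obtain ⟨n, hn, rfl⟩ := HT_eq h ha
  exact ⟨i, hi, n, hn, s, hs, (congrArg Subtype.val e).symm⟩

theorem cent_f (h : Fld F ω) {y : threeJ3 F ω} (hy : Commute y (fT ω)) :
    ∃ j < 8, ∃ s < 3, y = fT ω ^ j * el ω (scal s) := by
  obtain ⟨-, -, -, -, -, -, -, -, -, hd, hHH, hfz, -, -⟩ := rel h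
  have iH : InG ω cH := (h.dval_spec hd).1
  have iH' : InG ω cH' := inG_pc h iH _
  have hinv : (el ω cH)⁻¹ = el ω cH' := inv_eq_of_mul_eq_one_right hHH
  have hzm : (el ω cH)⁻¹ * y * el ω cH ∈ CT ω := by
    rw [Subgroup.mem_centralizer_singleton_iff]
    have hz : zT ω = (el ω cH)⁻¹ * fT ω ^ 4 * el ω cH := by rw [mul_assoc, hfz, inv_mul_cancel_left]
    rw [hz]
    calc (el ω cH)⁻¹ * y * el ω cH * ((el ω cH)⁻¹ * fT ω ^ 4 * el ω cH)
        = (el ω cH)⁻¹ * (y * fT ω ^ 4) * el ω cH := by group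
      _ = (el ω cH)⁻¹ * (fT ω ^ 4 * y) * el ω cH := by rw [(hy.pow_right 4).eq]
      _ = _ := by group
  obtain ⟨i, hi, n, hn, s0, hs0, e⟩ := CT_eq h hzm
  have iF := inG_cF h
  have iq := Fld.inG_qc h hi
  have ih := (hc_spec h n hn).1
  have iqh := h.inG_mul iq ih
  have iF' : InG ω cF' := h.inG_mul (h.inG_mul iH' iF) iH
  have eF' : el ω cF' = (el ω cH)⁻¹ * fT ω * el ω cH := by
    rw [cF', h.el_mul (h.inG_mul iH' iF) iH, h.el_mul iH' iF, hinv]; rfl
  have hm : el ω (mul (qc i) (hc n)) = (el ω cH)⁻¹ * y * el ω cH * s0⁻¹ := by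
    rw [e, h.el_mul iq ih, mul_inv_cancel_right]; rfl
  have hcomm : el ω (mul (mul (qc i) (hc n)) cF') = el ω (mul (mul cF' (qc i)) (hc n)) := by
    rw [h.el_mul iqh iF', h.el_mul (h.inG_mul iF' iq) ih, h.el_mul iF' iq,
      mul_assoc (el ω cF'), ← h.el_mul iq ih, hm, eF']
    have hs0' := Subgroup.mem_center_iff.1 (inv_mem hs0) ((el ω cH)⁻¹ * fT ω * el ω cH)
    calc (el ω cH)⁻¹ * y * el ω cH * s0⁻¹ * ((el ω cH)⁻¹ * fT ω * el ω cH)
        = (el ω cH)⁻¹ * y * el ω cH * (s0⁻¹ * ((el ω cH)⁻¹ * fT ω * el ω cH)) := by group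
      _ = (el ω cH)⁻¹ * y * el ω cH * (((el ω cH)⁻¹ * fT ω * el ω cH) * s0⁻¹) := by rw [← hs0']
      _ = (el ω cH)⁻¹ * (y * fT ω) * el ω cH * s0⁻¹ := by group
      _ = (el ω cH)⁻¹ * (fT ω * y) * el ω cH * s0⁻¹ := by rw [hy.eq]
      _ = _ := by group
  have hrow := congrArg (fun a => row a 1) (h.el_inj (h.inG_mul iqh iF') (h.inG_mul (h.inG_mul iF' iq) ih)
    (mul_lt _ _) (mul_lt _ _) hcomm)
  simp only [row_mul _ _ (show 1 < 9 by norm_num)] at hrow
  have c := centOk_eq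
  simp only [centOk, force_eq] at c
  have c2 := all_range (all_range c hi) hn
  rw [hrow, Nat.beq_refl] at c2
  simp only [Bool.not_true, Bool.false_or] at c2
  obtain ⟨j, hj, c3⟩ := List.any_eq_true.1 c2
  obtain ⟨s, hs, c4⟩ := List.any_eq_true.1 c3
  rw [List.mem_range] at hj hs
  have e2 := ev (ω := ω) c4
  rw [h.el_mul (h.inG_mul iH iqh) iH', h.el_mul iH iqh, hm, h.el_mul (inG_pc h iF j) (h.inG_scal s),
    el_pc h iF, ← hinv] at e2
  have hys : y = fT ω ^ j * (el ω (scal s) * s0) := by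
    have hc0 := Subgroup.mem_center_iff.1 (inv_mem hs0) ((el ω cH)⁻¹)
    calc y = el ω cH * ((el ω cH)⁻¹ * y * el ω cH) * ((el ω cH)⁻¹ * s0⁻¹) * s0 := by group
      _ = el ω cH * ((el ω cH)⁻¹ * y * el ω cH) * (s0⁻¹ * (el ω cH)⁻¹) * s0 := by rw [hc0]
      _ = el ω cH * ((el ω cH)⁻¹ * y * el ω cH * s0⁻¹) * (el ω cH)⁻¹ * s0 := by group
      _ = _ := by rw [e2, mul_assoc]; rfl
  obtain ⟨m, hm'⟩ : ∃ m : ℕ, el ω (scal s) * s0 = scalGen ω ^ m := by
    have : el ω (scal s) * s0 ∈ Subgroup.center (threeJ3 F ω) := by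
      refine mul_mem ?_ hs0
      obtain ⟨m, hm⟩ := h.el_scal s
      rw [hm]; exact pow_mem h.scalGen_central m
    rw [h.center_eq, ← mem_powers_iff_mem_zpowers] at this
    obtain ⟨m, hm⟩ := this
    exact ⟨m, hm.symm⟩
  refine ⟨j, hj, m % 3, Nat.mod_lt _ (by norm_num), ?_⟩
  suffices e : scalGen ω ^ m = el ω (scal (m % 3)) by rw [hys, hm', e]
  rw [pow_eq_pow_mod m h.scalGen_cube]
  have h3 : m % 3 < 3 := Nat.mod_lt _ (by norm_num)
  unfold scal
  interval_cases m % 3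
  · simp [h.el_idM]
  · simp [scalGen]
  · simp [scalGen, h.el_mul h.inG_omega h.inG_omega, pow_two]

/-- An automorphism fixing the generators is trivial. -/
theorem eq_one_of_fix (h : Fld F ω) (ψ : MulAut (threeJ3 F ω)) (hf : ψ (fT ω) = fT ω)
    (hd : ψ (el ω cD1) = el ω cD1) : ψ = 1 := by
  obtain ⟨eR, -, e4, e5, eD, eCC, eCf, eCa, hord, -, -, -, -, -⟩ := rel h
  have R := threeRel h
  let L := ψ.toMonoidHom.eqLocus (MonoidHom.id _)
  have mf : fT ω ∈ L := hf
  have md : el ω cD1 ∈ L := hd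
  have mR : el ω cR ∈ L := eR ▸ pow_mem mf 6
  have mA2 : el ω cA2 ∈ L := R.d1_3 ▸ pow_mem md 3
  have mA1 : el ω cA1 ∈ L := by
    have : el ω cR * el ω cA2 * (el ω cR)⁻¹ = (el ω cA1)⁻¹ := by rw [R.ra2, mul_inv_cancel_right]
    exact L.inv_mem_iff.1 (this ▸ mul_mem (mul_mem mR mA2) (inv_mem mR))
  have mD2 : el ω cD2 ∈ L := by
    have : el ω cR * el ω cD1 * (el ω cR)⁻¹ = el ω cD2 := by rw [R.rd1, mul_inv_cancel_right]
    exact this ▸ mul_mem (mul_mem mR md) (inv_mem mR)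
  have mc : scalGen ω ∈ L := by
    rw [← R.a1d1, commutatorElement_def]
    exact mul_mem (mul_mem (mul_mem mA1 md) (inv_mem mA1)) (inv_mem md)
  have mE : el ω cE ∈ L := by
    have h2 : el ω cE * el ω cE ∈ L := by
      have : el ω cE * el ω cE =
          el ω cD1 * el ω cD2 * (el ω cD2 * el ω cD1)⁻¹ * (el ω cA2)⁻¹ * (el ω cA1)⁻¹ := by
        rw [R.d1d2]; group
      rw [this]
      exact mul_mem (mul_mem (mul_mem (mul_mem md mD2) (inv_mem (mul_mem mD2 md))) (inv_mem mA2)) (inv_mem mA1)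
    have : el ω cE = el ω cE * el ω cE * (el ω cE * el ω cE) := by
      calc el ω cE = el ω cE ^ 3 * el ω cE := by rw [R.e3, one_mul]
        _ = _ := by rw [pow_three']; group
    rw [this]; exact mul_mem h2 h2
  set C := cCT ω with hC
  have mC : C ∈ L := by
    set D := ψ C
    have hDD : D * D = 1 := by rw [← map_mul, eCC, map_one]
    have hDf : D * fT ω * D = fT ω ^ 7 := by
      have := congrArg ψ eCf
      simpa only [map_mul, map_pow, hf] using this
    have hf8 : fT ω ^ 8 = 1 := hord ▸ pow_orderOf_eq_one _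
    have hC7 : C * fT ω ^ 7 = fT ω * C := by
      have h7 : C * fT ω ^ 7 * C = fT ω := by
        have := conj_pow (i := 7) (a := C) (b := fT ω)
        rw [inv_eq_of_mul_eq_one_right eCC, eCf] at this
        rw [← this, ← pow_mul, show 7 * 7 = 8 * 6 + 1 by norm_num, pow_add, pow_mul, hf8, one_pow, one_mul, pow_one]
      calc C * fT ω ^ 7 = C * fT ω ^ 7 * (C * C) := by rw [eCC, mul_one]
        _ = C * fT ω ^ 7 * C * C := by group
        _ = _ := by rw [h7]
    have hy : Commute (C * D) (fT ω) := by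
      calc C * D * fT ω = C * (D * fT ω * (D * D)) := by rw [hDD, mul_one, mul_assoc]
        _ = C * (D * fT ω * D) * D := by group
        _ = fT ω * (C * D) := by rw [hDf, hC7, mul_assoc]
    obtain ⟨j, hj, s, hs, e⟩ := cent_f h hy
    have iF := inG_cF h
    have iC := inG_cC h
    have iA : InG ω cA1 := h.inG_codeA _
    set x := mul cC (mul (pc cF j) (scal s)) with hx
    have ifs := h.inG_mul (inG_pc h iF j) (h.inG_scal s)
    have ix : InG ω x := h.inG_mul iC ifs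
    have ex : el ω x = D := by
      rw [hx, h.el_mul iC ifs, h.el_mul (inG_pc h iF j) (h.inG_scal s), el_pc h iF]
      show C * (fT ω ^ j * el ω (scal s)) = D
      rw [← e, ← mul_assoc, eCC, one_mul]
    have c := all_range (all_range candOk_eq hj) hs
    simp only [force_eq, Bool.or_eq_true, Bool.and_eq_true] at c
    rcases c with (⟨c1, c2⟩ | c1) | c1
    · show D = C
      rw [Nat.eq_of_beq_eq_true c1, Nat.eq_of_beq_eq_true c2, pow_zero, one_mul] at e
      have h1 : el ω (scal 0) = 1 := by rw [show scal 0 = idM from rfl, h.el_idM]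
      rw [h1] at e
      calc D = C * C * D := by rw [eCC, one_mul]
        _ = C := by rw [mul_assoc, e, mul_one]
    · exfalso
      have : mul x x = idM := h.el_inj (h.inG_mul ix ix) h.inG_idM (mul_lt _ _) (by decide +kernel)
        (by rw [h.el_mul ix ix, ex, hDD, h.el_idM])
      rw [← hx, this, Nat.beq_refl] at c1
      exact Bool.false_ne_true c1
    · exfalso
      have hA : (D * el ω cA1) ^ 4 = 1 := by
        have := congrArg ψ eCa
        rw [map_pow, map_mul, map_one, show ψ (el ω cA1) = el ω cA1 from mA1] at this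
        exact this
      have ia := h.inG_mul ix iA
      have : pc (mul x cA1) 4 = idM := h.el_inj (inG_pc h ia 4) h.inG_idM (mul_lt _ _) (by decide +kernel)
        (by rw [el_pc h ia, h.el_mul ix iA, ex, hA, h.el_idM])
      rw [← hx, this, Nat.beq_refl] at c1
      exact Bool.false_ne_true c1
  have hline : lineGp ω ≤ L := by
    obtain ⟨e1, e2, e3, -, -⟩ := hg_eq
    rw [lineGp, Subgroup.closure_le]
    rintro _ ⟨⟨g, hg'⟩, rfl⟩
    show el ω (hg g) ∈ L
    interval_cases g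
    exacts [mc, by rw [e1]; exact mA1, by rw [e2]; exact mA2, by rw [e3]; exact mE, e4 ▸ mf, e5 ▸ mC]
  have htop : (⊤ : Subgroup (threeJ3 F ω)) ≤ L := by
    rw [← h.bigGp_eq_top, bigGp, Subgroup.closure_le]
    refine Set.union_subset hline (Set.singleton_subset_iff.2 ?_)
    rw [eD]; exact md
  exact MulEquiv.ext fun g => htop (Subgroup.mem_top g)

set_option maxHeartbeats 1000000 in
/-- An automorphism fixing the scalar is inner. -/
theorem inner_of_scal (h : Fld F ω) (φ : MulAut (threeJ3 F ω)) (hc : φ (scalGen ω) = scalGen ω) :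
    ∃ g, φ = MulAut.conj g := by
  obtain ⟨eR, eT, -, -, -, -, -, -, hord, -, -, -, eId, -⟩ := rel h
  have R := threeRel h
  have hfix : ∀ g, (MulAut.conj g * φ : MulAut (threeJ3 F ω)) (scalGen ω) = scalGen ω := fun g => by
    show g * φ (scalGen ω) * g⁻¹ = scalGen ω
    rw [hc, (R.cc g).eq, mul_inv_cancel_right]
  haveI : Fact (Nat.Prime 3) := ⟨Nat.prime_three⟩
  have h3 : (Nat.card (threeJ3 F ω)).factorization 3 = 6 := by
    rw [h.card_threeJ3, show (150698880 : ℕ) = 3 ^ 6 * 206720 by norm_num,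
      Nat.factorization_mul (by norm_num) (by norm_num), Finsupp.add_apply,
      Nat.Prime.factorization_pow Nat.prime_three,
      Nat.factorization_eq_zero_of_not_dvd (show ¬ 3 ∣ 206720 by norm_num)]
    simp
  let S : Sylow 3 (threeJ3 F ω) := Sylow.ofCard (TT ω) (by rw [h3, card_TT h]; norm_num)
  let S' : Sylow 3 (threeJ3 F ω) := Sylow.ofCard ((TT ω).map φ.toMonoidHom)
    (by rw [h3, Subgroup.card_map_of_injective φ.injective, card_TT h]; norm_num)
  obtain ⟨g1, hg1⟩ := MulAction.exists_smul_eq (threeJ3 F ω) S' S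
  have hmap1 : (TT ω).map (MulAut.conj g1 * φ).toMonoidHom = TT ω := by
    have := congrArg (fun P : Sylow 3 (threeJ3 F ω) => (P : Subgroup (threeJ3 F ω))) hg1
    simp only [Sylow.coe_subgroup_smul, S, S', Sylow.coe_ofCard] at this
    exact ((Subgroup.map_map (TT ω) _ _).symm).trans this
  set φ1 := MulAut.conj g1 * φ with hφ1
  have hnorm : ∀ {x}, x ∈ Subgroup.normalizer (TT ω : Set (threeJ3 F ω)) →
      φ1 x ∈ Subgroup.normalizer (TT ω : Set (threeJ3 F ω)) := by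
    intro x hx
    refine Lift.mem_normalizer (S := (TT ω : Set (threeJ3 F ω))) ?_ |> (Subgroup.closure_eq (TT ω) ▸ ·)
    intro s hs
    rw [Subgroup.closure_eq]
    rw [SetLike.mem_coe, ← hmap1] at hs
    obtain ⟨t, ht, rfl⟩ := hs
    rw [← hmap1]
    exact ⟨x * t * x⁻¹, (Subgroup.mem_normalizer_iff.1 hx t).1 ht, by simp⟩
  have mfK : fT ω ∈ KK ω := Subgroup.subset_closure (Set.mem_insert _ _)
  have mfK' : φ1 (fT ω) ∈ KK ω := normalizer_TT h (hnorm (KK_le h mfK))
  haveI : Fact (Nat.Prime 2) := ⟨Nat.prime_two⟩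
  have h2 : (Nat.card (KK ω)).factorization 2 = 3 := by
    rw [card_KK h, show (5832 : ℕ) = 2 ^ 3 * 729 by norm_num,
      Nat.factorization_mul (by norm_num) (by norm_num), Finsupp.add_apply,
      Nat.Prime.factorization_pow Nat.prime_two,
      Nat.factorization_eq_zero_of_not_dvd (show ¬ 2 ∣ 729 by norm_num)]
    simp
  have hz : ∀ x : KK ω, orderOf (x : threeJ3 F ω) = 8 → Nat.card (Subgroup.zpowers x) = 2 ^ 3 := fun x hx => by
    rw [Nat.card_zpowers, ← Subgroup.orderOf_coe, hx]; norm_num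
  let P : Sylow 2 (KK ω) := Sylow.ofCard (Subgroup.zpowers ⟨fT ω, mfK⟩) (by rw [h2, hz _ hord])
  let P' : Sylow 2 (KK ω) := Sylow.ofCard (Subgroup.zpowers ⟨φ1 (fT ω), mfK'⟩)
    (by rw [h2, hz ⟨φ1 (fT ω), mfK'⟩ (show orderOf (φ1.toMonoidHom (fT ω)) = 8 by rw [orderOf_injective φ1.toMonoidHom φ1.injective, hord])])
  obtain ⟨⟨g2, hg2K⟩, hg2⟩ := MulAction.exists_smul_eq (KK ω) P' P
  have hmem : g2 * φ1 (fT ω) * g2⁻¹ ∈ Subgroup.zpowers (fT ω) := by
    have hin : (⟨g2, hg2K⟩ : KK ω) * ⟨φ1 (fT ω), mfK'⟩ * (⟨g2, hg2K⟩ : KK ω)⁻¹ ∈ (P : Subgroup (KK ω)) := by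
      rw [← hg2, Sylow.coe_subgroup_smul, Subgroup.mem_pointwise_smul_iff_inv_smul_mem]
      simp only [MulAut.smul_def, P', Sylow.coe_ofCard, MulAut.conj_inv_apply]
      convert Subgroup.mem_zpowers (⟨φ1 (fT ω), mfK'⟩ : KK ω) using 1
      group
    simp only [P, Sylow.coe_ofCard] at hin
    obtain ⟨n, hn⟩ := hin
    exact ⟨n, congrArg Subtype.val hn⟩
  set φ2 := MulAut.conj g2 * φ1 with hφ2
  have hTT2 : ∀ {x}, x ∈ TT ω → φ2 x ∈ TT ω := by
    intro x hx
    show g2 * φ1 x * g2⁻¹ ∈ TT ω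
    refine (Subgroup.mem_normalizer_iff.1 (KK_le h hg2K) _).1 ?_
    rw [← hmap1]; exact ⟨x, hx, rfl⟩
  have hf2 : φ2 (fT ω) ∈ Subgroup.zpowers (fT ω) := hmem
  rw [← mem_powers_iff_mem_zpowers] at hf2
  obtain ⟨k0, hk0⟩ := hf2
  have hf8 : fT ω ^ 8 = 1 := hord ▸ pow_orderOf_eq_one _
  obtain ⟨k, hk8, hk⟩ : ∃ k < 8, φ2 (fT ω) = fT ω ^ k :=
    ⟨k0 % 8, Nat.mod_lt _ (by norm_num), by rw [← pow_eq_pow_mod k0 hf8]; exact hk0.symm⟩
  have hodd : k % 2 = 1 := by
    by_contra hev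
    have h4 : φ2 (fT ω ^ 4) = 1 := by
      rw [map_pow, hk, ← pow_mul, show k * 4 = 8 * (k / 2) by omega, pow_mul, hf8, one_pow]
    have := φ2.injective (h4.trans (map_one φ2).symm)
    have hd := orderOf_dvd_of_pow_eq_one this
    rw [hord] at hd
    norm_num at hd
  have hk4 : φ2 (fT ω ^ 4) = fT ω ^ 4 := by
    rw [map_pow, hk, ← pow_mul, show k * 4 = 8 * (k / 2) + 4 by omega, pow_add, pow_mul, hf8, one_pow, one_mul]
  obtain ⟨i, hi, hx⟩ := TT_eq h (hTT2 (gen_mem ω).2.2.2.2.1)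
  have iF := inG_cF h
  have ix := (tl_spec h i hi).1
  have iFk := inG_pc h iF k
  have hfix2 : φ2 (scalGen ω) = scalGen ω := by
    show g2 * φ1 (scalGen ω) * g2⁻¹ = scalGen ω
    rw [hfix g1, (R.cc g2).eq, mul_inv_cancel_right]
  have hD2 : el ω cD2 = fT ω ^ 6 * el ω cD1 * fT ω ^ 2 := by
    have hi2 : (el ω cR)⁻¹ = fT ω ^ 2 := inv_eq_of_mul_eq_one_right (by rw [eR, ← pow_add, hf8])
    rw [← eR, ← hi2, R.rd1, mul_inv_cancel_right]
  have hA1 : el ω cA1 = el ω cD2 ^ 3 * el ω cD2 ^ 3 := by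
    have e1 : el ω cD2 ^ 3 = (el ω cA1)⁻¹ := by
      calc el ω cD2 ^ 3 = (el ω cR * el ω cD1 * (el ω cR)⁻¹) ^ 3 := by rw [R.rd1, mul_inv_cancel_right]
        _ = (el ω cA1)⁻¹ := by rw [conj_pow, R.d1_3, R.ra2, mul_inv_cancel_right]
    rw [e1, eq_comm]
    calc (el ω cA1)⁻¹ * (el ω cA1)⁻¹ = (el ω cA1)⁻¹ * (el ω cA1)⁻¹ * el ω cA1 ^ 3 := by rw [R.a1_3, mul_one]
      _ = _ := by group
  set fk := pc cF k
  set r' := pc fk 2
  set d := mul (mul (pc fk 6) (tl i)) r' with hd'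
  set a := mul (cube d) (cube d) with ha'
  have id' : InG ω d := h.inG_mul (h.inG_mul (inG_pc h iFk 6) ix) (inG_pc h iFk 2)
  have icd : InG ω (cube d) := by rw [cube]; exact h.inG_mul (h.inG_mul id' id') id'
  have ia : InG ω a := h.inG_mul icd icd
  have efk : el ω fk = φ2 (fT ω) := by rw [el_pc h iF, hk]; rfl
  have ed : el ω d = φ2 (el ω cD2) := by
    rw [hd', h.el_mul (h.inG_mul (inG_pc h iFk 6) ix) (inG_pc h iFk 2), h.el_mul (inG_pc h iFk 6) ix,
      el_pc h iFk, el_pc h iFk, efk, ← hx, hD2, map_mul, map_mul, map_pow, map_pow]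
  have ea : el ω a = φ2 (el ω cA1) := by
    rw [ha', h.el_mul icd icd, h.el_cube id', ed, hA1, map_mul, map_pow]
  have i4 := inG_pc h iF 4
  have i7 := inG_pc h iFk 7
  have cond : imgCond (pc cF 4) fk (pc fk 6) r' (pc fk 7) (hg 0) (tl i) = true := by
    simp only [imgCond, ← hd', ← ha', Bool.and_eq_true]
    have beq : ∀ {u v : ℕ}, InG ω u → InG ω v → u < 2 ^ 162 → v < 2 ^ 162 → el ω u = el ω v →
        Nat.beq u v = true := fun hu hv hu' hv' e => by rw [h.el_inj hu hv hu' hv' e, Nat.beq_refl]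
    refine ⟨beq (h.inG_mul (h.inG_mul (h.inG_mul i4 ix) i4) ix) h.inG_idM (mul_lt _ _) (by decide +kernel) ?_,
      beq (h.inG_mul ia ix) (h.inG_mul (h.inG_mul h.inG_omega ix) ia) (mul_lt _ _) (mul_lt _ _) ?_,
      beq (h.inG_mul (h.inG_mul (h.inG_mul (h.inG_mul iFk ix) i7) ia) (h.inG_mul id' ix))
        (h.inG_mul (h.inG_mul ix id') (h.inG_mul ix id')) (mul_lt _ _) (mul_lt _ _) ?_⟩
    · rw [h.el_mul (h.inG_mul (h.inG_mul i4 ix) i4) ix, h.el_mul (h.inG_mul i4 ix) i4, h.el_mul i4 ix,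
        el_pc h iF, h.el_idM, ← hx, show el ω cF = fT ω from rfl, ← hk4, ← map_mul, ← map_mul, ← map_mul,
        ← eT]
      have ht : el ω cT' * el ω cT' = 1 := by rw [← pow_two]; exact R.t2
      have := R.td1
      rw [inv_eq_of_mul_eq_one_right ht] at this
      rw [this, inv_mul_cancel, map_one]
    · rw [h.el_mul ia ix, h.el_mul (h.inG_mul h.inG_omega ix) ia, h.el_mul h.inG_omega ix, ea, ← hx]
      show _ = scalGen ω * _ * _
      rw [← hfix2, ← map_mul, ← map_mul, ← map_mul, ← R.a1d1, commutatorElement_def]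
      congr 1
      group
    · rw [h.el_mul (h.inG_mul (h.inG_mul (h.inG_mul iFk ix) i7) ia) (h.inG_mul id' ix),
        h.el_mul (h.inG_mul (h.inG_mul iFk ix) i7) ia, h.el_mul (h.inG_mul iFk ix) i7, h.el_mul iFk ix,
        h.el_mul id' ix, h.el_mul (h.inG_mul ix id') (h.inG_mul ix id'), h.el_mul ix id',
        el_pc h iFk, efk, ed, ea, ← hx, ← map_pow]
      simp only [← map_mul]
      rw [eId]
  have c := imgOk_eq
  simp only [imgOk, force_eq] at c
  have hkmem : k ∈ ([1, 3, 5, 7] : List ℕ) := by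
    simp only [List.mem_cons, List.not_mem_nil, or_false]
    omega
  have c2 := all_range (List.all_eq_true.1 c k hkmem) hi
  rw [Bool.or_eq_true, Bool.and_eq_true] at c2
  rcases c2 with c2 | ⟨hk1, c3⟩
  · rw [show imgCond (pc cF 4) (pc cF k) (pc (pc cF k) 6) (pc (pc cF k) 2) (pc (pc cF k) 7) (hg 0) (tl i) = true
      from cond] at c2
    exact absurd c2 (by simp)
  obtain ⟨j, -, c4⟩ := List.any_eq_true.1 c3
  have e3 := ev (ω := ω) c4
  rw [h.el_mul ix (inG_pc h iF j), h.el_mul (inG_pc h iF j) (show InG ω cD1 from h.inG_codeD _), el_pc h iF, ← hx] at e3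
  set g3 := (fT ω ^ j)⁻¹
  have hfix3 : MulAut.conj g3 * φ2 = 1 := by
    refine eq_one_of_fix h _ ?_ ?_
    · show g3 * φ2 (fT ω) * g3⁻¹ = fT ω
      rw [hk, Nat.eq_of_beq_eq_true hk1, pow_one]
      simp only [g3, inv_inv]
      group
    · show g3 * φ2 (el ω cD1) * g3⁻¹ = el ω cD1
      simp only [g3, inv_inv]
      rw [mul_assoc]
      exact inv_mul_eq_iff_eq_mul.2 e3
  refine ⟨(g3 * g2 * g1)⁻¹, ?_⟩
  rw [map_inv, eq_comm, inv_eq_iff_mul_eq_one, map_mul, map_mul, mul_assoc, mul_assoc]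
  rw [hφ2, hφ1] at hfix3
  exact hfix3

end Cfsg.Agent.Lib.J3.Outer
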