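import Cfsg.Agent.Lib.J3.Out

/-!
Complex conjugation of the triple cover of the third Janko group, lifting of automorphisms to the triple
cover, and the outer automorphism group.
-/

set_option autoImplicit false
set_option linter.unusedSectionVars false

namespace Cfsg.Agent.Lib.J3.Outer

open Cfsg.Spor Cfsg.Agent.Lib.J3 Cfsg.Agent.Lib.J3.Mult Matrix
open scoped MatrixGroups commutatorElement

universe u

variable {F : Type u} [Field F] [Finite F] {ω : F}

/-- Complex conjugation of the index set as a permutation. -/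
def cjEquiv : F9 ≃ F9 where
  toFun := cj
  invFun := cj
  left_inv z := by simp [cj]
  right_inv z := by simp [cj]

/-- Complex conjugation on matrices. -/
noncomputable def conjRing (h : Fld F ω) : Matrix F9 F9 F →* Matrix F9 F9 F where
  toFun M := (M.map h.frob).submatrix cjEquiv cjEquiv
  map_one' := by rw [Matrix.map_one _ (map_zero h.frob) (map_one h.frob), submatrix_one_equiv]
  map_mul' M N := by rw [Matrix.map_mul, submatrix_mul_equiv]

theorem conjRing_injective (h : Fld F ω) : Function.Injective (conjRing h) := by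
  intro M N e
  ext i j
  have := congrFun (congrFun e (cjEquiv.symm i)) (cjEquiv.symm j)
  exact (RingHom.injective h.frob) (by simpa [conjRing] using this)

/-- Complex conjugation on the general linear group. -/
noncomputable def conjGL (h : Fld F ω) : GL F9 F →* GL F9 F := Units.map (conjRing h)

theorem conjRing_code (h : Fld F ω) {a b : ℕ} (hab : IsConjCode a b) :
    conjRing h (toMat ω a) = toMat ω b := by
  ext w z
  show h.frob (toMat ω a (cj w) (cj z)) = toMat ω b w z
  rw [toMat_apply, toMat_apply, hab w z, h.phi_conjD (dig_lt _ _)]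
  rfl

theorem conjGL_mem (h : Fld F ω) {g : GL F9 F} (hg : g ∈ threeJ3 F ω) : conjGL h g ∈ threeJ3 F ω := by
  have hle : threeJ3 F ω ≤ (threeJ3 F ω).comap (conjGL h) := by
    refine (Subgroup.closure_le _).2 ?_
    intro g hg'
    have key : ∀ {a b : ℕ}, g.val = toMat ω a → IsConjCode a b → InG ω b → g ∈ (threeJ3 F ω).comap (conjGL h) := by
      intro a b ha hab ⟨y, hy⟩
      rw [Subgroup.mem_comap, show conjGL h g = y from Units.ext ?_]
      · exact y.2
      · show conjRing h g.val = _
        rw [ha, conjRing_code h hab, hy]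
    obtain ⟨c1, c2, c3, c4, c5, -⟩ := conj_codes
    rcases hg' with ((((⟨Z, hZ⟩ | ⟨Z, hZ⟩) | ⟨Z, hZ⟩) | ⟨Z, hn, hZ⟩) | ⟨Z, hn, hZ⟩)
    · obtain ⟨W, hW⟩ := c1 Z
      exact key (hZ.symm.trans (h.toMat_codeA Z).symm) hW (h.inG_codeA W)
    · obtain ⟨W, hW⟩ := c2 Z
      exact key (hZ.symm.trans (h.toMat_codeE Z).symm) hW (h.inG_mul (h.inG_codeE W) (h.inG_codeE W))
    · obtain ⟨W, hW⟩ := c3 Z
      exact key (hZ.symm.trans (h.toMat_codeD Z).symm) hW (h.inG_codeD W)
    · obtain ⟨W, hW0, hW⟩ := c4 Z hn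
      exact key (hZ.trans (h.toMat_codeB hn).symm) hW (h.inG_codeB hW0)
    · obtain ⟨W, hW0, hW⟩ := c5 Z hn
      exact key (hZ.trans (h.toMat_codeC hn).symm) hW (h.inG_codeC hW0)
  exact hle hg

/-- Complex conjugation on the triple cover. -/
noncomputable def beta (h : Fld F ω) : MulAut (threeJ3 F ω) :=
  MulEquiv.ofBijective
    (((conjGL h).comp (threeJ3 F ω).subtype).codRestrict _ fun g => conjGL_mem h g.2) <| by
    refine Finite.injective_iff_bijective.1 fun a b e => val_inj (conjRing_injective h ?_)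
    exact congrArg (fun t : threeJ3 F ω => (t : GL F9 F).val) e

theorem beta_scal (h : Fld F ω) : beta h (scalGen ω) = scalGen ω * scalGen ω ∧ scalGen ω * scalGen ω ≠ scalGen ω := by
  obtain ⟨-, -, -, -, -, c6⟩ := conj_codes
  obtain ⟨-, -, -, -, -, -, -, -, -, -, -, -, -, hne⟩ := rel h
  refine ⟨?_, fun e => hne (h.el_inj h.inG_omega (h.inG_mul h.inG_omega h.inG_omega) (getM_lt _ _) (mul_lt _ _)
    (by rw [h.el_mul h.inG_omega h.inG_omega]; exact e.symm))⟩
  apply val_inj
  show conjRing h (scalGen ω : GL F9 F).val = _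
  rw [scalGen, el_val h.inG_omega, conjRing_code h c6, ← el_val (h.inG_mul h.inG_omega h.inG_omega),
    h.el_mul h.inG_omega h.inG_omega]

/-- The triple cover is perfect. -/
theorem commutator_top (h : Fld F ω) : commutator (threeJ3 F ω) = ⊤ := by
  rcases h.normal_cases (commutator (threeJ3 F ω)) (by
    rw [h.center_eq, Subgroup.zpowers_le]; exact scalGen_mem_commutator h) with e | e
  · exfalso
    have R := threeRel h
    have hA : el ω cA1 ∈ Subgroup.center (threeJ3 F ω) := by
      have hc : el ω cD1 * el ω cE * (el ω cD1)⁻¹ * (el ω cE)⁻¹ ∈ Subgroup.center (threeJ3 F ω) := by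
        rw [← e, commutator_def, ← commutatorElement_def]
        exact Subgroup.commutator_mem_commutator (Subgroup.mem_top _) (Subgroup.mem_top _)
      have e1 : el ω cD1 * el ω cE * (el ω cD1)⁻¹ * (el ω cE)⁻¹ = el ω cA1 * scalGen ω := by
        rw [R.d1e, mul_inv_cancel_right, mul_assoc (el ω cE), (R.ea1.mul_right (R.cc _)).eq, mul_inv_cancel_right]
      rw [e1] at hc
      exact (Subgroup.mul_mem_cancel_right _ h.scalGen_central).1 hc
    have h1 := R.a1d1
    rw [commutatorElement_eq_one_iff_mul_comm.2 (Subgroup.mem_center_iff.1 hA (el ω cD1)).symm] at h1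
    have h2 := (beta_scal h).2
    rw [← h1, mul_one] at h2
    exact h2 rfl
  · exact e

theorem trivial_multiplier_here (h : Fld F ω) : Cfsg.HasCyclicSchurMultiplier (threeJ3 F ω) 1 := by
  haveI : Small.{0} (threeJ3 F ω) := by
    obtain ⟨k, ⟨f⟩⟩ := Finite.exists_equiv_fin (threeJ3 F ω)
    exact small_map f
  let e : threeJ3 F ω ≃* Shrink.{0} (threeJ3 F ω) := (Shrink.mulEquiv (α := _)).symm
  haveI : Finite (Shrink.{0} (threeJ3 F ω)) := Finite.of_equiv _ e.toEquiv
  have hker : e.symm.toMonoidHom.ker = ⊥ := (MonoidHom.ker_eq_bot_iff _).2 e.symm.injective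
  haveI : IsCyclic e.symm.toMonoidHom.ker := by rw [hker]; infer_instance
  exact Cfsg.Agent.SimpleFacts.SchurFromCover.hasCyclic_of_cover e.symm.toMonoidHom
    ⟨e.symm.surjective, by rw [hker]; exact bot_le, by rw [hker]; exact bot_le⟩
    (trivial_multiplier h _ e) 1 (by rw [hker, Subgroup.card_bot])

/-- Two automorphisms with the same action on the quotient are equal. -/
theorem lift_unique (h : Fld F ω) (a b : MulAut (threeJ3 F ω))
    (hab : ∀ g, QuotientGroup.mk' (Subgroup.center (threeJ3 F ω)) (a g) =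
      QuotientGroup.mk' (Subgroup.center (threeJ3 F ω)) (b g)) : a = b :=
  MulEquiv.ext fun g => Cfsg.Agent.GenA.Schur.eq_on_commutator a.toMonoidHom b.toMonoidHom
    (fun x => QuotientGroup.eq.1 (hab x)) (by rw [commutator_top h]; exact Subgroup.mem_top g)

/-- Automorphisms lift to the triple cover. -/
theorem exists_lift (h : Fld F ω) (α : MulAut (J3 F ω)) : ∃ a : MulAut (threeJ3 F ω),
    ∀ g, QuotientGroup.mk' (Subgroup.center (threeJ3 F ω)) (a g) =
      α (QuotientGroup.mk' (Subgroup.center (threeJ3 F ω)) g) := by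
  set π := QuotientGroup.mk' (Subgroup.center (threeJ3 F ω)) with hπ
  let P : Subgroup (threeJ3 F ω × threeJ3 F ω) :=
    (π.comp (MonoidHom.snd _ _)).eqLocus ((α.toMonoidHom.comp π).comp (MonoidHom.fst _ _))
  let pr : P →* threeJ3 F ω := (MonoidHom.fst _ _).comp P.subtype
  have hpr : Function.Surjective pr := fun g => by
    obtain ⟨g', hg'⟩ := QuotientGroup.mk'_surjective _ (α (π g))
    exact ⟨⟨(g, g'), hg'⟩, rfl⟩
  have hcen : pr.ker ≤ Subgroup.center P := by
    rintro ⟨⟨x, y⟩, hxy⟩ hx
    have hx1 : x = 1 := hx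
    subst hx1
    have hy : π y = α (π 1) := hxy
    rw [map_one, map_one, hπ, QuotientGroup.mk'_apply, QuotientGroup.eq_one_iff] at hy
    rw [Subgroup.mem_center_iff]
    rintro ⟨⟨a, b⟩, -⟩
    exact Subtype.ext (Prod.ext (show a * 1 = 1 * a by simp) (Subgroup.mem_center_iff.1 hy b))
  let τ : commutator P →* threeJ3 F ω := pr.comp (commutator P).subtype
  have hmap : (commutator P).map pr = ⊤ := by
    rw [commutator_def, Subgroup.map_commutator, Subgroup.map_top_of_surjective _ hpr, ← commutator_def,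
      commutator_top h]
  have hτs : Function.Surjective τ := fun g => by
    obtain ⟨x, hx, e⟩ := (hmap.symm ▸ Subgroup.mem_top g : g ∈ (commutator P).map pr)
    exact ⟨⟨x, hx⟩, e⟩
  have hτc : τ.ker ≤ Subgroup.center (commutator P) := by
    intro x hx
    rw [Subgroup.mem_center_iff]
    intro y
    exact Subtype.ext (Subgroup.mem_center_iff.1 (hcen (show x.1 ∈ pr.ker from hx)) y.1)
  have hperf : commutator (commutator P) = ⊤ := by
    rw [eq_top_iff]
    rintro ⟨x, hx⟩ -
    have hgen : ∀ p : P, ∃ q ∈ commutator P, ∃ z ∈ Subgroup.center P, p = q * z := by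
      intro p
      obtain ⟨q, hq, e⟩ := (hmap.symm ▸ Subgroup.mem_top (pr p) : pr p ∈ (commutator P).map pr)
      exact ⟨q, hq, q⁻¹ * p, hcen (by rw [MonoidHom.mem_ker, map_mul, map_inv, e, inv_mul_cancel]),
        (mul_inv_cancel_left _ _).symm⟩
    have hle : (⁅(⊤ : Subgroup P), (⊤ : Subgroup P)⁆ : Subgroup P) ≤
        (commutator (commutator P)).map (commutator P).subtype := by
      rw [Subgroup.commutator_le]
      intro p _ p' _
      obtain ⟨q, hq, z, hz, rfl⟩ := hgen p
      obtain ⟨q', hq', z', hz', rfl⟩ := hgen p'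
      rw [Lift.comm_mul_central (Subgroup.mem_center_iff.1 hz q).symm (Subgroup.mem_center_iff.1 hz q').symm
        (Subgroup.mem_center_iff.1 hz' q).symm (Subgroup.mem_center_iff.1 hz' q').symm
        (Subgroup.mem_center_iff.1 hz z').symm]
      exact ⟨⁅(⟨q, hq⟩ : commutator P), (⟨q', hq'⟩ : commutator P)⁆, Subgroup.commutator_mem_commutator
        (Subgroup.mem_top _) (Subgroup.mem_top _), map_commutatorElement _ _ _⟩
    obtain ⟨y, hy, e⟩ := hle (by rwa [commutator_def] at hx)
    rwa [show (⟨x, hx⟩ : commutator P) = y from Subtype.ext e.symm]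
  obtain ⟨ρ, hρ⟩ := (trivial_multiplier_here h).2 (commutator P) τ ⟨hτs, hτc, by rw [hperf]; exact le_top⟩
  have hτi : Function.Injective τ := by
    rw [← MonoidHom.ker_eq_bot_iff, eq_bot_iff]
    intro x hx
    obtain ⟨y, hy⟩ := hρ ⟨x, hx⟩
    rw [Subsingleton.elim y 1, map_one] at hy
    exact Subgroup.mem_bot.2 (congrArg Subtype.val hy).symm
  let s := (MulEquiv.ofBijective τ ⟨hτi, hτs⟩).symm
  let a : threeJ3 F ω →* threeJ3 F ω :=
    ((MonoidHom.snd _ _).comp P.subtype).comp ((commutator P).subtype.comp s.toMonoidHom)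
  have ha : ∀ g, π (a g) = α (π g) := by
    intro g
    have h1 : τ (s g) = g := (MulEquiv.ofBijective τ ⟨hτi, hτs⟩).apply_symm_apply g
    conv_rhs => rw [← h1]
    exact (s g).1.2
  have hsurj : Function.Surjective a := by
    rw [← MonoidHom.range_eq_top, eq_top_iff, ← commutator_top h, commutator_def, Subgroup.commutator_le]
    intro x _ y _
    obtain ⟨x', hx'⟩ := QuotientGroup.mk'_surjective _ (α.symm (π x))
    obtain ⟨y', hy'⟩ := QuotientGroup.mk'_surjective _ (α.symm (π y))
    have hz : ∀ {u v : threeJ3 F ω}, π v = α.symm (π u) → (a v)⁻¹ * u ∈ Subgroup.center (threeJ3 F ω) :=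
      fun {u v} e => QuotientGroup.eq.1 (show π (a v) = π u by rw [ha, e, α.apply_symm_apply])
    have e1 : x = a x' * ((a x')⁻¹ * x) := (mul_inv_cancel_left _ _).symm
    have e2 : y = a y' * ((a y')⁻¹ * y) := (mul_inv_cancel_left _ _).symm
    have hc1 := Subgroup.mem_center_iff.1 (hz hx')
    have hc2 := Subgroup.mem_center_iff.1 (hz hy')
    rw [e1, e2, Lift.comm_mul_central (hc1 (a x')).symm (hc1 (a y')).symm (hc2 (a x')).symm (hc2 (a y')).symm
      (hc2 _), ← map_commutatorElement]
    exact ⟨_, rfl⟩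
  exact ⟨MulEquiv.ofBijective a (Finite.surjective_iff_bijective.1 hsurj), ha⟩

/-- The outer automorphism group has order two. -/
theorem card_out (h : Fld F ω) : Nat.card (Cfsg.Out (J3 F ω)) = 2 := by
  set π := QuotientGroup.mk' (Subgroup.center (threeJ3 F ω)) with hπ
  have hchar : (Subgroup.center (threeJ3 F ω)).map (beta h).toMonoidHom = Subgroup.center (threeJ3 F ω) :=
    Subgroup.characteristic_iff_map_eq.1 inferInstance (beta h)
  set b : MulAut (J3 F ω) := QuotientGroup.congr _ _ (beta h) hchar with hb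
  have hbπ : ∀ g, b (π g) = π (beta h g) := fun g => rfl
  have hfix : ∀ g : threeJ3 F ω, MulAut.conj g (scalGen ω) = scalGen ω := fun g => by
    rw [MulAut.conj_apply, Subgroup.mem_center_iff.1 h.scalGen_central g, mul_inv_cancel_right]
  have hnb : b ∉ Cfsg.Inn (J3 F ω) := by
    rintro ⟨q, hq⟩
    obtain ⟨g, rfl⟩ := QuotientGroup.mk'_surjective _ q
    have e : beta h = MulAut.conj g := lift_unique h _ _ fun x => by
      rw [← hπ, ← hbπ, ← hq]
      simp [MulAut.conj_apply, hπ]
    have h2 := beta_scal h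
    rw [e, hfix] at h2
    exact h2.2 h2.1.symm
  have hcases : ∀ α : MulAut (J3 F ω), α ∈ Cfsg.Inn (J3 F ω) ∨ b⁻¹ * α ∈ Cfsg.Inn (J3 F ω) := by
    intro α
    obtain ⟨a, ha⟩ := exists_lift h α
    have key : ∀ (γ : MulAut (threeJ3 F ω)) (δ : MulAut (J3 F ω)), (∀ g, π (γ g) = δ (π g)) →
        γ (scalGen ω) = scalGen ω → δ ∈ Cfsg.Inn (J3 F ω) := by
      intro γ δ hγ hc
      obtain ⟨g, hg⟩ := inner_of_scal h γ hc
      refine ⟨π g, MulEquiv.ext fun x => ?_⟩
      obtain ⟨x, rfl⟩ := QuotientGroup.mk'_surjective _ x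
      rw [← hπ, ← hγ, hg]
      simp [MulAut.conj_apply]
    have hmem : a (scalGen ω) ∈ Subgroup.center (threeJ3 F ω) := by
      rw [← Subgroup.characteristic_iff_map_eq.1 (inferInstance :
        (Subgroup.center (threeJ3 F ω)).Characteristic) a]
      exact ⟨_, h.scalGen_central, rfl⟩
    rw [h.center_eq, ← mem_powers_iff_mem_zpowers] at hmem
    obtain ⟨m, hm⟩ := hmem
    have hm' : a (scalGen ω) = scalGen ω ^ (m % 3) := by
      rw [← pow_eq_pow_mod m h.scalGen_cube]; exact hm.symm
    have : m % 3 < 3 := Nat.mod_lt _ (by norm_num)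
    interval_cases hcase : m % 3
    · exfalso
      rw [pow_zero] at hm'
      have e1 : scalGen ω = 1 := a.injective (hm'.trans (map_one a).symm)
      exact (beta_scal h).2 (by rw [e1, one_mul])
    · exact Or.inl (key a α ha (by rw [hm', pow_one]))
    · right
      refine key ((beta h)⁻¹ * a) _ (fun g => ?_) ?_
      · apply b.injective
        rw [hbπ]
        show π (beta h ((beta h).symm (a g))) = b (b.symm (α (π g)))
        rw [(beta h).apply_symm_apply, b.apply_symm_apply, ha]
      · show (beta h).symm (a (scalGen ω)) = scalGen ω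
        rw [MulEquiv.symm_apply_eq, hm', (beta_scal h).1, pow_two]
  have : (Cfsg.Inn (J3 F ω)).index = 2 := by
    refine Subgroup.index_eq_two_iff.2 ⟨b⁻¹, fun α => ?_⟩
    have hb' : b⁻¹ ∉ Cfsg.Inn (J3 F ω) := fun hh => hnb (inv_mem_iff.1 hh)
    by_cases hα : α ∈ Cfsg.Inn (J3 F ω)
    · refine Or.inr ⟨hα, fun hh => hb' ?_⟩
      exact ((Cfsg.Inn (J3 F ω)).mul_mem_cancel_left hα).1 hh
    · refine Or.inl ⟨?_, hα⟩
      have := (hcases α).resolve_left hα
      have e : α * b⁻¹ = α * (b⁻¹ * α) * α⁻¹ := by group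
      rw [e]
      exact (Cfsg.innNormal (J3 F ω)).conj_mem _ this α
  rw [← this]
  rfl

end Cfsg.Agent.Lib.J3.Outer
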