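import Cfsg.Prelude.Def_Spor_J3

/-!
Nine by nine matrices over the field with four elements, indexed by pairs of residues modulo three, in one
natural number: eighteen bits for each row, nine for the constant parts and nine for the parts at `ω`.
-/

set_option autoImplicit false

namespace Cfsg.Agent.Lib.J3

open Cfsg.Spor

/-- The place of an index. -/
def pos (z : F9) : ℕ := 3 * z.1.val + z.2.val

/-- A bit as a Boolean, fast for the kernel. -/
def bit' (r k : ℕ) : Bool := Nat.beq ((r >>> k) &&& 1) 1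

theorem bit'_eq (r k : ℕ) : bit' r k = r.testBit k := by
  rw [Nat.testBit_eq_decide_div_mod_eq, bit', Nat.shiftRight_eq_div_pow, Nat.and_one_is_mod]
  cases h : Nat.beq (r / 2 ^ k % 2) 1
  · rw [eq_comm, decide_eq_false_iff_not]
    intro h'
    rw [h'] at h
    exact Bool.false_ne_true (h.symm.trans (Nat.beq_refl 1))
  · rw [eq_comm, decide_eq_true_iff]
    exact Nat.eq_of_beq_eq_true h

/-- All ones in one row. -/
def rowMask : ℕ := 2 ^ 18 - 1

/-- A row. -/
def row (a i : ℕ) : ℕ := (a >>> (18 * i)) &&& rowMask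

/-- Multiply a row by `ω`. -/
def w1 (r : ℕ) : ℕ := (r >>> 9) ||| (((r &&& 511) ^^^ (r >>> 9)) <<< 9)

/-- The contribution of one entry. -/
def term (r b k : ℕ) : ℕ := cond (bit' r k) b 0 ^^^ cond (bit' r (9 + k)) (w1 b) 0

/-- A row times a matrix. -/
def mulRow (r b : ℕ) : ℕ :=
  (term r (row b 0) 0 ^^^ term r (row b 1) 1 ^^^ term r (row b 2) 2 ^^^ term r (row b 3) 3 ^^^
    term r (row b 4) 4 ^^^ term r (row b 5) 5 ^^^ term r (row b 6) 6 ^^^ term r (row b 7) 7 ^^^
    term r (row b 8) 8) &&& rowMask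

/-- Put nine rows together. -/
def join (f : ℕ → ℕ) : ℕ :=
  f 0 <<< (18 * 0) ||| f 1 <<< (18 * 1) ||| f 2 <<< (18 * 2) ||| f 3 <<< (18 * 3) ||| f 4 <<< (18 * 4) |||
    f 5 <<< (18 * 5) ||| f 6 <<< (18 * 6) ||| f 7 <<< (18 * 7) ||| f 8 <<< (18 * 8)

/-- Evaluate a number before it is used. -/
def force {α : Type} (n : ℕ) (k : ℕ → α) : α :=
  match n with
  | 0 => k 0
  | m + 1 => k (m + 1)

theorem force_eq {α : Type} (n : ℕ) (k : ℕ → α) : force n k = k n := by cases n <;> rfl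

/-- Product. -/
def mul (a b : ℕ) : ℕ := force a fun a => force b fun b => join fun i => mulRow (row a i) b


/-- Product of a list. -/
def mulList : List ℕ → ℕ
  | [] => 0x100002000040000800010000200004000080001
  | a :: l => mul a (mulList l)

theorem testBit_mask {r k : ℕ} (hk : k < 18) : (r &&& rowMask).testBit k = r.testBit k := by
  rw [rowMask, Nat.testBit_land, Nat.testBit_two_pow_sub_one]
  simp [hk]

theorem testBit_row {a i k : ℕ} (hk : k < 18) : (row a i).testBit k = a.testBit (18 * i + k) := by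
  rw [row, testBit_mask hk, Nat.testBit_shiftRight]

theorem row_lt (a i : ℕ) : row a i < 2 ^ 18 := lt_of_le_of_lt Nat.and_le_right (by decide)

theorem testBit_row_ge {a i k : ℕ} (hk : 18 ≤ k) : (row a i).testBit k = false :=
  Nat.testBit_lt_two_pow (lt_of_lt_of_le (row_lt a i) (Nat.pow_le_pow_right (by norm_num) hk))

theorem row_join (f : ℕ → ℕ) (hf : ∀ i, f i < 2 ^ 18) {i : ℕ} (hi : i < 9) : row (join f) i = f i := by
  have hb : ∀ j k, 18 ≤ k → (f j).testBit k = false := fun j k hk =>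
    Nat.testBit_lt_two_pow (lt_of_lt_of_le (hf j) (Nat.pow_le_pow_right (by norm_num) hk))
  apply Nat.eq_of_testBit_eq
  intro k
  by_cases hk : k < 18
  · have sh : ∀ j, (f j <<< (18 * j)).testBit (18 * i + k) = (decide (j = i) && (f i).testBit k) := by
      intro j
      rw [Nat.testBit_shiftLeft]
      rcases lt_trichotomy j i with hj | rfl | hj
      · rw [hb j _ (by omega)]
        simp [hj.ne]
      · simp
      · simp [hj.ne', show ¬ 18 * j ≤ 18 * i + k by omega]
    rw [testBit_row hk, join]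
    simp only [Nat.testBit_lor, sh]
    interval_cases i <;> simp
  · rw [testBit_row_ge (not_lt.1 hk), hb i k (not_lt.1 hk)]

theorem mul_eq (a b : ℕ) : mul a b = join fun i => mulRow (row a i) b := by simp only [mul, force_eq]

theorem mul_lt (a b : ℕ) : mul a b < 2 ^ 162 := by
  have h : ∀ i j, i ≤ 8 → mulRow (row a j) b <<< (18 * i) < 2 ^ 162 := fun i j hi => by
    rw [Nat.shiftLeft_eq]
    calc _ < 2 ^ 18 * 2 ^ (18 * i) :=
          Nat.mul_lt_mul_of_pos_right (lt_of_le_of_lt Nat.and_le_right (by decide)) (Nat.two_pow_pos _)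
      _ ≤ 2 ^ 162 := by rw [← pow_add]; exact Nat.pow_le_pow_right (by norm_num) (by omega)
  rw [mul_eq, join]
  exact Nat.or_lt_two_pow (Nat.or_lt_two_pow (Nat.or_lt_two_pow (Nat.or_lt_two_pow (Nat.or_lt_two_pow
    (Nat.or_lt_two_pow (Nat.or_lt_two_pow (Nat.or_lt_two_pow (h 0 _ (by norm_num)) (h 1 _ (by norm_num)))
      (h 2 _ (by norm_num))) (h 3 _ (by norm_num))) (h 4 _ (by norm_num))) (h 5 _ (by norm_num)))
      (h 6 _ (by norm_num))) (h 7 _ (by norm_num))) (h 8 _ (by norm_num))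

theorem row_mul (a b : ℕ) {i : ℕ} (hi : i < 9) : row (mul a b) i = mulRow (row a i) b := by
  rw [mul_eq]
  exact row_join _ (fun _ => lt_of_le_of_lt Nat.and_le_right (by decide)) hi

section Field

variable {F : Type*} [Field F]

/-- A Boolean in the field. -/
def bv (b : Bool) : F := cond b 1 0

/-- An entry of a row. -/
def ent (ω : F) (r j : ℕ) : F := bv (r.testBit j) + bv (r.testBit (9 + j)) * ω

/-- The matrix. -/
def toMat (ω : F) (a : ℕ) : Matrix F9 F9 F := Matrix.of fun i j => ent ω (row a (pos i)) (pos j)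

/-- What is assumed about the field. -/
structure Fld (F : Type*) [Field F] (ω : F) : Prop where
  two : (1 : F) + 1 = 0
  omega : ω * ω = 1 + ω

theorem Fld.of_card [Fintype F] (hF : Fintype.card F = 4) {ω : F} (hω : ω ^ 2 + ω + 1 = 0) :
    Fld F ω := by
  have h4 : ((4 : ℕ) : F) = 0 := hF ▸ Nat.cast_card_eq_zero F
  have h2 : (1 : F) + 1 = 0 := by
    refine pow_eq_zero_iff (n := 2) two_ne_zero |>.1 ?_
    rw [← h4]; push_cast; ring
  refine ⟨h2, ?_⟩
  linear_combination hω - (1 + ω) * h2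

variable {ω : F}

theorem Fld.bv_xor (h : Fld F ω) (x y : Bool) : (bv (x ^^ y) : F) = bv x + bv y := by
  cases x <;> cases y <;> simp [bv, h.two]

theorem Fld.ent_xor (h : Fld F ω) (a b j : ℕ) : ent ω (a ^^^ b) j = ent ω a j + ent ω b j := by
  simp only [ent, Nat.testBit_xor, h.bv_xor]
  ring

theorem ent_zero (j : ℕ) : ent ω 0 j = 0 := by simp [ent, bv]

theorem ent_mask (r : ℕ) {j : ℕ} (hj : j < 9) : ent ω (r &&& rowMask) j = ent ω r j := by
  rw [ent, ent, testBit_mask (by omega), testBit_mask (by omega)]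

theorem Fld.ent_w1 (h : Fld F ω) {r : ℕ} (hr : r < 2 ^ 18) {j : ℕ} (hj : j < 9) :
    ent ω (w1 r) j = ω * ent ω r j := by
  have e511 : (511 : ℕ) = 2 ^ 9 - 1 := by norm_num
  have hl : (w1 r).testBit j = r.testBit (9 + j) := by
    rw [w1, Nat.testBit_lor, Nat.testBit_shiftRight, Nat.testBit_shiftLeft]
    simp [not_le.2 hj]
  have hz : r.testBit (9 + (9 + j)) = false :=
    Nat.testBit_lt_two_pow (lt_of_lt_of_le hr (Nat.pow_le_pow_right (by norm_num) (by omega)))
  have hh : (w1 r).testBit (9 + j) = (r.testBit j ^^ r.testBit (9 + j)) := by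
    rw [w1, Nat.testBit_lor, Nat.testBit_shiftRight, Nat.testBit_shiftLeft, Nat.testBit_xor,
      Nat.testBit_land, Nat.testBit_shiftRight, e511, Nat.testBit_two_pow_sub_one,
      show 9 + j - 9 = j by omega]
    simp [hj, hz]
  simp only [ent, hl, hh, h.bv_xor]
  linear_combination -(bv (r.testBit (9 + j)) : F) * h.omega

theorem Fld.ent_term (h : Fld F ω) (r : ℕ) {b : ℕ} (hb : b < 2 ^ 18) (k : ℕ) {j : ℕ} (hj : j < 9) :
    ent ω (term r b k) j = ent ω r k * ent ω b j := by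
  have hc : ∀ (c : Bool) (x : ℕ), ent ω (cond c x 0) j = bv c * ent ω x j := by
    intro c x
    cases c <;> simp [bv, ent_zero]
  rw [term, bit'_eq, bit'_eq, h.ent_xor, hc, hc, h.ent_w1 hb hj]
  simp only [ent]
  ring

theorem sum_F9 (f : F9 → F) : ∑ z, f z = f (0, 0) + f (0, 1) + f (0, 2) + f (1, 0) + f (1, 1) +
    f (1, 2) + f (2, 0) + f (2, 1) + f (2, 2) := by
  rw [Fintype.sum_prod_type]
  show ∑ x : Fin 3, ∑ y : Fin 3, f (x, y) = _
  simp only [Fin.sum_univ_three]
  ring!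

theorem pos_lt (z : F9) : pos z < 9 := by
  have h1 := ZMod.val_lt z.1
  have h2 := ZMod.val_lt z.2
  unfold pos
  omega

theorem Fld.toMat_mul (h : Fld F ω) (a b : ℕ) : toMat ω (mul a b) = toMat ω a * toMat ω b := by
  ext i j
  rw [Matrix.mul_apply, sum_F9]
  show ent ω (row (mul a b) (pos i)) (pos j) = _
  have hj := pos_lt j
  rw [row_mul a b (pos_lt i), mulRow, ent_mask _ hj]
  simp only [h.ent_xor, h.ent_term _ (row_lt _ _) _ hj]
  rfl

theorem toMat_inj (h : Fld F ω) {a b : ℕ} (ha : a < 2 ^ 162) (hb : b < 2 ^ 162)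
    (hab : toMat ω a = toMat ω b) : a = b := by
  have hne : ω ≠ 0 := fun h0 => by simpa [h0] using h.omega
  have hne1 : ω ≠ 1 := fun h1 => by
    have := h.omega
    rw [h1, h.two, mul_one] at this
    exact one_ne_zero this
  have key : ∀ x y x' y' : Bool, (bv x + bv y * ω : F) = bv x' + bv y' * ω → x = x' ∧ y = y' := by
    have h1 : (1 : F) + ω ≠ 0 := fun h0 => hne1 (by linear_combination h0 - h.two)
    intro x y x' y' e
    cases x <;> cases y <;> cases x' <;> cases y' <;> simp [bv] at e ⊢ <;>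
      first
      | exact hne (by linear_combination e)
      | exact hne (by linear_combination -e)
      | exact one_ne_zero e
      | exact one_ne_zero e.symm
      | exact hne1 e
      | exact hne1 e.symm
      | exact h1 e
      | exact h1 e.symm
  apply Nat.eq_of_testBit_eq
  intro k
  by_cases hk : k < 162
  · obtain ⟨i, hi, m, hm, rfl⟩ : ∃ i, i < 9 ∧ ∃ m, m < 18 ∧ k = 18 * i + m :=
      ⟨k / 18, by omega, k % 18, by omega, (Nat.div_add_mod k 18).symm⟩
    rw [← testBit_row hm, ← testBit_row hm]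
    obtain ⟨zi, rfl⟩ : ∃ z : F9, pos z = i := by
      interval_cases i
      exacts [⟨(0, 0), rfl⟩, ⟨(0, 1), rfl⟩, ⟨(0, 2), rfl⟩, ⟨(1, 0), rfl⟩, ⟨(1, 1), rfl⟩,
        ⟨(1, 2), rfl⟩, ⟨(2, 0), rfl⟩, ⟨(2, 1), rfl⟩, ⟨(2, 2), rfl⟩]
    obtain ⟨c, hc, hcm⟩ : ∃ c, c < 9 ∧ (m = c ∨ m = 9 + c) := ⟨m % 9, by omega, by omega⟩
    obtain ⟨zj, rfl⟩ : ∃ z : F9, pos z = c := by
      interval_cases c
      exacts [⟨(0, 0), rfl⟩, ⟨(0, 1), rfl⟩, ⟨(0, 2), rfl⟩, ⟨(1, 0), rfl⟩, ⟨(1, 1), rfl⟩,
        ⟨(1, 2), rfl⟩, ⟨(2, 0), rfl⟩, ⟨(2, 1), rfl⟩, ⟨(2, 2), rfl⟩]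
    obtain ⟨e1, e2⟩ := key _ _ _ _ (congrFun (congrFun hab zi) zj)
    rcases hcm with rfl | rfl
    · exact e1
    · exact e2
  · have e := Nat.pow_le_pow_right (show 2 > 0 by norm_num) (not_lt.1 hk)
    rw [Nat.testBit_lt_two_pow (lt_of_lt_of_le ha e), Nat.testBit_lt_two_pow (lt_of_lt_of_le hb e)]

end Field

end Cfsg.Agent.Lib.J3
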